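import Cfsg.Agent.H7.Regular
import Cfsg.Agent.H7.TwoGen
import Cfsg.Agent.H3.Metacyclic
import Cfsg.Agent.H3.RankOne
import Cfsg.Agent.H4.SubCount
import Cfsg.Agent.H2.MaxClass
import Cfsg.Agent.H1.Coprime

/-! Odd `p`-groups with cyclic derived subgroup are regular; power structure of metacyclic
`p`-groups. -/

set_option autoImplicit false

namespace Cfsg.Agent.H5

open Subgroup
open scoped commutatorElement

variable {G : Type*} [Group G] {p : ℕ}

theorem pow_dvd_pow_mul_choose (hp : p.Prime) (hp2 : p ≠ 2) (n k : ℕ) (hk : 2 ≤ k) :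
    p ^ n ∣ p ^ (k - 2) * (p ^ n).choose k := by
  obtain ⟨v, k', hk', rfl⟩ := Nat.exists_eq_pow_mul_and_not_dvd (by omega : k ≠ 0) p hp.ne_one
  have h1 : p ^ n ∣ (p ^ n).choose (p ^ v * k') * (p ^ v * k') := by
    obtain ⟨N, hN⟩ : ∃ N, p ^ n = N + 1 := ⟨p ^ n - 1, by have := pow_pos hp.pos n; omega⟩
    obtain ⟨j, hj⟩ : ∃ j, p ^ v * k' = j + 1 := ⟨p ^ v * k' - 1, by omega⟩
    rw [hj, hN, ← Nat.add_one_mul_choose_eq]
    exact dvd_mul_right _ _
  rw [← mul_assoc] at h1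
  have h2 := (((Nat.Prime.coprime_iff_not_dvd hp).2 hk').pow_left n).dvd_of_dvd_mul_right h1
  rw [mul_comm] at h2
  refine h2.trans (mul_dvd_mul_right (pow_dvd_pow p ?_) _)
  have h3 : 3 ≤ p := by have := hp.two_le; omega
  have h4 : ∀ v : ℕ, v = 0 ∨ v + 2 ≤ 3 ^ v := fun v => by
    induction v with
    | zero => exact Or.inl rfl
    | succ v ih => rcases ih with rfl | ih <;> right <;> [norm_num; (rw [pow_succ]; omega)]
  have h5 : 0 < k' := Nat.pos_of_ne_zero (by rintro rfl; simp at hk')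
  have h6 : 3 ^ v ≤ p ^ v * k' := (Nat.pow_le_pow_left h3 v).trans (Nat.le_mul_of_pos_right _ h5)
  rcases h4 v with rfl | h <;> omega

theorem lcs_le_zpowers_pow [Finite G] [hp : Fact p.Prime] (hG : IsPGroup p G) {K : Subgroup G}
    {d : G} (hd : zpowers d = ⁅K, K⁆) (j : ℕ) :
    K.lowerCentralSeries (j + 1) ≤ zpowers (d ^ p ^ j) := by
  have h1 : ∀ g ∈ K, ∃ s : ℤ, g * d * g⁻¹ = d ^ s := fun g hg => by
    obtain ⟨s, hs⟩ : g * d * g⁻¹ ∈ zpowers d := hd ▸ H1.conj_mem_of_le_normalizer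
      (H1.le_normalizer_commutator le_normalizer le_normalizer) hg (hd ▸ mem_zpowers d)
    exact ⟨s, hs.symm⟩
  have h2 : ∀ g ∈ K, ∀ n : ℕ, ∃ s : ℤ, g * d ^ n * g⁻¹ = (d ^ n) ^ s := fun g hg n => by
    obtain ⟨s, hs⟩ := h1 g hg
    exact ⟨s, by rw [← conj_pow, hs, ← zpow_natCast, ← zpow_natCast, ← zpow_mul, ← zpow_mul,
      mul_comm]⟩
  induction j with
  | zero => rw [pow_zero, pow_one, hd]; exact le_rfl
  | succ j ih =>
    refine (commutator_mono ih le_rfl).trans (commutator_le.2 ?_)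
    rintro _ ⟨i, rfl⟩ g hg
    obtain ⟨s, hs⟩ := h2 g hg (p ^ j)
    set e := d ^ p ^ j with he
    by_cases he1 : e = 1
    · simp [he1]
    obtain ⟨k, hk⟩ := hG g
    obtain ⟨m, hm⟩ := (IsPGroup.iff_orderOf.1 hG) e
    have h3 : p ∣ orderOf e := hm ▸ dvd_pow_self p (by
      rintro rfl; exact he1 (orderOf_eq_one_iff.1 (by simpa using hm)))
    obtain ⟨t, ht⟩ := H3.dvd_exp_sub_one hp.out hs h3 hk
    refine ⟨-(t * i), ?_⟩
    simp only
    rw [pow_succ, pow_mul, ← he, commutatorElement_def, mul_assoc, mul_assoc, ← mul_assoc g,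
      ← zpow_neg, H3.conj_zpow_of_conj hs, ← zpow_add, ← zpow_natCast, ← zpow_mul]
    congr 1
    linear_combination i * ht

theorem isRegular_of_isCyclic_commutator [Finite G] [hp : Fact p.Prime] (hp2 : p ≠ 2)
    (hG : IsPGroup p G) (hc : IsCyclic (_root_.commutator G)) : IsRegularPGroup p G := by
  refine ⟨hG, fun a b n => ?_⟩
  set K := closure ({a, b} : Set G) with hK
  have ha : a ∈ K := subset_closure (by simp)
  have hb : b ∈ K := subset_closure (by simp)
  obtain ⟨d, hd⟩ := (Subgroup.isCyclic_iff_exists_zpowers_eq_top _).1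
    (Subgroup.isCyclic_of_le (H' := _root_.commutator G) (commutator_mono le_top le_top :
      ⁅K, K⁆ ≤ _root_.commutator G))
  have key := H7.pow_mul_pow_mod K (powerClosure p n ⁅K, K⁆) ha hb (p ^ n) (by
    intro k h2 _ g hg
    obtain ⟨i, rfl⟩ := lcs_le_zpowers_pow hG hd (k - 2) (by
      rwa [show k - 2 + 1 = k - 1 by omega])
    obtain ⟨c, hc⟩ := pow_dvd_pow_mul_choose hp.out hp2 n k h2
    simp only
    rw [← zpow_natCast, ← zpow_mul, mul_comm, zpow_mul, zpow_natCast, ← pow_mul, hc, pow_mul]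
    exact zpow_mem (pow_mem (H7.pow_mem_powerClosure (hd ▸ mem_zpowers d)) _) _)
  exact ⟨_, inv_mem key, by group⟩

theorem isRegular_of_card_le [Finite G] [hp : Fact p.Prime] (hG : IsPGroup p G)
    (h : Nat.card G ≤ p ^ p) : IsRegularPGroup p G := H7.isRegular_of_class_lt hG (by
  by_contra h1
  have h2 := hp.out.two_le
  have h3 := (H2.pow_le_card_of_lcs_ne_bot hG (by omega) h1).trans h
  rw [Nat.pow_le_pow_iff_right hp.out.one_lt] at h3
  omega)

theorem card_le_of_isCyclic_of_pow_eq_one [Finite G] (hp : p.Prime) (hc : IsCyclic G)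
    (h : ∀ x : G, x ^ p = 1) : Nat.card G ≤ p := by
  obtain ⟨x, hx⟩ := hc.exists_generator
  rw [← orderOf_eq_card_of_forall_mem_zpowers hx]
  exact Nat.le_of_dvd hp.pos (orderOf_dvd_of_pow_eq_one (h x))

theorem card_le_sq_of_isMetacyclic [Finite G] (hp : p.Prime) (hG : IsMetacyclic G)
    {W : Subgroup G} (h : ∀ x ∈ W, x ^ p = 1) : Nat.card W ≤ p ^ 2 := by
  obtain ⟨N, hN, h1, h2⟩ := hG
  rw [← H1.card_inf_mul_relIndex N W, L.relIndex_eq_card_map_mk', sq]
  refine Nat.mul_le_mul (card_le_of_isCyclic_of_pow_eq_one hp (Subgroup.isCyclic_of_le inf_le_left)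
    fun x => Subtype.ext (h x x.2.2)) (card_le_of_isCyclic_of_pow_eq_one hp inferInstance ?_)
  rintro ⟨_, x, hx, rfl⟩
  exact Subtype.ext (by simp [← QuotientGroup.mk_pow, h x hx])

theorem isCyclic_commutator_of_isMetacyclic (hG : IsMetacyclic G) :
    IsCyclic (_root_.commutator G) := by
  obtain ⟨N, hN, h1, h2⟩ := hG
  exact Subgroup.isCyclic_of_le
    ((Subgroup.Normal.quotient_commutative_iff_commutator_le (N := N)).1 inferInstance)

theorem card_eq_mul_ncard_pow [Finite G] [Fact p.Prime] (hG : IsRegularPGroup p G)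
    (H : Subgroup G) (hH : H7.regularOmega hG 1 ≤ H) :
    Nat.card H = Nat.card (H7.regularOmega hG 1) * ((fun x => x ^ p) '' (H : Set G)).ncard := by
  set W := H7.regularOmega hG 1 with hW
  rw [← H1.card_mul_relIndex hH, L.relIndex_eq_card_map_mk', ← Nat.card_coe_set_eq]
  congr 1
  have key : ∀ a b : G, (a : G ⧸ W) = b ↔ a ^ p = b ^ p := fun a b => by
    have := H7.regular_pow_eq_pow_iff' hG a b 1
    rw [pow_one] at this
    rw [QuotientGroup.eq, this, hW, H7.mem_regularOmega, pow_one]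
  refine Nat.card_eq_of_bijective (fun y => ⟨(Quotient.out y.1 : G) ^ p, ?_⟩) ⟨?_, ?_⟩
  · obtain ⟨_, x, hx, rfl⟩ := y
    exact ⟨x, hx, (key _ _).1 (by simp)⟩
  · intro y z h
    exact Subtype.ext (by simpa using (key _ _).2 (Subtype.ext_iff.1 h))
  · rintro ⟨_, x, hx, rfl⟩
    exact ⟨⟨_, x, hx, rfl⟩, Subtype.ext ((key _ _).1 (by simp))⟩

theorem card_omega_two_le [Finite G] [Fact p.Prime] (hG : IsRegularPGroup p G) :
    Nat.card (H7.regularOmega hG 2) ≤ Nat.card (H7.regularOmega hG 1) ^ 2 := by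
  rw [card_eq_mul_ncard_pow hG _ (fun x hx => by
    rw [H7.mem_regularOmega] at hx ⊢
    rw [pow_succ, pow_mul, hx, one_pow]), sq]
  refine Nat.mul_le_mul_left _ (Set.ncard_le_ncard (t := (H7.regularOmega hG 1 : Set G)) ?_ (Set.toFinite _))
  rintro _ ⟨x, hx, rfl⟩
  rw [SetLike.mem_coe, H7.mem_regularOmega] at hx ⊢
  rwa [pow_one, ← pow_mul, ← sq]

theorem metacyclic_omega [Finite G] [Nontrivial G] [hp : Fact p.Prime] (hm : IsMetacyclic G)
    (hG : IsRegularPGroup p G) (hnc : ∀ C : Subgroup G, IsCyclic C → C.index ≠ p) :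
    Nat.card (H7.regularOmega hG 1) = p ^ 2 ∧ (∀ w : G, w ^ p = 1 → ∃ y : G, y ^ p = w) ∧
      p ^ 4 ≤ Nat.card G := by
  set W := H7.regularOmega hG 1 with hW
  have hWm : ∀ x, x ∈ W ↔ x ^ p = 1 := fun x => by rw [hW, H7.mem_regularOmega, pow_one]
  have hc : ¬ IsCyclic G := fun h => by
    obtain ⟨M, hM, -⟩ := (eq_top_or_exists_le_coatom (⊥ : Subgroup G)).resolve_left bot_ne_top
    exact hnc M inferInstance (H3.index_eq_of_isCoatom hG.1 hM)
  have h1 := card_le_sq_of_isMetacyclic hp.out hm fun x hx => (hWm x).1 hx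
  have h2 := Nat.le_of_dvd (Nat.pos_of_ne_zero index_ne_zero_of_finite)
    (H4.sq_dvd_index_frattini hG.1 hc)
  have h3 := card_eq_mul_ncard_pow hG ⊤ le_top
  have h4 : (fun x => x ^ p) '' ((⊤ : Subgroup G) : Set G) ⊆ frattini G := by
    rintro _ ⟨x, -, rfl⟩; exact H3.pow_mem_frattini hG.1 x
  have h5 := Set.ncard_le_ncard h4
  have h6 := (frattini G).card_mul_index
  rw [card_top, ← hW] at h3
  have h7 : (frattini G : Set G).ncard = Nat.card (frattini G) := rfl
  have h8 : 0 < Nat.card (frattini G) := Nat.card_pos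
  have h9 : 0 < Nat.card W := Nat.card_pos
  have hW2 : Nat.card W = p ^ 2 := le_antisymm h1 (by nlinarith)
  have hF2 : (frattini G).index = p ^ 2 := le_antisymm (by nlinarith) h2
  have h10 : (fun x => x ^ p) '' ((⊤ : Subgroup G) : Set G) = frattini G :=
    Set.eq_of_subset_of_ncard_le h4 (by
      rw [hW2] at h3; rw [hF2] at h6
      have := pow_pos hp.out.pos 2
      nlinarith)
  have h11 : W ≤ frattini G := by
    by_contra h
    obtain ⟨x, hx⟩ := H7.exists_sup_zpowers_of_not_le_frattini hF2 W h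
    have h11 := H3.card_sup_mul_card_inf (zpowers x) W
    rw [sup_comm, hx, card_top, hW2, ← (zpowers x).card_mul_index, mul_assoc,
      Nat.mul_right_inj Nat.card_pos.ne'] at h11
    have h12 := card_le_of_isCyclic_of_pow_eq_one hp.out
      (Subgroup.isCyclic_of_le (inf_le_left : zpowers x ⊓ W ≤ _))
      fun y => Subtype.ext ((hWm y).1 y.2.2)
    have h13 : p ∣ Nat.card (zpowers x ⊓ W : Subgroup G) := by
      have hx1 : x ≠ 1 := by
        rintro rfl
        rw [zpowers_one_eq_bot, sup_bot_eq] at hx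
        obtain ⟨z, hz⟩ := exists_ne (1 : G)
        refine hnc (zpowers z) inferInstance (H3.index_zpowers_eq_of_card ?_)
        rw [orderOf_eq_prime ((hWm z).1 (hx ▸ mem_top z)) hz, ← sq, ← hW2, hx, card_top]
      obtain ⟨k, hk⟩ := H3.exists_pow_orderOf_eq_prime hG.1 hx1
      rw [← hk, ← Nat.card_zpowers]
      exact card_dvd_of_le (zpowers_le.2 ⟨pow_mem (mem_zpowers x) k,
        (hWm _).2 (hk ▸ pow_orderOf_eq_one _)⟩)
    rw [le_antisymm h12 (Nat.le_of_dvd Nat.card_pos h13), sq,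
      Nat.mul_left_inj hp.out.ne_zero] at h11
    exact hnc _ inferInstance h11
  refine ⟨hW2, fun w hw => ?_, ?_⟩
  · obtain ⟨y, -, hy⟩ := (h10 ▸ h11 ((hWm w).2 hw) :
      w ∈ (fun x => x ^ p) '' ((⊤ : Subgroup G) : Set G))
    exact ⟨y, hy⟩
  · have := card_le_of_le h11
    rw [← h6, hF2, show 4 = 2 + 2 from rfl, pow_add]
    exact Nat.mul_le_mul_right _ (hW2 ▸ this)

end Cfsg.Agent.H5
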