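import Mathlib
import Cfsg.Agent.H5.Misc
import Cfsg.Agent.H3.RankOne
import Cfsg.Agent.H3.DQ
import Cfsg.Agent.H2.Extraspecial
import Cfsg.Agent.H7.Frattini

/-! `p`-groups in which subgroups of the same order are isomorphic. -/

set_option autoImplicit false

namespace Cfsg.Agent.H5

open Subgroup
open scoped commutatorElement

variable {G : Type*} [Group G]

theorem card_sup_zpowers' {p : ℕ} (hp : p.Prime) {U : Subgroup G} {y : G}
    (hn : y ∈ normalizer (U : Set G)) (hy : y ∉ U) (hyp : y ^ p = 1) :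
    Nat.card (U ⊔ zpowers y : Subgroup G) = Nat.card U * p := by
  haveI := Fact.mk hp
  rw [sup_comm, H1.card_sup_of_inf_eq_bot (zpowers_le.2 hn)
    (by rw [inf_comm]; exact H3.inf_zpowers_eq_bot hp hy hyp), Nat.card_zpowers,
    orderOf_eq_prime hyp (by rintro rfl; exact hy U.one_mem), mul_comm]

theorem isMulCommutative_of_mulEquiv {H : Type*} [Group H] (e : G ≃* H) (h : IsMulCommutative G) :
    IsMulCommutative H :=
  ⟨⟨fun a b => e.symm.injective (by rw [map_mul, map_mul, h.is_comm.comm])⟩⟩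

theorem exists_nonabelian_card_cube [Finite G] {p : ℕ} [hp : Fact p.Prime]
    (he : ∀ g : G, g ^ p = 1) (hna : ¬ IsMulCommutative G) :
    ∃ X : Subgroup G, Nat.card X = p ^ 3 ∧ ¬ IsMulCommutative X := by
  have hG : IsPGroup p G := fun g => ⟨1, by simpa using he g⟩
  have h1 : center G < ⊤ := lt_top_iff_ne_top.2 fun h =>
    hna ⟨⟨fun a b => mem_center_iff.1 (h ▸ mem_top b) a⟩⟩
  obtain ⟨K, -, hK1, -, hK2, hK3⟩ := H3.exists_normal_card_eq_mul hG h1
  obtain ⟨x, hxK, hx⟩ : ∃ x ∈ K, x ∉ center G := by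
    by_contra h
    push Not at h
    have h2 : K = center G := le_antisymm h hK1
    rw [h2] at hK2
    have := Nat.card_pos (α := center G)
    have := hp.out.two_le
    nlinarith
  obtain ⟨y, hy⟩ : ∃ y, y * x ≠ x * y := by simpa [mem_center_iff] using hx
  have hz : ⁅x, y⁆ ∈ center G := hK3 x hxK y
  have hz1 : ⁅x, y⁆ ≠ 1 := fun h => hy (commutatorElement_eq_one_iff_mul_comm.1 h).symm
  haveI := H3.zpowers_normal_of_mem_center hz
  have hU := H3.isElementaryAbelian_sup_zpowers (H3.isElementaryAbelian_zpowers (he ⁅x, y⁆))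
    (y := x) (fun a ha => (mem_center_iff.1 (zpowers_le.2 hz ha) x).symm) (he x)
  have hxU : x ∈ zpowers ⁅x, y⁆ ⊔ zpowers x := mem_sup_right (mem_zpowers x)
  refine ⟨(zpowers ⁅x, y⁆ ⊔ zpowers x) ⊔ zpowers y, ?_, fun h => hy
    (isMulCommutative_iff_forall.1 h y (mem_sup_right (mem_zpowers y)) x (mem_sup_left hxU))⟩
  rw [card_sup_zpowers' hp.out ?_ (fun h => hy (isMulCommutative_iff_forall.1 hU.1 y h x hxU))
    (he y), card_sup_zpowers' hp.out (le_normalizer_of_normal (mem_top x))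
      (fun h => hx (zpowers_le.2 hz h)) (he x), Nat.card_zpowers, orderOf_eq_prime (he _) hz1]
  · ring
  · rw [← H1.map_conj_eq_self_iff]
    apply H1.eq_of_le_of_card_le _ (H1.card_map_conj _ _).ge
    rw [Subgroup.map_sup, MonoidHom.map_zpowers, MonoidHom.map_zpowers, sup_le_iff, zpowers_le,
      zpowers_le]
    constructor
    · exact mem_sup_left ((inferInstance : (zpowers ⁅x, y⁆).Normal).conj_mem _ (mem_zpowers _) y)
    · have : y * x * y⁻¹ = ⁅x, y⁆⁻¹ * x := by simp [commutatorElement_def, mul_assoc]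
      change y * x * y⁻¹ ∈ _
      rw [this]
      exact mul_mem (mem_sup_left (inv_mem (mem_zpowers _))) hxU

theorem exists_abelian_card_cube [Finite G] {p : ℕ} [hp : Fact p.Prime]
    (he : ∀ g : G, g ^ p = 1) (hc : p ^ 4 ≤ Nat.card G) :
    ∃ A : Subgroup G, Nat.card A = p ^ 3 ∧ IsMulCommutative A := by
  have hG : IsPGroup p G := fun g => ⟨1, by simpa using he g⟩
  have hp2 := hp.out.two_le
  have hlt : ∀ (K : Subgroup G) (k : ℕ), k < 4 → Nat.card K = p ^ k → K < ⊤ := by
    intro K k hk h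
    refine lt_top_iff_ne_top.2 fun h1 => ?_
    rw [h1, card_top] at h
    exact absurd (h ▸ hc) (not_le.2 (Nat.pow_lt_pow_right hp2 hk))
  obtain ⟨Z, hZ, -, -, hZ2, hZ3⟩ := H3.exists_normal_card_eq_mul hG
    (hlt ⊥ 0 (by norm_num) (by simp))
  rw [card_bot, mul_one] at hZ2
  obtain ⟨K, -, hK1, -, hK2, hK3⟩ := H3.exists_normal_card_eq_mul hG
    (hlt Z 1 (by norm_num) (by simpa using hZ2))
  have hZc : ∀ z ∈ Z, ∀ g : G, z * g = g * z := fun z hz g =>
    commutatorElement_eq_one_iff_mul_comm.1 (mem_bot.1 (hZ3 z hz g))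
  obtain ⟨n, hnK, hn⟩ : ∃ n ∈ K, n ∉ Z := by
    by_contra h
    push Not at h
    rw [le_antisymm h hK1] at hK2
    have := Nat.card_pos (α := Z)
    nlinarith
  have hU : IsMulCommutative (Z ⊔ zpowers n : Subgroup G) := H3.isMulCommutative_sup_zpowers
    (isMulCommutative_iff_forall.2 fun a ha b _ => hZc a ha b) fun z hz => hZc z hz n
  have hU2 : Nat.card (Z ⊔ zpowers n : Subgroup G) = p * p := by
    rw [card_sup_zpowers' hp.out (le_normalizer_of_normal (mem_top n)) hn (he n), hZ2]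
  have h1 : (centralizer ({n} : Set G)).index ≤ p := by
    rw [← relIndex_top_right, ← hZ2]
    refine H2.relIndex_centralizer_le_card fun g _ => ?_
    rw [← commutatorElement_inv]
    exact inv_mem (hK3 n hnK g)
  obtain ⟨c, hc1, hc2⟩ : ∃ c ∈ centralizer ({n} : Set G), c ∉ Z ⊔ zpowers n := by
    by_contra h
    push Not at h
    have h2 := card_le_of_le (show centralizer ({n} : Set G) ≤ _ from h)
    have h3 := (centralizer ({n} : Set G)).card_mul_index
    have h4 : Nat.card G ≤ p * p * p := h3 ▸ Nat.mul_le_mul (hU2 ▸ h2) h1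
    have h5 : p * p * p < p ^ 4 := by
      have := Nat.pow_lt_pow_right hp2 (show 3 < 4 by norm_num)
      calc p * p * p = p ^ 3 := by ring
        _ < _ := this
    omega
  have h2 : c ∈ centralizer ((Z ⊔ zpowers n : Subgroup G) : Set G) := by
    rw [← zpowers_le, le_centralizer_iff, sup_le_iff, zpowers_le, H3.centralizer_zpowers]
    exact ⟨fun z hz => mem_centralizer_singleton_iff.2 (hZc z hz c),
      mem_centralizer_singleton_iff.2 (mem_centralizer_singleton_iff.1 hc1).symm⟩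
  refine ⟨_, ?_, H3.isMulCommutative_sup_zpowers hU h2⟩
  rw [card_sup_zpowers' hp.out (centralizer_le_normalizer _ h2) hc2 (he c), hU2]
  ring

theorem classify_of_iso [Finite G] {p : ℕ} [hp : Fact p.Prime] (hG : IsPGroup p G)
    (hiso : ∀ H K : Subgroup G, Nat.card H = Nat.card K → Nonempty (H ≃* K)) :
    IsCyclic G ∨ (IsMulCommutative G ∧ ∀ g : G, g ^ p = 1) ∨
      (p = 2 ∧ Nonempty (G ≃* QuaternionGroup 2)) ∨
      (p ≠ 2 ∧ ¬ IsMulCommutative G ∧ Nat.card G = p ^ 3 ∧ ∀ g : G, g ^ p = 1) := by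
  by_cases h : ∀ A : Subgroup G, IsElementaryAbelian p A → IsCyclic A
  · rcases H3.abelian_cyclic_cases hG h with h1 | ⟨rfl, n, x, y, hn, hx, hi, hy, hy2, hxy⟩
    · exact Or.inl h1
    by_cases hyt : zpowers y = ⊤
    · exact Or.inl ((isCyclic_iff_exists_zpowers_eq_top).2 ⟨y, hyt⟩)
    refine Or.inr (Or.inr (Or.inl ⟨rfl, ?_⟩))
    obtain ⟨M, hM, hyM⟩ := (eq_top_or_exists_le_coatom (zpowers y)).resolve_left hyt
    obtain ⟨e⟩ := hiso (zpowers x) M (by
      have h1 := (zpowers x).card_mul_index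
      have h2 := M.card_mul_index
      rw [H3.index_eq_of_isCoatom hG hM] at h2
      rw [hi] at h1
      omega)
    have h1 := isMulCommutative_iff_forall.1 (isMulCommutative_of_mulEquiv e inferInstance)
      y (hyM (mem_zpowers y)) _ (H7.pow_mem_of_isCoatom hG hM x)
    have h2 : x ^ 4 = 1 := by
      have h3 : y * x ^ 2 * y⁻¹ = (x ^ 2)⁻¹ := by rw [← conj_pow, hxy, inv_pow]
      rw [h1, mul_inv_cancel_right] at h3
      rw [show 4 = 2 + 2 from rfl, pow_add]
      nth_rewrite 2 [h3]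
      exact mul_inv_cancel _
    have h3 := orderOf_dvd_of_pow_eq_one h2
    rw [hx, show 4 = 2 ^ 2 from rfl, Nat.pow_dvd_pow_iff_le_right one_lt_two] at h3
    obtain rfl : n = 2 := le_antisymm h3 hn
    exact H3.nonempty_mulEquiv_quaternion (N := 2) hx hi hy hy2 hxy
  · push Not at h
    obtain ⟨A, hA, hAc⟩ := h
    obtain ⟨E, -, hE, hE2⟩ := H3.exists_elementary_sq_le (elemAb_isPGroup hA) hA.1 hAc
    have he : ∀ g : G, g ^ p = 1 := by
      intro g
      obtain ⟨k, hk⟩ := hG.exists_orderOf_eq_pow g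
      rcases k with _ | _ | k
      · simp [orderOf_eq_one_iff.1 hk]
      · rw [← pow_orderOf_eq_one g, hk]; simp
      · exfalso
        have h1 : orderOf (g ^ p ^ k) = p ^ 2 := by
          rw [orderOf_pow' _ (pow_pos hp.out.pos k).ne', hk,
            Nat.gcd_eq_right (pow_dvd_pow p (by omega)), add_assoc, pow_add,
            Nat.mul_div_cancel_left _ (pow_pos hp.out.pos k)]
        obtain ⟨e⟩ := hiso (zpowers (g ^ p ^ k)) E (by rw [Nat.card_zpowers, h1, hE2])
        exact H3.not_isCyclic_of_isElementaryAbelian hp.out hE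
          (by rw [hE2]; have := hp.out.two_le; nlinarith) (isCyclic_of_surjective e e.surjective)
    by_cases hc : IsMulCommutative G
    · exact Or.inr (Or.inl ⟨hc, he⟩)
    refine Or.inr (Or.inr (Or.inr ⟨?_, hc, ?_, he⟩))
    · rintro rfl
      exact hc ⟨⟨fun a b => (Commute.of_orderOf_dvd_two
        (fun g => orderOf_dvd_of_pow_eq_one (he g)) a b).eq⟩⟩
    obtain ⟨X, hX, hXc⟩ := exists_nonabelian_card_cube he hc
    obtain ⟨n, hn⟩ := hG.exists_card_eq
    have h1 : 3 ≤ n := by
      have := X.card_subgroup_dvd_card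
      rwa [hX, hn, Nat.pow_dvd_pow_iff_le_right hp.out.one_lt] at this
    by_contra h2
    have h3 : 4 ≤ n := by
      rcases h1.eq_or_lt with rfl | h
      · exact absurd hn h2
      · exact h
    obtain ⟨B, hB, hBc⟩ := exists_abelian_card_cube he
      (hn ▸ Nat.pow_le_pow_right hp.out.pos h3)
    obtain ⟨e⟩ := hiso B X (hB.trans hX.symm)
    exact hXc (isMulCommutative_of_mulEquiv e hBc)

theorem classify_of_conj [Finite G] {p : ℕ} [hp : Fact p.Prime]
    (hC : ∀ H K : Subgroup G, IsPGroup p H → IsPGroup p K → Nat.card H = Nat.card K →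
      ∃ g : G, K = H.map (MulAut.conj g).toMonoidHom) {P : Subgroup G} (hP : IsPGroup p P) :
    IsCyclic P ∨ IsElementaryAbelian p P ∨ (p = 2 ∧ Nonempty (P ≃* QuaternionGroup 2)) ∨
      (p ≠ 2 ∧ ¬ IsMulCommutative P ∧ Nat.card P = p ^ 3 ∧ ∀ g ∈ P, g ^ p = 1) := by
  have h := classify_of_iso hP fun H K hHK => by
    obtain ⟨g, hg⟩ := hC (H.map P.subtype) (K.map P.subtype) ((hP.to_subgroup H).map _)
      ((hP.to_subgroup K).map _) (by
        rw [card_map_of_injective P.subtype_injective, card_map_of_injective P.subtype_injective,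
          hHK])
    exact ⟨(H.equivMapOfInjective _ P.subtype_injective).trans
      (((H.map P.subtype).equivMapOfInjective (MulAut.conj g).toMonoidHom
        (MulAut.conj g).injective).trans ((MulEquiv.subgroupCongr hg.symm).trans
          (K.equivMapOfInjective _ P.subtype_injective).symm))⟩
  rcases h with h | ⟨h1, h2⟩ | h | ⟨h1, h2, h3, h4⟩
  · exact Or.inl h
  · exact Or.inr (Or.inl ⟨h1, fun a ha => congrArg Subtype.val (h2 ⟨a, ha⟩)⟩)
  · exact Or.inr (Or.inr (Or.inl h))
  · exact Or.inr (Or.inr (Or.inr ⟨h1, h2, h3, fun a ha => congrArg Subtype.val (h4 ⟨a, ha⟩)⟩))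

end Cfsg.Agent.H5
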