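import Mathlib
import Cfsg.Agent.H5.ConjP
import Cfsg.Agent.H5.Real2
import Cfsg.Agent.H1.PAction

/-! Non-abelian subgroups of order `p ^ 3` and exponent `p`. -/

set_option autoImplicit false

namespace Cfsg.Agent.H5

open Subgroup
open scoped commutatorElement Pointwise

variable {G : Type*} [Group G]

theorem card_center_of_card_cube [Finite G] {p : ℕ} [hp : Fact p.Prime] (h : Nat.card G = p ^ 3)
    (hna : ¬ IsMulCommutative G) : Nat.card (center G) = p := by
  have hG := IsPGroup.of_card h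
  haveI : Nontrivial G := by
    by_contra h1
    rw [not_nontrivial_iff_subsingleton] at h1
    exact hna ⟨⟨fun a b => Subsingleton.elim _ _⟩⟩
  obtain ⟨k, hk0, hk⟩ := IsPGroup.card_center_eq_prime_pow h (by norm_num)
  have h1 := (center G).card_mul_index
  obtain ⟨j, hj⟩ := hG.index (center G)
  rw [hk, hj, h, ← pow_add] at h1
  have h2 := Nat.pow_right_injective hp.out.two_le h1
  by_contra h3
  have h4 : k ≠ 1 := by rintro rfl; exact h3 (by simpa using hk)
  have h5 : IsCyclic (G ⧸ center G) := isCyclic_of_card_dvd_prime (p := p) (by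
    change (center G).index ∣ p
    rw [hj]
    simpa using pow_dvd_pow p (show j ≤ 1 by omega))
  exact hna ⟨⟨commutative_of_cyclic_center_quotient (QuotientGroup.mk' (center G))
    (by rw [QuotientGroup.ker_mk'])⟩⟩

section cube

variable [Finite G] {p : ℕ} [hp : Fact p.Prime] {P : Subgroup G} (hP : Nat.card P = p ^ 3)
  (hna : ¬ IsMulCommutative P)
include hP hna

theorem card_zOf_cube : Nat.card (zOf P) = p := by
  rw [zOf_eq_map_center, card_map_of_injective P.subtype_injective,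
    card_center_of_card_cube hP hna]

theorem commutator_mem_zOf_cube {x y : G} (hx : x ∈ P) (hy : y ∈ P) : ⁅x, y⁆ ∈ zOf P := by
  have h1 : Nat.card (P ⧸ center P) = p ^ 2 := by
    have h2 := (center P).card_mul_index
    rw [card_center_of_card_cube hP hna, hP, pow_succ'] at h2
    exact Nat.eq_of_mul_eq_mul_left hp.out.pos h2
  have h2 := (IsPGroup.isMulCommutative_of_card_eq_prime_sq h1).is_comm.comm
    (QuotientGroup.mk ⟨x, hx⟩) (QuotientGroup.mk ⟨y, hy⟩)
  rw [zOf_eq_map_center]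
  refine ⟨⁅(⟨x, hx⟩ : P), (⟨y, hy⟩ : P)⁆, ?_, rfl⟩
  exact (H7.commutatorElement_mem_iff_commute _ _ _).2 h2

theorem exists_conj_eq_mul_cube {u w : G} (hu : u ∈ P) (hu' : u ∉ zOf P) (hw : w ∈ zOf P) :
    ∃ b ∈ P, b * u * b⁻¹ = w * u := by
  obtain ⟨b, hb, hbu⟩ : ∃ b ∈ P, b * u ≠ u * b := by simpa [mem_zOf, hu] using hu'
  have h1 := commutator_mem_zOf_cube hP hna hb hu
  obtain ⟨k, hk⟩ := (mem_powers_iff_mem_zpowers).2 (mem_zpowers_of_prime_card (card_zOf_cube hP hna)
    (g := ⟨_, h1⟩) (g' := ⟨w, hw⟩)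
    (fun h => hbu (commutatorElement_eq_one_iff_mul_comm.1 (congrArg Subtype.val h))))
  have hk' : ⁅b, u⁆ ^ k = w := congrArg Subtype.val hk
  refine ⟨b ^ k, pow_mem hb k, ?_⟩
  rw [← hk', ← H1.commutatorElement_pow_left_of_central (h1.2 b hb), commutatorElement_def,
    inv_mul_cancel_right]

theorem zOf_le_cube (he : ∀ g ∈ P, g ^ p = 1) {W : Subgroup G} (hW : W ≤ P)
    (hW2 : Nat.card W = p ^ 2) : zOf P ≤ W := by
  intro z hz
  by_contra h
  have h1 : z ∈ centralizer (W : Set G) := fun w hw => hz.2 w (hW hw)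
  have h2 : W ⊔ zpowers z = P := H1.eq_of_le_of_card_le (sup_le hW (zpowers_le.2 hz.1)) (by
    rw [card_sup_zpowers' hp.out (centralizer_le_normalizer _ h1) h (he z hz.1), hW2, hP,
      pow_succ])
  exact hna (h2 ▸ H3.isMulCommutative_sup_zpowers
    (IsPGroup.isMulCommutative_of_card_eq_prime_sq hW2) h1)

theorem le_normalizer_cube (he : ∀ g ∈ P, g ^ p = 1) {W : Subgroup G} (hW : W ≤ P)
    (hW2 : Nat.card W = p ^ 2) : P ≤ normalizer (W : Set G) := by
  rw [le_normalizer_iff_commutator_le_left, commutator_le]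
  exact fun w hw x hx => zOf_le_cube hP hna he hW hW2 (commutator_mem_zOf_cube hP hna (hW hw) hx)

theorem card_inf_centralizer_cube (he : ∀ g ∈ P, g ^ p = 1) {x : G} (hx : x ∈ P)
    (hx' : x ∉ zOf P) : Nat.card (P ⊓ centralizer ({x} : Set G) : Subgroup G) = p ^ 2 := by
  obtain ⟨k, hk⟩ := ((IsPGroup.of_card hP).to_le
    (inf_le_left : P ⊓ centralizer ({x} : Set G) ≤ P)).exists_card_eq
  have h1 : Nat.card (P ⊓ centralizer ({x} : Set G) : Subgroup G) < p ^ 3 := by
    rw [← hP]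
    refine H1.card_lt_of_lt (lt_of_le_of_ne inf_le_left fun h => hx' ⟨hx, fun y hy => ?_⟩)
    exact mem_centralizer_singleton_iff.1 (h.ge hy).2
  have h2 : zOf P ⊔ zpowers x ≤ P ⊓ centralizer ({x} : Set G) :=
    sup_le (fun z hz => ⟨hz.1, mem_centralizer_singleton_iff.2 (hz.2 x hx).symm⟩)
      (zpowers_le.2 ⟨hx, mem_centralizer_singleton_iff.2 rfl⟩)
  have h3 := card_le_of_le h2
  rw [card_sup_zpowers' hp.out (centralizer_le_normalizer _ (le_centralizer_zOf P hx)) hx'
    (he x hx), card_zOf_cube hP hna, ← pow_two, hk,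
    Nat.pow_le_pow_iff_right hp.out.one_lt] at h3
  rw [hk, Nat.pow_lt_pow_iff_right hp.out.one_lt] at h1
  rw [hk, show k = 2 by omega]

theorem eq_inf_centralizer_cube (he : ∀ g ∈ P, g ^ p = 1) {W : Subgroup G} (hW : W ≤ P)
    (hW2 : Nat.card W = p ^ 2) {x : G} (hx : x ∈ W) (hx' : x ∉ zOf P) :
    W = P ⊓ centralizer ({x} : Set G) :=
  H1.eq_of_le_of_card_le (fun w hw => ⟨hW hw, mem_centralizer_singleton_iff.2
    (isMulCommutative_iff_forall.1 (IsPGroup.isMulCommutative_of_card_eq_prime_sq hW2) w hw x hx)⟩)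
    (by rw [card_inf_centralizer_cube hP hna he (hW hx) hx', hW2])

omit hP hna hp in
theorem card_filter_mem_not_mem [Fintype G] [DecidableEq G] {A B : Subgroup G} (h : A ≤ B)
    [DecidablePred fun x => x ∈ B ∧ x ∉ A] :
    (Finset.univ.filter fun x => x ∈ B ∧ x ∉ A).card = Nat.card B - Nat.card A := by
  rw [← Set.ncard_coe_finset, show ((Finset.univ.filter fun x => x ∈ B ∧ x ∉ A : Finset G) : Set G)
    = (B : Set G) \ A by ext; simp, Set.ncard_sdiff h]
  rfl

theorem ncard_sq_cube (he : ∀ g ∈ P, g ^ p = 1) :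
    {W : Subgroup G | W ≤ P ∧ Nat.card W = p ^ 2}.ncard = p + 1 := by
  classical
  haveI := Fintype.ofFinite G
  set Ω := {W : Subgroup G | W ≤ P ∧ Nat.card W = p ^ 2} with hΩ
  have h1 := Finset.card_eq_sum_card_fiberwise
    (s := Finset.univ.filter fun x => x ∈ P ∧ x ∉ zOf P) (t := Ω.toFinite.toFinset)
    (f := fun x => P ⊓ centralizer ({x} : Set G)) (fun x hx => by
      simp only [Finset.coe_filter, Finset.mem_univ, true_and, Set.mem_setOf_eq] at hx
      simp only [Set.Finite.coe_toFinset, hΩ, Set.mem_setOf_eq]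
      exact ⟨inf_le_left, card_inf_centralizer_cube hP hna he hx.1 hx.2⟩)
  rw [card_filter_mem_not_mem (zOf_le P), Finset.sum_congr rfl (g := fun _ => p ^ 2 - p),
    Finset.sum_const, smul_eq_mul, ← Set.ncard_eq_toFinset_card, hP, card_zOf_cube hP hna] at h1
  · have h2 := hp.out.two_le
    have h3 : p ^ 3 - p = (p + 1) * (p ^ 2 - p) := by
      zify [show p ≤ p ^ 3 by nlinarith [Nat.pow_le_pow_right hp.out.pos (show 1 ≤ 3 by norm_num)],
        show p ≤ p ^ 2 by nlinarith]
      ring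
    rw [h3] at h1
    exact (Nat.eq_of_mul_eq_mul_right (by apply Nat.sub_pos_of_lt; nlinarith) h1).symm
  · intro W hW
    simp only [Set.Finite.mem_toFinset, hΩ, Set.mem_setOf_eq] at hW
    rw [← hW.2, ← card_zOf_cube hP hna,
      ← card_filter_mem_not_mem (zOf_le_cube hP hna he hW.1 hW.2), Finset.filter_filter]
    congr 1
    refine Finset.filter_congr fun x _ => ⟨fun ⟨⟨h1, h2⟩, h3⟩ => ⟨h3 ▸ ⟨h1,
      mem_centralizer_singleton_iff.2 rfl⟩, h2⟩, fun ⟨h1, h2⟩ => ⟨⟨hW.1 h1, h2⟩,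
        (eq_inf_centralizer_cube hP hna he hW.1 hW.2 h1 h2).symm⟩⟩

end cube

end Cfsg.Agent.H5
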