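import Cfsg.Agent.H5.SubConj
import Cfsg.Agent.H5.Misc
import Cfsg.Agent.H3.DQ
import Cfsg.Agent.H8.ThompsonTransfer

/-! Groups with a normal Sylow `p`-subgroup with cyclic quotient; recognition of `A₄`. -/

set_option autoImplicit false

namespace Cfsg.Agent.H5

open Subgroup

variable {G : Type*} [Group G]

theorem isCyclic_quotient_of_sup_zpowers {N : Subgroup G} [N.Normal] {x : G}
    (h : zpowers x ⊔ N = ⊤) : IsCyclic (G ⧸ N) := by
  refine ⟨QuotientGroup.mk' N x, fun y => ?_⟩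
  obtain ⟨g, rfl⟩ := QuotientGroup.mk'_surjective N y
  obtain ⟨_, ⟨i, rfl⟩, n, hn, rfl⟩ := mem_sup_of_normal_right.1 (h ▸ mem_top g)
  exact ⟨i, by simp [(QuotientGroup.eq_one_iff n).2 hn]⟩

theorem sylow_of_sup_zpowers [Finite G] {p : ℕ} [Fact p.Prime] {N : Subgroup G} [hN : N.Normal]
    (hp : IsPGroup p N) {x : G} (h : zpowers x ⊔ N = ⊤) :
    (∀ S : Sylow p G, (S : Subgroup G).Normal) ∧
      ∀ (S : Sylow p G) [(S : Subgroup G).Normal], IsCyclic (G ⧸ (S : Subgroup G)) := by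
  have h1 : ∀ S : Sylow p G, N ≤ S := fun S => (L.le_pCore hN hp).trans (L.pCore_le_sylow S)
  refine ⟨fun S => Subgroup.Normal.of_commutator_le G (le_trans ?_ (h1 S)), fun S _ =>
    isCyclic_quotient_of_sup_zpowers (x := x) (top_le_iff.1 (h ▸ sup_le_sup_left (h1 S) _))⟩
  haveI := isCyclic_quotient_of_sup_zpowers h
  exact (Subgroup.Normal.quotient_commutative_iff_commutator_le).1 inferInstance

theorem sylow_of_sup_zpowers' [Finite G] {p : ℕ} [Fact p.Prime] {Q : Subgroup G}
    (hp : IsPGroup p Q) {x : G} (hx : x ∈ normalizer (Q : Set G)) :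
    (∀ S : Sylow p (zpowers x ⊔ Q : Subgroup G), (S : Subgroup (zpowers x ⊔ Q : Subgroup G)).Normal) ∧
      ∀ (S : Sylow p (zpowers x ⊔ Q : Subgroup G))
        [(S : Subgroup (zpowers x ⊔ Q : Subgroup G)).Normal],
        IsCyclic ((zpowers x ⊔ Q : Subgroup G) ⧸ (S : Subgroup (zpowers x ⊔ Q : Subgroup G))) := by
  haveI : (Q.subgroupOf (zpowers x ⊔ Q)).Normal :=
    H1.normal_subgroupOf_of_le (H1.sup_le_normalizer_of_le (zpowers_le.2 hx))
  refine sylow_of_sup_zpowers (N := Q.subgroupOf (zpowers x ⊔ Q)) hp.comap_subtype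
    (x := ⟨x, mem_sup_left (mem_zpowers x)⟩) ?_
  apply map_injective (zpowers x ⊔ Q).subtype_injective
  rw [Subgroup.map_sup, MonoidHom.map_zpowers, map_subgroupOf_eq_of_le le_sup_right,
    ← MonoidHom.range_eq_map, range_subtype]
  rfl

theorem exists_coprime_sup_zpowers [Finite G] {p : ℕ} [hp : Fact p.Prime] (S : Sylow p G)
    [(S : Subgroup G).Normal] (h : IsCyclic (G ⧸ (S : Subgroup G))) :
    ∃ t : G, (orderOf t).Coprime p ∧ zpowers t ⊔ S = ⊤ := by
  obtain ⟨y, hy⟩ := h.exists_generator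
  obtain ⟨g, rfl⟩ := QuotientGroup.mk'_surjective _ y
  obtain ⟨a, b, -, -, rfl, -, ⟨k, hk⟩, hb⟩ := H8.exists_pPart_pPrimePart hp.out g
  have ha : a ∈ (S : Subgroup G) := by
    obtain ⟨T, hT⟩ := (H8.isPGroup_zpowers_of_orderOf hk).exists_le_sylow
    haveI := Sylow.unique_of_normal S inferInstance
    exact Subsingleton.elim T S ▸ hT (mem_zpowers a)
  refine ⟨b, hb, eq_top_iff.2 fun x _ => ?_⟩
  obtain ⟨i, hi⟩ := hy (QuotientGroup.mk' _ x)
  rw [map_mul, QuotientGroup.mk'_apply _ a, (QuotientGroup.eq_one_iff a).2 ha, one_mul] at hi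
  simp only at hi
  rw [← map_zpow, QuotientGroup.mk'_apply, QuotientGroup.mk'_apply, QuotientGroup.eq] at hi
  have := mul_mem_sup (zpow_mem (mem_zpowers b) i) hi
  simpa using this

theorem isCyclic_of_sup_zpowers_of_coprime [Finite G] {S : Subgroup G} (hS : IsCyclic S) {t : G}
    (ht : t ∈ centralizer (S : Set G)) (hc : (orderOf t).Coprime (Nat.card S))
    (h : zpowers t ⊔ S = ⊤) : IsCyclic G := by
  obtain ⟨s, rfl⟩ := (Subgroup.isCyclic_iff_exists_zpowers_eq_top S).1 hS
  rw [Nat.card_zpowers] at hc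
  have h1 : Commute t s := (ht s (mem_zpowers s)).symm
  refine isCyclic_of_orderOf_eq_card (t * s) ?_
  rw [h1.orderOf_mul_eq_mul_orderOf_of_coprime hc, ← card_top, ← h,
    H1.card_sup_of_coprime (H1.le_normalizer_of_le_centralizer (zpowers_le.2 ht))
      (by rwa [Nat.card_zpowers, Nat.card_zpowers]), Nat.card_zpowers, Nat.card_zpowers]

theorem nonempty_mulEquiv_alternating_four [Finite G] (hG : Nat.card G = 12) {T : Subgroup G}
    (hT : Nat.card T = 3) (hn : ¬ T.Normal) : Nonempty (G ≃* alternatingGroup (Fin 4)) := by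
  have hi : Nat.card (G ⧸ T) = 4 := by
    have := T.card_mul_index
    rw [hT, hG] at this
    change T.index = 4
    omega
  let e : G ⧸ T ≃ Fin 4 := Finite.equivFinOfCardEq hi
  let f : G →* Equiv.Perm (Fin 4) :=
    (e.permCongrHom : _ →* _).comp (MulAction.toPermHom G (G ⧸ T))
  have hf : Function.Injective f := by
    refine e.permCongrHom.injective.comp ((MonoidHom.ker_eq_bot_iff _).1 ?_)
    rw [← normalCore_eq_ker]
    have h1 := card_dvd_of_le T.normalCore_le
    rw [hT, Nat.dvd_prime Nat.prime_three] at h1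
    rcases h1 with h1 | h1
    · exact card_eq_one.1 h1
    · exact absurd (H1.eq_of_le_of_card_le T.normalCore_le (hT.trans h1.symm).le ▸
        T.normalCore_normal) hn
  have h2 : f.range = alternatingGroup (Fin 4) := by
    apply Equiv.Perm.eq_alternatingGroup_of_index_eq_two
    have := f.range.card_mul_index
    rw [← Nat.card_congr (MonoidHom.ofInjective hf).toEquiv, hG, Nat.card_perm, Nat.card_fin] at this
    simp only [Nat.factorial] at this
    omega
  exact ⟨(MonoidHom.ofInjective hf).trans (MulEquiv.subgroupCongr h2)⟩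

theorem mem_centralizer_of_isCyclic_two [Finite G] {S : Subgroup G} (hS : IsCyclic S)
    (h2 : IsPGroup 2 S) {t : G} (ht : t ∈ normalizer (S : Set G)) (hc : (orderOf t).Coprime 2) :
    t ∈ centralizer (S : Set G) := by
  have h1 : orderOf (H1.conjAut (zpowers_le.2 ht) ⟨t, mem_zpowers t⟩) ∣ orderOf t :=
    (orderOf_map_dvd _ _).trans (Subgroup.orderOf_coe (⟨t, mem_zpowers t⟩ : zpowers t)).symm.dvd
  haveI : Finite (MulAut S) := Finite.of_injective _ DFunLike.coe_injective
  have h3 := orderOf_dvd_natCard (H1.conjAut (zpowers_le.2 ht) ⟨t, mem_zpowers t⟩)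
  haveI := Fact.mk Nat.prime_two
  obtain ⟨k, hk⟩ := h2.exists_card_eq
  rw [IsCyclic.card_mulAut, hk] at h3
  have h4 : (2 ^ k).totient ∣ 2 ^ k := by
    rcases Nat.eq_zero_or_pos k with rfl | hk0
    · simp
    · rw [Nat.totient_prime_pow Nat.prime_two hk0]
      simpa using pow_dvd_pow 2 (Nat.sub_le k 1)
  have h5 := Nat.eq_one_of_dvd_coprimes (hc.pow_right k) h1 (h3.trans h4)
  rw [orderOf_eq_one_iff] at h5
  exact (H1.mem_ker_conjAut (zpowers_le.2 ht) (a := ⟨t, mem_zpowers t⟩)).1 h5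

end Cfsg.Agent.H5
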