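/-
Brauer's characterization of characters.
-/
import Cfsg.Agent.FT.Char
import Cfsg.Agent.FT.P.CH2_1

set_option autoImplicit false

namespace Cfsg.Agent.H5

open Subgroup Cfsg Cfsg.Agent Cfsg.Agent.FT
open scoped ComplexConjugate

universe u

/-- Banaschewski's lemma. -/
theorem exists_eq_one_of_ring {X : Type*} (S : Finset X) (W : AddSubgroup (X → ℂ))
    (hmul : ∀ f ∈ W, ∀ g ∈ W, f * g ∈ W)
    (h : ∀ x ∈ S, ∀ p : ℕ, p.Prime → ∃ f ∈ W, ∃ n : ℤ, f x = n ∧ ¬ (p : ℤ) ∣ n) :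
    ∃ f ∈ W, ∀ x ∈ S, f x = 1 := by
  classical
  induction S using Finset.induction_on with
  | empty => exact ⟨0, zero_mem _, by simp⟩
  | insert x S _ ih =>
    obtain ⟨f, hf, hfS⟩ := ih fun y hy => h y (Finset.mem_insert_of_mem hy)
    obtain ⟨a, ha⟩ := Int.subgroup_cyclic
      ((W.map (Pi.evalAddMonoidHom (fun _ : X => ℂ) x)).comap (Int.castAddHom ℂ))
    have h1 : a.natAbs = 1 := by_contra fun hne => by
      obtain ⟨p, hp, hpa⟩ := Nat.exists_prime_and_dvd hne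
      obtain ⟨g, hg, n, hn, hpn⟩ := h x (Finset.mem_insert_self x S) p hp
      have : n ∈ AddSubgroup.closure {a} := ha ▸ ⟨g, hg, hn⟩
      obtain ⟨k, rfl⟩ := AddSubgroup.mem_closure_singleton.1 this
      exact hpn ((Int.natCast_dvd.2 hpa).mul_left k)
    have h2 : (1 : ℤ) ∈ AddSubgroup.closure {a} := AddSubgroup.mem_closure_singleton.2
      ⟨a, by rw [smul_eq_mul, ← Int.natAbs_mul_self, h1]; rfl⟩
    rw [← ha] at h2
    obtain ⟨g, hg, hgx⟩ := h2
    have hgx' : g x = 1 := by simpa using hgx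
    refine ⟨f + g - f * g, sub_mem (add_mem hf hg) (hmul f hf g hg), fun y hy => ?_⟩
    rcases Finset.mem_insert.1 hy with rfl | hy
    · simp [hgx']
    · simp [hfS y hy]

theorem card_conj_mem_eq {C : Type*} [Group C] [Finite C] {p : ℕ} (hp : p.Prime) (P : Subgroup C)
    (hP : ¬ p ∣ P.index) {b : C} (hb : IsPGroup p (zpowers b)) :
    ∃ n : ℕ, ¬ p ∣ n ∧ Nat.card {t : C | t⁻¹ * b * t ∈ P} = Nat.card P * n := by
  have := Fact.mk hp
  refine ⟨Nat.card (MulAction.fixedPoints (zpowers b) (C ⧸ P)), fun h => hP ?_, ?_⟩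
  · exact (Nat.modEq_zero_iff_dvd.1 ((hb.card_modEq_card_fixedPoints (C ⧸ P)).trans
      (Nat.modEq_zero_iff_dvd.2 h)))
  · rw [← QuotientGroup.card_preimage_mk]
    congr 2
    ext t
    simp only [Set.mem_setOf_eq, Set.mem_preimage, MulAction.mem_fixedPoints]
    constructor
    · rintro h ⟨y, hy⟩
      have : zpowers b ≤ MulAction.stabilizer C (t : C ⧸ P) := zpowers_le.2 (by
        rw [MulAction.mem_stabilizer_iff, eq_comm]
        exact QuotientGroup.eq.2 (by simpa [mul_assoc] using h))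
      exact this hy
    · intro h
      simpa [mul_assoc] using QuotientGroup.eq.1 (h ⟨b, mem_zpowers b⟩).symm

variable {G : Type u} [Group G] [Finite G]

/-- `E` is an elementary subgroup. -/
def IsElemSub (E : Subgroup G) : Prop :=
  ∃ (p : ℕ) (a : G) (P : Subgroup G), p.Prime ∧ IsPiElt {p}ᶜ a ∧ IsPGroup p P ∧ DProd (zpowers a) P E

theorem IsElemSub.isNilpotent {E : Subgroup G} (h : IsElemSub E) : Group.IsNilpotent E := by
  obtain ⟨p, a, P, hp, -, hP, h⟩ := h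
  exact h.isNilpotent (isNilpotent_of_isMulComm (isMulComm_of_isCyclic inferInstance))
    (isNilpotent_of_isPGroup hp hP)

theorem isElemSub_zpowers (x : G) : IsElemSub (zpowers x) := by
  obtain ⟨p, hp, hp'⟩ := Nat.exists_infinite_primes (orderOf x + 1)
  refine ⟨p, x, ⊥, hp', fun q _ hq e => ?_, IsPGroup.of_bot, sup_bot_eq _, bot_le, inf_bot_eq _⟩
  have := Nat.le_of_dvd (orderOf_pos x) hq
  rw [Set.mem_singleton_iff.1 e] at this
  omega

/-- The inner products of `φ` with the characters of `H` are algebraic integers. -/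
def RInt (H : Subgroup G) (φ : G → ℂ) : Prop := ∀ χ, IsChar H χ → IsIntegral ℤ (ip H φ χ)

theorem rInt_of_irr {H : Subgroup G} {φ : G → ℂ} (h : ∀ χ ∈ Irr H, IsIntegral ℤ (ip H φ χ)) :
    RInt H φ := fun χ hχ => by
  rw [eq_sum_irr hχ.mem_CF, ip_sum_right]
  refine IsIntegral.sum _ fun ψ hψ => ?_
  obtain ⟨n, hn⟩ := hχ.ip_nat (irr_isChar hψ)
  rw [ip_smul_right, hn, map_natCast]
  exact (isIntegral_natCast n).mul (h ψ hψ)

theorem RInt.mul {H : Subgroup G} {φ ψ : G → ℂ} (h : RInt H φ) (hφ : res H φ ∈ CF H)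
    (h' : RInt H ψ) : RInt H (φ * ψ) := fun χ hχ => by
  rw [← ip_res_left, res_mul_left, eq_sum_irr hφ, Finset.sum_mul, ip_sum_left]
  refine IsIntegral.sum _ fun θ hθ => ?_
  rw [smul_mul_assoc, ip_smul_left, mul_comm θ, ip_mul_left, ip_res_left]
  exact (h θ (irr_isChar hθ)).mul (h' _ ((irr_isChar hθ).star.mul hχ))

theorem RInt.isIntegral {H : Subgroup G} {φ : G → ℂ} (h : RInt H φ) (hφ : φ ∈ CF H) (x : G) :
    IsIntegral ℤ (φ x) := by
  rw [apply_eq_sum_irr hφ]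
  exact IsIntegral.sum _ fun χ hχ => (h χ (irr_isChar hχ)).mul ((irr_isChar hχ).isIntegral x)

theorem RInt.res {K H : Subgroup G} (hK : K ≤ H) {φ : G → ℂ} (h : RInt H φ) (hφ : φ ∈ CF H) :
    RInt K φ := fun χ hχ => by
  rw [← ip_ind_right hK hφ]
  exact h _ (hχ.ind hK)

theorem RInt.ind {K H : Subgroup G} (hK : K ≤ H) {φ : G → ℂ} (h : RInt K φ) :
    RInt H (ind H K φ) := fun χ hχ => by
  rw [ip_ind_left hK φ hχ.mem_CF, ← ip_res_right]
  exact h _ (hχ.res hK)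

theorem rInt_of_vchar {H : Subgroup G} {φ : G → ℂ} (h : res H φ ∈ VChar H) : RInt H φ :=
  fun χ hχ => by
    obtain ⟨n, hn⟩ := vchar_ip_int h hχ.mem_VChar
    rw [← ip_res_left, hn]
    exact isIntegral_intCast n

open Classical in
theorem rInt_coset {A P E : Subgroup G} (h : DProd A P E) {a : G} (ha : a ∈ A) :
    RInt E fun x => if a⁻¹ * x ∈ P then (𝐨(A) : ℂ) else 0 := by
  refine rInt_of_irr fun χ hχ => ?_
  obtain ⟨α, hα, β, hβ, rfl⟩ := h.exists_mul hχ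
  rw [mem_irrKer] at hα hβ
  obtain ⟨n, hn⟩ := (isChar_cf1 P).ip_nat ((irr_isChar hβ.1).res h.le_right)
  have h1 : ∑ x ∈ fs (E : Set G), (if a⁻¹ * x ∈ P then (𝐨(A) : ℂ) else 0) * conj ((α * β) x) =
      𝐨(A) * (conj (α a) * ∑ y ∈ fs (P : Set G), cf1 P y * conj (res P β y)) := by
    rw [← sum_fs_mul_left (h.le_left ha), ← sum_fs_subset (A := P) h.le_right fun y _ hy => by
      simp [show y ∉ P from hy], Finset.mul_sum, Finset.mul_sum]
    refine sum_fs_congr fun y hy => ?_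
    have hy : y ∈ P := hy
    simp [hy, cf1_of_mem hy, res_of_mem _ hy, hβ.2 ha y,
      apply_mul_of_mem_cfKer (irr_mem_CF hα.1) (hα.2 hy)]
  rw [ip_def] at hn ⊢
  have h2 := card_ne_zero_C A
  have h3 := card_ne_zero_C P
  rw [h1, h.card, show ∑ y ∈ fs (P : Set G), cf1 P y * conj (res P β y) = 𝐨(P) * n by
    rw [← hn]; field_simp, ← (irr_isChar hα.1).apply_inv, show ((𝐨(A) * 𝐨(P) : ℕ) : ℂ)⁻¹ *
      (𝐨(A) * (α a⁻¹ * (𝐨(P) * n))) = α a⁻¹ * n by push_cast; field_simp]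
  exact ((irr_isChar hα.1).isIntegral _).mul (isIntegral_natCast n)

open Classical in
theorem ind_coset_apply {L A P E : Subgroup G} (h : DProd A P E) {a : G} (ha : a ∈ A) {g : G}
    (hg : g ∈ L) : ind L E (fun x => if a⁻¹ * x ∈ P then (𝐨(A) : ℂ) else 0) g =
      ({t | t ∈ L ∧ a⁻¹ * (t⁻¹ * g * t) ∈ P}.ncard : ℂ) / 𝐨(P) := by
  rw [ind_of_mem _ _ hg, ← sum_fs_subset (A := {t | t ∈ L ∧ a⁻¹ * (t⁻¹ * g * t) ∈ P})
    (fun t ht => ht.1) fun t ht ht' => ?_, sum_fs_congr (g := fun _ => (𝐨(A) : ℂ)) fun t ht => ?_]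
  · have h2 := card_ne_zero_C A
    have h3 := card_ne_zero_C P
    rw [Finset.sum_const, card_fs, h.card, nsmul_eq_mul]
    push_cast
    field_simp
  · rw [res_of_mem _ (by simpa using mul_mem (h.le_left ha) (h.le_right ht.2)), if_pos ht.2]
  · by_cases h1 : t⁻¹ * g * t ∈ E
    · rw [res_of_mem _ h1, if_neg fun h2 => ht' ⟨ht, h2⟩]
    · exact res_of_notMem _ h1

theorem isIntegral_ip_of_elem {L : Subgroup G} {θ : G → ℂ} (hθ : θ ∈ CF L)
    (h : ∀ E ≤ L, IsElemSub E → RInt E θ) : IsIntegral ℤ (ip L θ (cf1 L)) := by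
  classical
  let Gd : (G → ℂ) → Prop := fun φ => φ ∈ CF L ∧ ∀ E ≤ L, IsElemSub E → RInt E φ
  have gmul : ∀ φ ψ, Gd φ → Gd ψ → Gd (φ * ψ) := fun φ ψ h1 h2 =>
    ⟨mul_mem_CF h1.1 h2.1, fun E hE hE' => (h1.2 E hE hE').mul (res_mem_CF hE h1.1) (h2.2 E hE hE')⟩
  let W : AddSubgroup (G → ℂ) :=
    { carrier := {f | Gd f ∧ ∀ φ, Gd φ → IsIntegral ℤ (ip L (f * φ) (cf1 L))}
      zero_mem' := ⟨⟨zero_mem _, fun E _ _ χ _ => by simpa using isIntegral_zero⟩,
        fun φ _ => by simpa using isIntegral_zero⟩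
      add_mem' := fun {f g} hf hg => ⟨⟨add_mem hf.1.1 hg.1.1, fun E h1 h2 χ hχ => by
        simpa using (hf.1.2 E h1 h2 χ hχ).add (hg.1.2 E h1 h2 χ hχ)⟩, fun φ hφ => by
        simpa [add_mul] using (hf.2 φ hφ).add (hg.2 φ hφ)⟩
      neg_mem' := fun {f} hf => ⟨⟨neg_mem hf.1.1, fun E h1 h2 χ hχ => by
        simpa using (hf.1.2 E h1 h2 χ hχ).neg⟩, fun φ hφ => by simpa using (hf.2 φ hφ).neg⟩ }
  obtain ⟨f, hf, hf1⟩ := exists_eq_one_of_ring (fs (L : Set G)) W (fun f hf g hg =>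
    ⟨gmul f g hf.1 hg.1, fun φ hφ => by rw [mul_assoc]; exact hf.2 _ (gmul g φ hg.1 hφ)⟩)
    fun g hg p hp => by
      have hg : g ∈ L := mem_fs.1 hg
      have ha := piPt_mem hg {p}ᶜ
      have hap := isPiElt_piPt {p}ᶜ g
      have hbp := isPiElt_piPt {p} g
      have hab := commute_piPt {p}ᶜ {p} g
      have hb : piPt {p} g ∈ L ⊓ 𝐂[piPt {p}ᶜ g] := ⟨piPt_mem hg _, mem_cent1.2 hab.eq⟩
      have hcj : ∀ t, piPt {p}ᶜ (t⁻¹ * g * t) = t⁻¹ * piPt {p}ᶜ g * t := fun t => by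
        simpa using piPt_conj {p}ᶜ g t⁻¹
      have hprod := hab.eq.trans (piPt_mul_piPt_compl {p} g)
      generalize piPt {p} g = b at *
      generalize piPt {p}ᶜ g = a at *
      obtain ⟨P, hP⟩ := exists_isSyl hp (L ⊓ 𝐂[a])
      have hPπ := (isPi_singleton_iff hp).2 hP.pgrp
      have hd : DProd (zpowers a) P (zpowers a ⊔ P) := ⟨rfl, (hP.le.trans inf_le_right).trans
        (cent_zpowers a).ge, by
          rw [inf_comm]; exact isPi_disjoint hPπ (isPi_zpowers.2 hap)⟩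
      have hE : zpowers a ⊔ P ≤ L := sup_le (zpowers_le.2 ha) (hP.le.trans inf_le_left)
      have hEe : IsElemSub (zpowers a ⊔ P) := ⟨p, a, P, hp, hap, hP.pgrp, hd⟩
      have hR := rInt_coset hd (mem_zpowers a)
      refine ⟨ind L (zpowers a ⊔ P) fun x => if a⁻¹ * x ∈ P then (𝐨(zpowers a) : ℂ) else 0,
        ⟨⟨ind_mem_CF _ _ _, fun E h1 _ => (hR.ind hE).res h1 (ind_mem_CF _ _ _)⟩, fun φ hφ => ?_⟩, ?_⟩
      · rw [← ind_mul _ _ hφ.1, ip_ind_left hE _ (cf1_mem_CF L), ← ip_res_right, res_cf1 hE, mul_comm]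
        exact ((hφ.2 _ hE hEe).mul (res_mem_CF hE hφ.1) hR) _ (isChar_cf1 _)
      obtain ⟨n, hn, hc⟩ := card_conj_mem_eq hp (P.subgroupOf (L ⊓ 𝐂[a])) hP.ndvd (b := ⟨b, hb⟩)
        ((isPiElt_singleton_iff hp).1 fun q hq hd => hbp q hq (by simpa using hd))
      refine ⟨n, ?_, by exact_mod_cast hn⟩
      have h1 : {t | t ∈ L ∧ a⁻¹ * (t⁻¹ * g * t) ∈ P} = Subtype.val ''
          {t : ↥(L ⊓ 𝐂[a]) | t⁻¹ * ⟨b, hb⟩ * t ∈ P.subgroupOf (L ⊓ 𝐂[a])} := by
        have key : ∀ t ∈ 𝐂[a], a⁻¹ * (t⁻¹ * g * t) = t⁻¹ * b * t := fun t ht => by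
          rw [← hprod]
          calc a⁻¹ * (t⁻¹ * (a * b) * t) = (t * a)⁻¹ * (a * b) * t := by group
            _ = _ := by rw [← mem_cent1.1 ht]; group
        ext t
        constructor
        · rintro ⟨h1, h2⟩
          have h3 := piPt_compl_mul_eq (isPiElt_of_mem hPπ h2) hap
            (mem_cent1.1 (hP.le h2).2 : Commute _ _).symm
          rw [← mem_cent1.1 (hP.le h2).2, mul_inv_cancel_left, hcj] at h3
          have h4 : t ∈ 𝐂[a] := mem_cent1.2 (by nth_rw 2 [← h3]; group)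
          exact ⟨⟨t, h1, h4⟩, by simpa [mem_subgroupOf, ← key t h4] using h2, rfl⟩
        · rintro ⟨t, ht, rfl⟩
          exact ⟨t.2.1, by rw [key t t.2.2]; exact ht⟩
      rw [ind_coset_apply hd (mem_zpowers a) hg, h1, Set.ncard_image_of_injective _
        Subtype.val_injective, ← Nat.card_coe_set_eq, hc,
        Nat.card_congr (subgroupOfEquivOfLe hP.le).toEquiv]
      have h3 := card_ne_zero_C P
      push_cast
      field_simp
  have := hf.2 θ ⟨hθ, h⟩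
  rwa [ip_congr (φ' := θ) (ψ' := cf1 L) (fun x hx => by simp [hf1 x (mem_fs.2 hx)]) fun _ _ => rfl]
    at this

/-- Brauer's characterization of characters. -/
theorem vchar_of_elem {L : Subgroup G} {θ : G → ℂ} (hθ : θ ∈ CF L)
    (h : ∀ E ≤ L, IsElemSub E → res E θ ∈ VChar E) : θ ∈ VChar L := by
  refine mem_VChar_iff.2 ⟨hθ, fun χ hχ => ?_⟩
  have h1 : ∀ E ≤ L, IsElemSub E → res E (θ * star χ) ∈ VChar E := fun E hE hE' => by
    rw [res_mul]
    exact vchar_mul (h E hE hE') (vchar_res hE (irr_mem_VChar (star_mem_Irr hχ)))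
  have h2 : ip L θ χ = ip L (θ * star χ) (cf1 L) := by
    rw [ip_mul_left, star_star, mul_cf1 (irr_mem_CF hχ)]
  rw [h2]
  refine int_of_aut_fixed (isIntegral_ip_of_elem (mul_mem_CF hθ (star_mem_CF (irr_mem_CF hχ)))
    fun E hE hE' => rInt_of_vchar (h1 E hE hE')) fun u => ?_
  generalize θ * star χ = φ at h1
  obtain ⟨k, -, hk, hu⟩ := exists_pow_of_aut u (Nat.card_pos (α := G))
  have hb := hk.symm.pow_left_bijective
  rw [ip_cf1_right, map_mul, map_inv₀, map_natCast, map_sum,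
    ← sum_fs_bij (A := L) (B := L) (· ^ k) ((Set.toFinite _).injOn_iff_bijOn_of_mapsTo
      (fun x hx => pow_mem hx k) |>.1 hb.1.injOn) φ]
  congr 1
  refine sum_fs_congr fun x hx => ?_
  have := vchar_aut_apply (h1 _ (zpowers_le.2 hx) (isElemSub_zpowers x)) Nat.card_pos hu
    (mem_zpowers x) pow_card_eq_one'
  rwa [res_of_mem _ (mem_zpowers x), res_of_mem _ (pow_mem (mem_zpowers x) k)] at this

theorem vchar_of_nilpotent {L : Subgroup G} {θ : G → ℂ} (hθ : θ ∈ CF L)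
    (h : ∀ E ≤ L, Group.IsNilpotent E → res E θ ∈ VChar E) : θ ∈ VChar L :=
  vchar_of_elem hθ fun E hE hE' => h E hE hE'.isNilpotent

end Cfsg.Agent.H5
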