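/-
Small counting and reduction lemmas.
-/
import Cfsg.Agent.FT.Base
import Cfsg.Agent.FT.BG01
import Cfsg.Agent.H6.Supplement
import Cfsg.Agent.L.SimpleRed

set_option autoImplicit false

namespace Cfsg.Agent.H5

open Subgroup Cfsg Cfsg.Agent Cfsg.Agent.FT

universe u

variable {G : Type u} [Group G] [Finite G]

theorem ncard_classSupp_mul {A : Set G} {X L : Subgroup G} (hle : L ≤ X)
    (hn : ∀ g ∈ L, ∀ a ∈ A, g * a * g⁻¹ ∈ A) (hti : ∀ g ∈ X, ∀ a ∈ A, g * a * g⁻¹ ∈ A → g ∈ L) :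
    (classSupp A X).ncard * 𝐨(L) = A.ncard * 𝐨(X) := by
  classical
  have := Fintype.ofFinite G
  let S : Finset (G × G) := A.toFinset ×ˢ (X : Set G).toFinset
  let T : Finset G := (classSupp A X).toFinset
  have hmap : ∀ p ∈ S, p.2 * p.1 * p.2⁻¹ ∈ T := fun p hp => by
    simp only [S, T, Finset.mem_product, Set.mem_toFinset] at hp ⊢
    exact ⟨p.1, hp.1, p.2, hp.2, rfl⟩
  have h1 := Finset.card_eq_sum_card_fiberwise (f := fun p : G × G => p.2 * p.1 * p.2⁻¹) hmap
  have h2 : ∀ y ∈ T, (S.filter fun p : G × G => p.2 * p.1 * p.2⁻¹ = y).card = 𝐨(L) := by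
    intro y hy
    obtain ⟨a, ha, g, hg, rfl⟩ := Set.mem_toFinset.1 hy
    rw [show 𝐨(L) = (L : Set G).toFinset.card by
      rw [Set.toFinset_card, ← Nat.card_eq_fintype_card]; rfl]
    symm
    refine Finset.card_bij (fun l _ => (l⁻¹ * a * l, g * l)) ?_ ?_ ?_
    · intro l hl
      have hl : l ∈ L := Set.mem_toFinset.1 hl
      simp only [S, Finset.mem_filter, Finset.mem_product, Set.mem_toFinset]
      refine ⟨⟨by simpa using hn l⁻¹ (inv_mem hl) a ha, mul_mem hg (hle hl)⟩, by group⟩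
    · intro l _ l' _ e
      exact mul_left_cancel (congrArg Prod.snd e)
    · rintro ⟨b, k⟩ hp
      simp only [S, Finset.mem_filter, Finset.mem_product, Set.mem_toFinset] at hp
      obtain ⟨⟨hb, hk⟩, e⟩ := hp
      have e' : (g⁻¹ * k) * b * (g⁻¹ * k)⁻¹ = a := by
        rw [mul_inv_rev, inv_inv, mul_assoc g⁻¹, mul_assoc g⁻¹, ← mul_assoc (k * b), e]; group
      refine ⟨g⁻¹ * k, Set.mem_toFinset.2 (hti _ (mul_mem (inv_mem hg) hk) b hb (e' ▸ ha)), ?_⟩
      rw [← e']; ext <;> simp only <;> group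
  rw [Finset.sum_congr rfl h2, Finset.sum_const, smul_eq_mul, Finset.card_product] at h1
  rw [Set.ncard_eq_toFinset_card', Set.ncard_eq_toFinset_card', ← h1]
  congr 1
  rw [Set.toFinset_card, ← Nat.card_eq_fintype_card]; rfl

/-- A subgroup acting semiregularly by conjugation on a set. -/
theorem card_dvd_ncard_of_conj {A : Set G} {X : Subgroup G}
    (hn : ∀ g ∈ X, ∀ a ∈ A, g * a * g⁻¹ ∈ A) (hf : ∀ g ∈ X, ∀ a ∈ A, Commute g a → g = 1) :
    𝐨(X) ∣ A.ncard := by
  induction hA : A.ncard using Nat.strong_induction_on generalizing A with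
  | _ n ih =>
  rcases A.eq_empty_or_nonempty with rfl | ⟨a, ha⟩
  · rw [← hA]; simp
  have h1 : classSupp {a} X ⊆ A := by
    rintro _ ⟨b, rfl, g, hg, rfl⟩
    exact hn g hg b ha
  have h2 := ncard_classSupp_mul (A := {a}) (X := X) (L := ⊥) bot_le
    (fun g hg b hb => by rw [mem_bot.1 hg]; simpa using hb) fun g hg b hb hc => by
      rw [Set.mem_singleton_iff.1 hb] at hc
      exact hf g hg a ha (mul_inv_eq_iff_eq_mul.1 hc)
  rw [card_bot, mul_one, Set.ncard_singleton, one_mul] at h2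
  have h3 := Set.ncard_diff_add_ncard_of_subset h1
  have h4 := ih _ (by have : 0 < 𝐨(X) := Nat.card_pos; omega) (A := A \ classSupp {a} X)
    (fun g hg b hb => ⟨hn g hg b hb.1, fun h => hb.2 ((conj_mem_classSupp_iff hg).1 h)⟩)
    (fun g hg b hb => hf g hg b hb.1) rfl
  rw [← hA, ← h3, h2]
  exact dvd_add h4 dvd_rfl

theorem exists_map_eq_of_primes {Q : Type*} [Group Q] (f : G →* Q) (hf : Function.Surjective f)
    (H : Subgroup Q) : ∃ K : Subgroup G, K.map f = H ∧ ∀ q : ℕ, q.Prime → q ∣ 𝐨(K) → q ∣ 𝐨(H) := by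
  let f' : H.comap f →* H := f.subgroupComap H
  have hf' : Function.Surjective f' := f.subgroupComap_surjective_of_surjective H hf
  obtain ⟨K, h1, h2⟩ := H6.exists_supplement f'.ker
  refine ⟨K.map (H.comap f).subtype, le_antisymm ?_ fun y hy => ?_, fun q hq hd => ?_⟩
  · rintro _ ⟨_, ⟨x, -, rfl⟩, rfl⟩
    exact x.2
  · obtain ⟨x, hx⟩ := hf' ⟨y, hy⟩
    obtain ⟨k, hk, n, hn, rfl⟩ := mem_sup_of_normal_right.1 (h1.ge (mem_top x))
    rw [map_mul, MonoidHom.mem_ker.1 hn, mul_one] at hx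
    exact ⟨k, ⟨k, hk, rfl⟩, congrArg Subtype.val hx⟩
  · rw [card_map_inj (subtype_injective _)] at hd
    have := h2 q hq hd
    rwa [index_ker, MonoidHom.range_eq_top.2 hf', card_top] at this

/-- Reduction of a solvability statement to a minimal simple group. -/
theorem isSolvable_of_minSimple {P : ∀ (G : Type u) [Group G] [Finite G], Prop}
    (hsub : ∀ (G : Type u) [Group G] [Finite G] (H : Subgroup G), P G → P H)
    (hquo : ∀ (G : Type u) [Group G] [Finite G] (N : Subgroup G) [N.Normal], Group.IsSolvable N →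
      P G → P (G ⧸ N))
    (hsimple : ∀ (G : Type u) [Group G] [Finite G] [IsSimpleGroup G], P G → ¬ Group.IsSolvable G →
      (∀ H : Subgroup G, H ≠ ⊤ → Group.IsSolvable H) → False)
    (G : Type u) [Group G] [Finite G] : P G → Group.IsSolvable G := by
  refine L.induction_on_card (P := fun G _ _ => P G → Group.IsSolvable G) G ?_
  intro G _ _ ih ho
  by_contra hns
  have hs : ∀ H : Subgroup G, H ≠ ⊤ → Group.IsSolvable H := fun H hH =>
    ih H (L.card_lt_of_ne_top hH) (hsub G H ho)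
  haveI : Nontrivial G := by
    by_contra hn
    rw [not_nontrivial_iff_subsingleton] at hn
    exact hns inferInstance
  haveI : IsSimpleGroup G := ⟨fun N hN => by
    by_contra hne
    push Not at hne
    exact hns (L.isSolvable_of_normal_of_quotient N (hs N hne.2)
      (ih (G ⧸ N) (L.card_quotient_lt N hne.1) (hquo G N (hs N hne.2) ho)))⟩
  exact hsimple G ho hns hs

theorem ne_top_of_isSolvable (hns : ¬ Group.IsSolvable G) {H : Subgroup G}
    (h : Group.IsSolvable H) : H ≠ ⊤ := by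
  rintro rfl
  exact hns (solvable_of_surjective (f := (⊤ : Subgroup G).subtype) fun x => ⟨⟨x, trivial⟩, rfl⟩)

theorem norm_ne_top [IsSimpleGroup G] (hns : ¬ Group.IsSolvable G) {H : Subgroup G} (h1 : H ≠ ⊥)
    (h : Group.IsSolvable H) : 𝐍(H) ≠ ⊤ := fun e =>
  h1 (L.eq_bot_of_normal_of_isSolvable hns H (hN := normal_iff_top_le.2 e.ge) h)

theorem cent1_ne_top [IsSimpleGroup G] (hns : ¬ Group.IsSolvable G) {x : G} (h1 : x ≠ 1) :
    𝐂[x] ≠ ⊤ := fun e => norm_ne_top hns (H := zpowers x) (by simpa)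
      (isSolvable_of_isNilpotent (isNilpotent_of_isMulComm (isMulComm_of_isCyclic inferInstance)))
      (eq_top_iff.2 (e.ge.trans ((cent_zpowers x).ge.trans (cent_le_norm _))))

theorem not_hasNPC_top [IsSimpleGroup G] (hns : ¬ Group.IsSolvable G) {p : ℕ} (hp : p.Prime)
    (hd : p ∣ Nat.card G) : ¬ HasNPC p (⊤ : Subgroup G) := fun h => by
  obtain ⟨P, hP⟩ := exists_isSyl hp (⊤ : Subgroup G)
  have h1 := h.sdProd hp hP
  rcases IsSimpleGroup.eq_bot_or_eq_top_of_normal _ (normal_iff_top_le.2 h1.le_norm) with e | e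
  · have := h1.sup
    rw [e, bot_sup_eq] at this
    exact ne_top_of_isSolvable hns (isSolvable_of_isNilpotent (isNilpotent_of_isPGroup hp hP.pgrp)) this
  · exact not_dvd_card_pPrimeCoreOf hp ⊤ (by rwa [e, card_top])

theorem not_norm_le_cent [IsSimpleGroup G] (hns : ¬ Group.IsSolvable G) {p : ℕ} (hp : p.Prime)
    (hd : p ∣ Nat.card G) {P : Subgroup G} (hP : IsSyl p P ⊤) : ¬ 𝐍(P) ≤ 𝐂(P) := fun h =>
  not_hasNPC_top hns hp hd (burnside_npc hp hP (inf_le_right.trans h))

end Cfsg.Agent.H5
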