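import Mathlib
import Cfsg.Agent.H5.Misc
import Cfsg.Agent.H1.Generation
import Cfsg.Agent.H8.PComplement
import Cfsg.Agent.H9.ClassSize
import Cfsg.Agent.H9.FixCount
import Cfsg.Agent.L.PiSep
import Cfsg.Agent.L.BaerSuzuki

/-! `π`-closed groups and `π'`-homogeneous groups. -/

set_option autoImplicit false

namespace Cfsg.Agent.H5

open Subgroup Cfsg.Agent.L

variable {G : Type*} [Group G]

theorem exists_lift_subgroup_of_coprime (N : Subgroup G) [N.Normal] (B : Subgroup (G ⧸ N))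
    (h : (Nat.card N).Coprime (Nat.card B)) :
    ∃ A : Subgroup G, A.map (QuotientGroup.mk' N) = B ∧ A ⊓ N = ⊥ ∧ Nat.card A = Nat.card B := by
  have h1 : N.relIndex (B.comap (QuotientGroup.mk' N)) = Nat.card B := by
    rw [relIndex_eq_card_map_mk', map_comap_eq_self_of_surjective (QuotientGroup.mk'_surjective N)]
  obtain ⟨A, -, h2, h3, h4⟩ := H1.exists_complement_of_coprime (N := N)
    (S := B.comap (QuotientGroup.mk' N)) (QuotientGroup.le_comap_mk' N B) le_normalizer_of_normal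
    (h1 ▸ h)
  refine ⟨A, ?_, h3, h4.trans h1⟩
  have := congrArg (Subgroup.map (QuotientGroup.mk' N)) h2
  rwa [Subgroup.map_sup, QuotientGroup.map_mk'_self, sup_bot_eq,
    map_comap_eq_self_of_surjective (QuotientGroup.mk'_surjective N)] at this

/-- every `π`-element normalizing a `π'`-subgroup centralizes it -/
def PiHom (π : Set ℕ) (G : Type*) [Group G] : Prop :=
  ∀ H : Subgroup G, IsPiSubgroup πᶜ H → ∀ g ∈ normalizer (H : Set G), IsPiNum π (orderOf g) →
    g ∈ centralizer (H : Set G)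

theorem piHom_iff [Finite G] {π : Set ℕ} : PiHom π G ↔
    ∀ H : Subgroup G, H ≠ ⊥ → (∀ p : ℕ, p.Prime → p ∣ Nat.card ↥H → p ∉ π) →
      ∀ p : ℕ, p.Prime → p ∣ (centralizer (H : Set G)).relIndex (normalizer (H : Set G)) →
        p ∉ π := by
  constructor
  · intro h H _ hH p hp hd hpπ
    haveI := Fact.mk hp
    obtain ⟨y, hy⟩ := exists_prime_orderOf_dvd_card'
      (G := normalizer (H : Set G) ⧸ (centralizer (H : Set G)).subgroupOf (normalizer (H : Set G)))
      p hd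
    obtain ⟨x, ⟨m, hm⟩, rfl⟩ := H9.exists_pElement_map_eq (QuotientGroup.mk'_surjective _) hp
      (k := 1) (hy.trans (pow_one p).symm)
    have h1 := h H hH x x.2 (fun q hq hqd => by
      rw [orderOf_coe, hm] at hqd
      rwa [(Nat.prime_dvd_prime_iff_eq hq hp).1 (hq.dvd_of_dvd_pow hqd)])
    have h2 : QuotientGroup.mk' ((centralizer (H : Set G)).subgroupOf (normalizer (H : Set G))) x
        = 1 := (QuotientGroup.eq_one_iff x).2 h1
    rw [h2, orderOf_one] at hy
    exact hp.one_lt.ne hy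
  · intro h H hH g hg hgπ
    by_cases h1 : H = ⊥
    · subst h1
      rintro x (rfl : x = 1)
      simp
    · exact H9.mem_centralizer_of_coprime_relIndex hg (hgπ.coprime (h H h1 hH))

theorem PiHom.quotient [Finite G] {π : Set ℕ} (h : PiHom π G) (N : Subgroup G) [N.Normal]
    (hN : IsPiSubgroup π N) : PiHom π (G ⧸ N) := by
  intro M hM y hy hyπ
  refine mem_of_forall_pPart_mem (isOfFinOrder_of_finite y) ?_
  rintro p hp z hz ⟨k, hk⟩
  by_cases hz1 : z = 1
  · simp [hz1]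
  obtain ⟨j, -, hj⟩ := (Nat.dvd_prime_pow hp).1 (orderOf_dvd_of_pow_eq_one hk)
  have hj0 : j ≠ 0 := by
    rintro rfl
    exact hz1 (by simpa using hj)
  have hpπ : p ∈ π :=
    hyπ p hp ((hj ▸ dvd_pow_self p hj0 : p ∣ orderOf z).trans (orderOf_dvd_of_mem_zpowers hz))
  have hzn : zpowers z ≤ normalizer (M : Set (G ⧸ N)) := zpowers_le.2 (zpowers_le.2 hy hz)
  have hc : (Nat.card (zpowers z)).Coprime (Nat.card M) := by
    rw [Nat.card_zpowers, hj]
    exact Nat.Coprime.pow_left j (hp.coprime_iff_not_dvd.2 fun hd => hM p hp hd hpπ)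
  have h1 : M ≤ centralizer ({z} : Set (G ⧸ N)) := by
    refine H1.le_of_forall_exists_sylow_le fun q hq => ?_
    haveI := Fact.mk hq
    obtain ⟨Q, hQ1, hQ2, hQ3, hQ4⟩ := H1.exists_invariant_sylow hzn hc
      (Or.inl (L.isSolvable_of_isMulCommutative _)) q
    refine ⟨Q, hQ3, ?_⟩
    by_cases hQ : Q = ⊥
    · simp [hQ]
    have hQπ : IsPiSubgroup πᶜ Q := IsPiSubgroup.mono hQ1 hM
    obtain ⟨A, rfl, -, hA⟩ := exists_lift_subgroup_of_coprime N Q (IsPiNum.coprime hN hQπ)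
    obtain ⟨m, hm⟩ := hQ2.exists_card_eq
    have hm0 : m ≠ 0 := by
      rintro rfl
      exact hQ (card_eq_one.1 (by simpa using hm))
    have hq1 : (Nat.card N).Coprime q := Nat.Coprime.coprime_dvd_right
      (hm ▸ dvd_pow_self q hm0) (IsPiNum.coprime hN hQπ)
    obtain ⟨g, hg, hgz⟩ := normalizer_map_mk'_le N hq1 (IsPGroup.of_card (hA.trans hm))
      (hQ4 (mem_zpowers z))
    obtain ⟨a, b, ha, hb', rfl, -, ⟨i, hi⟩, hb⟩ := H8.exists_pPart_pPrimePart hp g
    have ha1 := h A (fun r hr hd => hQπ r hr (hA ▸ hd)) a (zpowers_le.2 hg ha) (fun r hr hd => by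
      rw [hi] at hd
      rwa [(Nat.prime_dvd_prime_iff_eq hr hp).1 (hr.dvd_of_dvd_pow hd)])
    have hb1 : QuotientGroup.mk' N b = 1 := by
      have h2 : orderOf (QuotientGroup.mk' N b) ∣ p ^ j := by
        rw [← hj, ← hgz]
        refine orderOf_dvd_of_mem_zpowers ?_
        rw [← MonoidHom.map_zpowers]
        exact mem_map_of_mem _ hb'
      rw [← orderOf_eq_one_iff]
      exact Nat.Coprime.eq_one_of_dvd
        (Nat.Coprime.pow_right j (Nat.Coprime.coprime_dvd_left (orderOf_map_dvd _ _) hb)) h2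
    rintro _ ⟨x, hx, rfl⟩
    rw [mem_centralizer_singleton_iff, ← hgz, map_mul, hb1, mul_one, ← map_mul, ← map_mul,
      ha1 x hx]
  exact fun m hm => mem_centralizer_singleton_iff.1 (h1 hm)

theorem mem_piCore_of_piHom [Finite G] {π : Set ℕ} (hG : PiSep π G) (h : PiHom π G) {x : G}
    (hx : IsPiNum π (orderOf x)) : x ∈ piCore π G := by
  have h1 := h.quotient (piCore π G) (isPiSubgroup_piCore π)
  have h2 : IsPiNum π (orderOf (QuotientGroup.mk' (piCore π G) x)) :=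
    hx.of_dvd (orderOf_map_dvd _ _)
  have h3 := centralizer_piCore_le (hG.quotient (piCore π G)).compl
    (by rw [compl_compl, piCore_quotient_piCore])
    (h1 _ (isPiSubgroup_piCore πᶜ) _ (le_normalizer_of_normal (mem_top _)) h2)
  have h4 : IsPiNum πᶜ (orderOf (QuotientGroup.mk' (piCore π G) x)) :=
    isPiSubgroup_iff_orderOf.1 (isPiSubgroup_piCore πᶜ) _ h3
  rw [← QuotientGroup.eq_one_iff, ← orderOf_eq_one_iff]
  exact (Nat.coprime_self _).1 (h2.coprime h4)

theorem normal_of_closed {π : Set ℕ} {K : Subgroup G} (h : ∀ x, x ∈ K ↔ IsPiNum π (orderOf x)) :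
    K.Normal := ⟨fun n hn g => by
  rw [h] at hn ⊢
  rwa [← MulAut.conj_apply, MulEquiv.orderOf_eq]⟩

theorem piSep_of_closed [Finite G] {π : Set ℕ} {K : Subgroup G}
    (h : ∀ x, x ∈ K ↔ IsPiNum π (orderOf x)) : PiSep π G := by
  haveI := normal_of_closed h
  refine PiSep.of_normal_of_quotient K
    (piSep_of_isPiNum (isPiSubgroup_iff_orderOf.2 fun a ha => (h a).1 ha))
    (piSep_of_isPiNum_compl fun p hp hd hpπ => ?_)
  haveI := Fact.mk hp
  obtain ⟨y, hy⟩ := exists_prime_orderOf_dvd_card' (G := G ⧸ K) p hd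
  obtain ⟨x, ⟨m, hm⟩, rfl⟩ := H9.exists_pElement_map_eq (QuotientGroup.mk'_surjective _) hp
    (k := 1) (hy.trans (pow_one p).symm)
  have h1 : x ∈ K := (h x).2 fun q hq hqd => by
    rw [hm] at hqd
    rwa [(Nat.prime_dvd_prime_iff_eq hq hp).1 (hq.dvd_of_dvd_pow hqd)]
  have h2 : QuotientGroup.mk' K x = 1 := (QuotientGroup.eq_one_iff x).2 h1
  rw [h2, orderOf_one] at hy
  exact hp.one_lt.ne hy

theorem piHom_of_closed [Finite G] {π : Set ℕ} {K : Subgroup G}
    (h : ∀ x, x ∈ K ↔ IsPiNum π (orderOf x)) : PiHom π G := by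
  intro H hH g hg hgπ x hx
  have hK := normal_of_closed h
  have h1 : K ⊓ H = ⊥ :=
    IsPiSubgroup.disjoint (isPiSubgroup_iff_orderOf.2 fun a ha => (h a).1 ha) hH
  have h2 : g * x * g⁻¹ * x⁻¹ ∈ K ⊓ H := by
    refine ⟨?_, H.mul_mem ((mem_normalizer_iff.1 hg x).1 hx) (H.inv_mem hx)⟩
    have := K.mul_mem ((h g).2 hgπ) (hK.conj_mem _ (K.inv_mem ((h g).2 hgπ)) x)
    simpa [mul_assoc] using this
  rw [h1, mem_bot, mul_inv_eq_one, mul_inv_eq_iff_eq_mul] at h2
  exact h2.symm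

theorem closed_iff [Finite G] {π : Set ℕ} :
    (∃ K : Subgroup G, ∀ x, x ∈ K ↔ IsPiNum π (orderOf x)) ↔ PiSep π G ∧ PiHom π G :=
  ⟨fun ⟨_, h⟩ => ⟨piSep_of_closed h, piHom_of_closed h⟩, fun ⟨h1, h2⟩ =>
    ⟨piCore π G, fun x => ⟨isPiSubgroup_iff_orderOf.1 (isPiSubgroup_piCore π) x,
      mem_piCore_of_piHom h1 h2⟩⟩⟩

end Cfsg.Agent.H5
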