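import Cfsg.Agent.H5.ConjP
import Cfsg.Agent.H5.PiClosed
import Cfsg.Agent.H1.Hall
import Cfsg.Agent.H1.PAction
import Cfsg.Agent.H4.SubCount
import Cfsg.Agent.H8.PComplement

/-! Conjugacy of subgroups of the same order. -/

set_option autoImplicit false

namespace Cfsg.Agent.H5

open Subgroup

universe u

variable {G : Type*} [Group G]

theorem eq_of_card_eq_of_isCyclic [Finite G] [IsCyclic G] {A B : Subgroup G}
    (h : Nat.card A = Nat.card B) : A = B := by
  have h1 := (Nat.card_eq_one_iff_unique.1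
    (H4.card_subgroup_eq_one_of_isCyclic A.card_subgroup_dvd_card)).1
  exact congrArg Subtype.val (h1.elim ⟨A, rfl⟩ ⟨B, h.symm⟩)

theorem eq_of_le_isCyclic [Finite G] {A B C : Subgroup G} (hC : IsCyclic C) (hA : A ≤ C)
    (hB : B ≤ C) (h : Nat.card A = Nat.card B) : A = B := by
  have h1 : A.subgroupOf C = B.subgroupOf C := eq_of_card_eq_of_isCyclic (by
    rw [Nat.card_congr (subgroupOfEquivOfLe hA).toEquiv,
      Nat.card_congr (subgroupOfEquivOfLe hB).toEquiv, h])
  rw [← map_subgroupOf_eq_of_le hA, h1, map_subgroupOf_eq_of_le hB]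

theorem card_subgroupOf_of_le {A C : Subgroup G} (hA : A ≤ C) :
    Nat.card (A.subgroupOf C) = Nat.card A := Nat.card_congr (subgroupOfEquivOfLe hA).toEquiv

theorem map_map_conj {Y : Type*} [Group Y] (f : G →* Y) (H : Subgroup G) (g : G) :
    (H.map (MulAut.conj g).toMonoidHom).map f = (H.map f).map (MulAut.conj (f g)).toMonoidHom := by
  rw [map_map, map_map]
  congr 1
  ext x
  simp

theorem exists_conj_of_subgroupOf {S H K : Subgroup G} (hH : H ≤ S) (hK : K ≤ S)
    (h : ∃ g : S, K.subgroupOf S = (H.subgroupOf S).map (MulAut.conj g).toMonoidHom) :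
    ∃ g ∈ S, K = H.map (MulAut.conj g).toMonoidHom := by
  obtain ⟨g, hg⟩ := h
  refine ⟨g, g.2, ?_⟩
  have := congrArg (Subgroup.map S.subtype) hg
  rwa [map_map_conj, map_subgroupOf_eq_of_le hH, map_subgroupOf_eq_of_le hK] at this

theorem exists_conj_sup_of_map_mk' {N H K : Subgroup G} [N.Normal]
    (h : ∃ g : G ⧸ N, K.map (QuotientGroup.mk' N) =
      (H.map (QuotientGroup.mk' N)).map (MulAut.conj g).toMonoidHom) :
    ∃ g : G, K ⊔ N = H.map (MulAut.conj g).toMonoidHom ⊔ N := by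
  obtain ⟨g, hg⟩ := h
  obtain ⟨g, rfl⟩ := QuotientGroup.mk'_surjective N g
  refine ⟨g, ?_⟩
  have := congrArg (Subgroup.comap (QuotientGroup.mk' N)) hg
  rwa [← map_map_conj, comap_map_eq, comap_map_eq, QuotientGroup.ker_mk'] at this

theorem card_map_mk'_of_coprime [Finite G] {N H : Subgroup G} [N.Normal]
    (h : (Nat.card H).Coprime (Nat.card N)) :
    Nat.card (H.map (QuotientGroup.mk' N)) = Nat.card H := by
  rw [← L.relIndex_eq_card_map_mk', ← H1.card_inf_mul_relIndex N H, inf_comm,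
    H1.inf_eq_bot_of_coprime' h, card_bot, one_mul]

/-- In a group where all `p`-subgroups are cyclic, those of the same order are conjugate. -/
theorem conj_of_forall_isCyclic [Finite G] {p : ℕ} [Fact p.Prime]
    (h : ∀ P : Subgroup G, IsPGroup p P → IsCyclic P) {H K : Subgroup G} (hH : IsPGroup p H)
    (hK : IsPGroup p K) (hc : Nat.card H = Nat.card K) :
    ∃ g : G, K = H.map (MulAut.conj g).toMonoidHom := by
  obtain ⟨P, h1, -, h2, h3⟩ := H1.exists_sylow_of_le (le_top : K ≤ ⊤) hK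
  obtain ⟨g, -, hg⟩ := H1.exists_conj_le_sylow h2 h3 (le_top : H ≤ ⊤) hH
  exact ⟨g, eq_of_le_isCyclic (h P h2) h1 hg (by rw [H1.card_map_conj, hc])⟩

theorem mem_of_normal_of_conj [Finite G] {p : ℕ} [hp : Fact p.Prime]
    (hC : ∀ H K : Subgroup G, IsPGroup p H → IsPGroup p K → Nat.card H = Nat.card K →
      ∃ g : G, K = H.map (MulAut.conj g).toMonoidHom) (N : Subgroup G) [hN : N.Normal]
    (hd : p ∣ Nat.card N) {x : G} (hx : x ^ p = 1) : x ∈ N := by
  by_cases h1 : x = 1
  · exact h1 ▸ one_mem N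
  obtain ⟨⟨y, hy⟩, hyp⟩ := exists_prime_orderOf_dvd_card' p hd
  replace hyp : orderOf y = p := (Subgroup.orderOf_coe (⟨y, hy⟩ : N)).trans hyp
  have hxp := orderOf_eq_prime hx h1
  obtain ⟨g, hg⟩ := hC (zpowers y) (zpowers x)
    (H8.isPGroup_zpowers_of_orderOf (k := 1) (by simpa using hyp))
    (H8.isPGroup_zpowers_of_orderOf (k := 1) (by simpa using hxp))
    (by rw [Nat.card_zpowers, Nat.card_zpowers, hyp, hxp])
  obtain ⟨z, hz, hz'⟩ := hg ▸ mem_zpowers x
  exact hz' ▸ hN.conj_mem z (zpowers_le.2 hy hz) g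

/-- conjugacy of equal order `q`-subgroups passes to quotients by normal `p`-subgroups -/
theorem conj_quotient_of_isPGroup [Finite G] {p q : ℕ} [Fact p.Prime] [Fact q.Prime]
    (hC : ∀ H K : Subgroup G, IsPGroup q H → IsPGroup q K → Nat.card H = Nat.card K →
      ∃ g : G, K = H.map (MulAut.conj g).toMonoidHom) (V : Subgroup G) [V.Normal]
    (hV : IsPGroup p V) (H K : Subgroup (G ⧸ V)) (hH : IsPGroup q H) (hK : IsPGroup q K)
    (hc : Nat.card H = Nat.card K) : ∃ g : G ⧸ V, K = H.map (MulAut.conj g).toMonoidHom := by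
  have hs := QuotientGroup.mk'_surjective V
  by_cases hpq : p = q
  · subst hpq
    obtain ⟨g, hg⟩ := hC _ _ (hH.comap_of_ker_isPGroup (QuotientGroup.mk' V)
      (by rwa [QuotientGroup.ker_mk'])) (hK.comap_of_ker_isPGroup (QuotientGroup.mk' V)
      (by rwa [QuotientGroup.ker_mk'])) (by rw [L.card_comap_mk', L.card_comap_mk', hc])
    refine ⟨g, ?_⟩
    have := congrArg (Subgroup.map (QuotientGroup.mk' V)) hg
    rwa [map_map_conj, map_comap_eq_self_of_surjective hs, map_comap_eq_self_of_surjective hs]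
      at this
  · obtain ⟨A, rfl, -, hA⟩ := exists_lift_subgroup_of_coprime V H
      (IsPGroup.coprime_card_of_ne p q hpq _ _ hV hH)
    obtain ⟨B, rfl, -, hB⟩ := exists_lift_subgroup_of_coprime V K
      (IsPGroup.coprime_card_of_ne p q hpq _ _ hV hK)
    obtain ⟨a, ha⟩ := hH.exists_card_eq
    obtain ⟨g, rfl⟩ := hC A B (IsPGroup.of_card (hA.trans ha))
      (IsPGroup.of_card (hB.trans (hc.symm.trans ha))) (hA.trans (hc.trans hB.symm))
    exact ⟨g, map_map_conj _ _ _⟩

theorem isCyclic_quotient_of_forall [Finite G] {q : ℕ} [Fact q.Prime]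
    (h : ∀ P : Subgroup G, IsPGroup q P → IsCyclic P) (V : Subgroup G) [V.Normal]
    (P : Subgroup (G ⧸ V)) (hP : IsPGroup q P) : IsCyclic P := by
  obtain ⟨S, hS⟩ := hP.exists_le_sylow
  obtain ⟨T, rfl⟩ := Sylow.mapSurjective_surjective (QuotientGroup.mk'_surjective V) q S
  haveI := h T T.isPGroup'
  haveI : IsCyclic ((T : Subgroup G).map (QuotientGroup.mk' V)) :=
    isCyclic_of_surjective _ ((QuotientGroup.mk' V).subgroupMap_surjective T)
  exact Subgroup.isCyclic_of_le (H := P) (H' := (T : Subgroup G).map (QuotientGroup.mk' V)) hS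

theorem conj_of_almost_cyclic (r : ℕ) (G : Type u) [Group G] [Finite G] :
    Group.IsSolvable G → (∀ p : ℕ, p.Prime → ∀ H K : Subgroup G, IsPGroup p H → IsPGroup p K →
      Nat.card H = Nat.card K → ∃ g : G, K = H.map (MulAut.conj g).toMonoidHom) →
    (∀ p : ℕ, p.Prime → p ≠ r → ∀ P : Subgroup G, IsPGroup p P → IsCyclic P) →
    ∀ H K : Subgroup G, Nat.card H = Nat.card K →
      ∃ g : G, K = H.map (MulAut.conj g).toMonoidHom := by
  refine L.induction_on_card (P := fun G _ _ => Group.IsSolvable G →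
    (∀ p : ℕ, p.Prime → ∀ H K : Subgroup G, IsPGroup p H → IsPGroup p K →
      Nat.card H = Nat.card K → ∃ g : G, K = H.map (MulAut.conj g).toMonoidHom) →
    (∀ p : ℕ, p.Prime → p ≠ r → ∀ P : Subgroup G, IsPGroup p P → IsCyclic P) →
    ∀ H K : Subgroup G, Nat.card H = Nat.card K →
      ∃ g : G, K = H.map (MulAut.conj g).toMonoidHom) G ?_
  intro G _ _ ih hsol hD hcyc H K hHK
  rcases subsingleton_or_nontrivial G with h | h
  · exact ⟨1, Subsingleton.elim _ _⟩
  obtain ⟨V, p, hV, hp, hVe⟩ := L.exists_isMinNormal_isElementaryAbelian (G := G)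
  haveI := hV.1
  haveI := Fact.mk hp
  have hVp := L.IsElementaryAbelian.isPGroup hVe
  have hpV : p ∣ Nat.card V := by
    obtain ⟨k, hk⟩ := hVp.exists_card_eq
    rcases Nat.eq_zero_or_pos k with rfl | hk0
    · exact absurd (card_eq_one.1 (by simpa using hk)) hV.2.1
    · exact hk ▸ dvd_pow_self p hk0.ne'
  have hq := ih (G ⧸ V) (L.card_quotient_lt V hV.2.1) inferInstance
    (fun q hq => haveI := Fact.mk hq; conj_quotient_of_isPGroup (hD q hq) V hVp)
    (fun q hq hqr => haveI := Fact.mk hq; isCyclic_quotient_of_forall (hcyc q hq hqr) V)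
  have hmem : ∀ x : G, x ^ p = 1 → x ∈ V := fun x hx =>
    mem_of_normal_of_conj (hD p hp) V hpV hx
  by_cases hpH : p ∣ Nat.card H
  swap
  · have hc : (Nat.card H).Coprime (Nat.card V) := H1.coprime_card_of_isPGroup hVp
      ((Nat.Prime.coprime_iff_not_dvd hp).2 hpH).symm
    obtain ⟨g, hg⟩ := exists_conj_sup_of_map_mk' (hq (H.map (QuotientGroup.mk' V))
      (K.map (QuotientGroup.mk' V))
      (by rw [card_map_mk'_of_coprime hc, card_map_mk'_of_coprime (hHK ▸ hc), hHK]))
    obtain ⟨n, -, hn⟩ := H1.exists_conj_eq_of_le_sup le_normalizer_of_normal (hHK ▸ hc)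
      (Or.inr inferInstance) (hg ▸ le_sup_left : H.map (MulAut.conj g).toMonoidHom ≤ K ⊔ V)
      (by rw [H1.card_map_conj, hHK])
    exact ⟨n * g, by rw [← hn, H1.map_conj_map_conj]⟩
  by_cases hVc : IsCyclic V
  · have h1 : ∀ H : Subgroup G, p ∣ Nat.card H → V ≤ H := fun H hH => by
      obtain ⟨⟨y, hy⟩, hyp⟩ := exists_prime_orderOf_dvd_card' p hH
      replace hyp : orderOf y = p := (Subgroup.orderOf_coe (⟨y, hy⟩ : H)).trans hyp
      have h2 : zpowers y ≤ V := zpowers_le.2 (hmem y (hyp ▸ pow_orderOf_eq_one y))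
      rw [← H1.eq_of_le_of_card_le h2 (by
        rw [Nat.card_zpowers, hyp]
        by_contra h3
        exact H3.not_isCyclic_of_isElementaryAbelian hp hVe (not_le.1 h3) hVc)]
      exact zpowers_le.2 hy
    have h2 := h1 H hpH
    have h3 := h1 K (hHK ▸ hpH)
    obtain ⟨g, hg⟩ := exists_conj_sup_of_map_mk' (hq (H.map (QuotientGroup.mk' V))
      (K.map (QuotientGroup.mk' V)) (Nat.eq_of_mul_eq_mul_right (Nat.card_pos (α := V))
        (by rw [H3.card_map_mk'_mul V h2, H3.card_map_mk'_mul V h3, hHK])))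
    refine ⟨g, ?_⟩
    rwa [sup_eq_left.2 h3, sup_eq_left.2 (h1 _ (by rwa [H1.card_map_conj]))] at hg
  have hpr : p = r := by
    by_contra h1
    exact hVc (hcyc p hp h1 V hVp)
  have hsyl : ∀ P : Subgroup G, IsPGroup p P → P ≤ V := fun P hP => by
    have hP' : IsPGroup p (P ⊔ V : Subgroup G) := hP.to_sup_of_normal_right hVp
    rcases classify_of_conj (hD p hp) hP' with h | h | ⟨rfl, ⟨e⟩⟩ | ⟨-, -, -, h⟩
    · exact absurd (Subgroup.isCyclic_of_le (le_sup_right : V ≤ P ⊔ V)) hVc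
    · exact fun x hx => hmem x (h.2 x (mem_sup_left hx))
    · exfalso
      apply hVc
      refine H3.isCyclic_of_isElementaryAbelian_of_card_le hVe ?_
      have h2 : ∀ y : QuaternionGroup 2, y ^ 2 = 1 → y = 1 ∨ y = QuaternionGroup.a 2 := by decide
      calc Nat.card V ≤ Nat.card ({1, QuaternionGroup.a 2} : Set (QuaternionGroup 2)) :=
            Nat.card_le_card_of_injective (fun v => ⟨e ⟨v, mem_sup_right v.2⟩, h2 _ (by
              rw [← map_pow, ← map_one e]; congr 1; exact Subtype.ext (hVe.2 v v.2))⟩)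
              fun v w h => Subtype.ext (congrArg Subtype.val (e.injective (Subtype.ext_iff.1 h)) :)
        _ ≤ 2 := by rw [Nat.card_coe_set_eq]; exact (Set.ncard_pair (by decide)).le
    · exact fun x hx => hmem x (h x (mem_sup_left hx))
  have hidx : ∀ H : Subgroup G, ¬ p ∣ (H ⊓ V).relIndex H := fun H =>
    H1.not_dvd_relIndex_of_maximal inf_le_left (hVp.to_le inf_le_right) fun Q h1 h2 h3 =>
      le_antisymm (le_inf h2 (hsyl Q h3)) h1
  have hcard : ∀ H K : Subgroup G, Nat.card H = Nat.card K →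
      Nat.card (H ⊓ V : Subgroup G) ∣ Nat.card (K ⊓ V : Subgroup G) := fun H K h => by
    refine (H1.coprime_card_of_isPGroup (hVp.to_le inf_le_right)
      ((Nat.Prime.coprime_iff_not_dvd hp).2 (hidx K)).symm).symm.dvd_of_dvd_mul_right ?_
    rw [H1.card_mul_relIndex inf_le_left, ← h]
    exact card_dvd_of_le inf_le_left
  have key : ∀ H K : Subgroup G, Nat.card H = Nat.card K → H ⊓ V = K ⊓ V →
      ∃ g : G, K = H.map (MulAut.conj g).toMonoidHom := fun H K hHK hU => by
    have hc : ∀ H : Subgroup G, ∃ A : Subgroup G, A ≤ normalizer ((H ⊓ V : Subgroup G) : Set G) ∧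
        A ⊔ (H ⊓ V) = H ∧ (Nat.card A).Coprime p ∧ Nat.card (H ⊓ V : Subgroup G) * Nat.card A =
          Nat.card H := fun H => by
      have h0 := ((Nat.Prime.coprime_iff_not_dvd hp).2 (hidx H)).symm
      have hn : H ≤ normalizer ((H ⊓ V : Subgroup G) : Set G) :=
        H1.le_normalizer_inf le_normalizer le_normalizer_of_normal
      obtain ⟨A, h1, h2, -, h3⟩ := H1.exists_complement_of_coprime inf_le_left hn
        (H1.coprime_card_of_isPGroup (hVp.to_le inf_le_right) h0).symm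
      exact ⟨A, h1.trans hn, h2, h3 ▸ h0, h3 ▸ H1.card_mul_relIndex inf_le_left⟩
    obtain ⟨A, hA1, hA2, hA3, hA4⟩ := hc H
    obtain ⟨B, hB1, hB2, hB3, hB4⟩ := hc K
    rw [hU] at hA1 hA2 hA4
    set N := normalizer ((K ⊓ V : Subgroup G) : Set G) with hN
    have hAB : Nat.card A = Nat.card B :=
      Nat.eq_of_mul_eq_mul_left Nat.card_pos (hA4.trans (hHK.trans hB4.symm))
    obtain ⟨S, hS, hBS⟩ := H1.exists_le_isPiHallOf_of_isSolvable (π := {p}ᶜ)
      (inferInstance : Group.IsSolvable N) hB1 ((L.isPiSubgroup_compl_singleton_iff hp).2 hB3)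
    obtain ⟨n, hn, hAS⟩ := H1.exists_conj_le_isPiHallOf_of_isSolvable inferInstance hS hA1
      ((L.isPiSubgroup_compl_singleton_iff hp).2 hA3)
    have hSp : ¬ p ∣ Nat.card S := fun h => (H1.isPiHallOf_iff.1 hS).2.1 p hp h rfl
    have hcS : ∀ q : ℕ, q.Prime → ∀ P : Subgroup S, IsPGroup q P → IsCyclic P := fun q hq P hP => by
      by_cases hqp : q = p
      · subst hqp
        obtain ⟨k, hk⟩ := hP.exists_card_eq
        rcases Nat.eq_zero_or_pos k with rfl | hk0
        · rw [card_eq_one.1 (by simpa using hk : Nat.card P = 1)]; infer_instance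
        · exact absurd ((hk ▸ dvd_pow_self q hk0.ne').trans P.card_subgroup_dvd_card) hSp
      · haveI := hcyc q hq (hpr ▸ hqp) _ (hP.map S.subtype)
        exact isCyclic_of_surjective _ (P.equivMapOfInjective _ S.subtype_injective).symm.surjective
    obtain ⟨s, hs, hB⟩ := exists_conj_of_subgroupOf hAS hBS (ih S (L.card_lt_of_ne_top fun h =>
      hSp (by rw [h, card_top]; exact hpV.trans V.card_subgroup_dvd_card)) inferInstance
      (fun q hq H K => haveI := Fact.mk hq; conj_of_forall_isCyclic (hcS q hq))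
      (fun q hq _ => hcS q hq) _ _
      (by rw [card_subgroupOf_of_le hAS, card_subgroupOf_of_le hBS, H1.card_map_conj, hAB]))
    refine ⟨s * n, ?_⟩
    rw [← hA2, Subgroup.map_sup, H1.map_conj_eq_self_iff.2 (N.mul_mem (hS.1 hs) hn),
      ← H1.map_conj_map_conj, ← hB, hB2]
  obtain ⟨t, ht⟩ := hD p hp (H ⊓ V) (K ⊓ V) (hVp.to_le inf_le_right) (hVp.to_le inf_le_right)
    (Nat.dvd_antisymm (hcard _ _ hHK) (hcard _ _ hHK.symm))
  obtain ⟨g, hg⟩ := key (H.map (MulAut.conj t).toMonoidHom) K (by rw [H1.card_map_conj, hHK]) (by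
    rw [ht, Subgroup.map_inf _ _ _ (MulAut.conj t).injective,
      (H1.map_conj_eq_self_iff (H := V)).2 (le_normalizer_of_normal (mem_top t))])
  exact ⟨g * t, by rw [hg, H1.map_conj_map_conj]⟩

end Cfsg.Agent.H5
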