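/-
The friendship theorem applied to groups with Sylow 2-subgroups of order 4.
-/
import Cfsg.Agent.FT.Base
import Cfsg.Agent.H5.Friendship
import Cfsg.Agent.L.Invol

set_option autoImplicit false

namespace Cfsg.Agent.H5

open Subgroup Cfsg Cfsg.Agent Cfsg.Agent.FT

universe u

variable {G : Type u} [Group G] [Finite G]

theorem card_le_four_of_not_eight_dvd (h8 : ¬ 8 ∣ Nat.card G) {D : Subgroup G}
    (hD : IsPGroup 2 D) : ∃ k ≤ 2, 𝐨(D) = 2 ^ k := by
  obtain ⟨k, hk⟩ := exists_card_eq_pow Nat.prime_two hD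
  refine ⟨k, by_contra fun h => h8 ?_, hk⟩
  exact ((pow_dvd_pow 2 (show 3 ≤ k by omega)).trans hk.symm.dvd).trans (card_subgroup_dvd_card D)

theorem isMulComm_of_not_eight_dvd (h8 : ¬ 8 ∣ Nat.card G) {D : Subgroup G}
    (hD : IsPGroup 2 D) : IsMulCommutative D := by
  obtain ⟨k, hk, e⟩ := card_le_four_of_not_eight_dvd h8 hD
  have := Fact.mk Nat.prime_two
  interval_cases k
  · exact isMulComm_of_isCyclic (by rw [card_eq_one.1 e]; infer_instance)
  · exact isMulComm_of_isCyclic (isCyclic_of_card_prime (e ▸ Nat.prime_two))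
  · exact ⟨⟨IsPGroup.commutative_of_card_eq_prime_sq e⟩⟩

omit [Finite G] in
theorem isPGroup_two_zpowers {t : G} (ht : t * t = 1) : IsPGroup 2 (zpowers t) := by
  rintro ⟨_, k, rfl⟩
  exact ⟨1, Subtype.ext (by
    change (t ^ k) ^ 2 ^ 1 = 1
    rw [pow_one, ← zpow_natCast, ← zpow_mul, mul_comm, zpow_mul, zpow_natCast, sq, ht, one_zpow])⟩

theorem eq_mul_of_not_eight_dvd (h8 : ¬ 8 ∣ Nat.card G) {t u z : G} (ht1 : t ≠ 1) (ht : t * t = 1)
    (hu1 : u ≠ 1) (hu : u * u = 1) (htu : t ≠ u) (hc : Commute t u) (hz1 : z ≠ 1) (hz : z * z = 1)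
    (h1 : z ≠ t) (h2 : z ≠ u) (h3 : Commute t z) (h4 : Commute u z) : z = t * u := by
  classical
  by_contra h5
  have hn : ∀ {a b : G}, Commute a b → zpowers a ≤ 𝐍(zpowers b) := fun h =>
    (zpowers_le.2 ((cent_zpowers _).ge (mem_cent1.2 h.symm.eq))).trans (cent_le_norm _)
  obtain ⟨k, hk, e⟩ := card_le_four_of_not_eight_dvd h8 (isPGroup_sup
    (isPGroup_sup (isPGroup_two_zpowers ht) (isPGroup_two_zpowers hu) (hn hc))
    (isPGroup_two_zpowers hz) (sup_le (hn h3) (hn h4)))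
  have a1 : t ∈ zpowers t ⊔ zpowers u ⊔ zpowers z := mem_sup_left (mem_sup_left (mem_zpowers t))
  have a2 : u ∈ zpowers t ⊔ zpowers u ⊔ zpowers z := mem_sup_left (mem_sup_right (mem_zpowers u))
  have h6 : ({1, t, u, t * u, z} : Set G).ncard ≤ 𝐨(zpowers t ⊔ zpowers u ⊔ zpowers z) :=
    Set.ncard_le_ncard (t := ((zpowers t ⊔ zpowers u ⊔ zpowers z : Subgroup G) : Set G)) (by
      simp only [Set.insert_subset_iff, Set.singleton_subset_iff, SetLike.mem_coe]
      exact ⟨one_mem _, a1, a2, mul_mem a1 a2, mem_sup_right (mem_zpowers z)⟩) (Set.toFinite _)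
  have h7 : t * u ≠ 1 := fun e => htu (by rw [← mul_left_inj u, e, hu])
  rw [Set.ncard_insert_of_notMem (by simp [ht1.symm, hu1.symm, hz1.symm, h7.symm]),
    Set.ncard_insert_of_notMem (by simp [htu, hu1, h1.symm]),
    Set.ncard_insert_of_notMem (by simp [ht1, h2.symm]), Set.ncard_pair (Ne.symm h5), e] at h6
  have := Nat.pow_le_pow_right (show 0 < 2 by norm_num) hk
  omega

/-- Let the Sylow 2-subgroups have order at most 4, let every element inverted by an involution be a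
`{2, p}`-element and let every nontrivial `p`-element commute with exactly one involution. Then some
involution commutes with all involutions. -/
theorem exists_invol_commute_of_unique (h8 : ¬ 8 ∣ Nat.card G) {p : ℕ} (hp2 : p ≠ 2) {s : G}
    (hs1 : s ≠ 1) (hs : s * s = 1)
    (hreal : ∀ t w : G, t ≠ 1 → t * t = 1 → t * w * t = w⁻¹ → IsPiElt {2, p} w)
    (hK : ∀ x : G, x ≠ 1 → IsPiElt {p} x → ∃! z : G, z ≠ 1 ∧ z * z = 1 ∧ Commute x z) :
    ∃ t : G, t ≠ 1 ∧ t * t = 1 ∧ ∀ u : G, u * u = 1 → Commute t u := by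
  refine exists_invol_commute_all hs1 hs fun t u ht1 ht hu1 hu htu => ?_
  by_cases hc : Commute t u
  · refine ⟨t * u, ⟨fun e => htu (by rw [← mul_left_inj u, e, hu]), ?_, by simpa, by simpa,
      (Commute.refl t).mul_right hc, hc.symm.mul_right (Commute.refl u)⟩,
      fun z hz => eq_mul_of_not_eight_dvd h8 ht1 ht hu1 hu htu hc hz.1 hz.2.1 hz.2.2.1 hz.2.2.2.1
        hz.2.2.2.2.1 hz.2.2.2.2.2⟩
    rw [hc.symm.mul_mul_mul_comm, ht, hu, one_mul]
  have hinv : ∀ {a b : G}, a * a = 1 → b * b = 1 → ∀ x ∈ zpowers (a * b), a * x * a = x⁻¹ :=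
    fun {a b} ha hb x hx => by
      obtain ⟨k, rfl⟩ := mem_powers_iff_mem_zpowers.2 hx
      exact L.invol_conj_pow ha hb k
  have hti := L.inv_eq_self_of_mul_self ht
  have hui := L.inv_eq_self_of_mul_self hu
  have hx := piPt_mem_zpowers {p} (t * u)
  have hxp := isPiElt_piPt {p} (t * u)
  have hx1 : piPt {p} (t * u) ≠ 1 := fun e => hc (by
    have h1 : IsPiElt {2} (t * u) := fun r hr hd =>
      (hreal t _ ht1 ht (hinv ht hu _ (mem_zpowers _)) r hr hd).resolve_right
        (piPt_eq_one_iff.1 e r hr hd)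
    have h2 := isMulComm_of_not_eight_dvd h8 (isPGroup_sup (isPGroup_two_zpowers ht)
      ((isPiElt_singleton_iff Nat.prime_two).1 h1) (zpowers_le.2 (mem_norm_of_conj_le (by
        rintro _ ⟨x, hx, rfl⟩
        change t * x * t⁻¹ ∈ _
        rw [hti, hinv ht hu x hx]
        exact inv_mem hx))))
    have h3 : Commute t (t * u) := (isMulComm_iff_le_cent.1 h2 (mem_sup_right (mem_zpowers _)) t
      (mem_sup_left (mem_zpowers t)))
    simpa using (Commute.refl t).inv_right.mul_right h3)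
  generalize piPt {p} (t * u) = x at hx hxp hx1
  obtain ⟨z, ⟨hz1, hz, hxz⟩, huniq⟩ := hK x hx1 hxp
  have key : ∀ a : G, a * a = 1 → a * x * a = x⁻¹ → z ≠ a ∧ Commute a z := fun a ha hax => by
    have hai := L.inv_eq_self_of_mul_self ha
    refine ⟨?_, ?_⟩
    · rintro rfl
      rw [← hxz.eq, mul_assoc, ha, mul_one] at hax
      have h1 : orderOf x ∣ 2 := orderOf_dvd_of_pow_eq_one (by rw [sq]; nth_rw 1 [hax]; simp)
      rcases (Nat.dvd_prime Nat.prime_two).1 h1 with e | e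
      · exact hx1 (orderOf_eq_one_iff.1 e)
      · exact hp2 (hxp 2 Nat.prime_two e.symm.dvd).symm
    · have h1 := huniq (a * z * a⁻¹) ⟨by simpa using hz1, by
        rw [show a * z * a⁻¹ * (a * z * a⁻¹) = a * (z * z) * a⁻¹ by group, hz]; simp, by
        have := (hxz.inv_left.map (MulAut.conj a).toMonoidHom)
        simp only [MulEquiv.coe_toMonoidHom, MulAut.conj_apply] at this
        rwa [show a * x⁻¹ * a⁻¹ = x by rw [← hax, hai, ← mul_assoc, ← mul_assoc, ha, one_mul,
          mul_assoc, ha, mul_one]] at this⟩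
      exact mul_inv_eq_iff_eq_mul.1 h1
  have k1 := key t ht (hinv ht hu x hx)
  have k2 := key u hu (hinv hu ht x (by
    rwa [show u * t = (t * u)⁻¹ by rw [mul_inv_rev, hti, hui], zpowers_inv]))
  refine ⟨z, ⟨hz1, hz, k1.1, k2.1, k1.2, k2.2⟩, fun y hy => huniq y ⟨hy.1, hy.2.1, ?_⟩⟩
  obtain ⟨k, rfl⟩ := hx
  exact (hy.2.2.2.2.1.mul_left hy.2.2.2.2.2).zpow_left k

/-- In a simple group of order other than 2 no involution commutes with all involutions. -/
theorem not_commute_all_invol [IsSimpleGroup G] (h2 : Nat.card G ≠ 2) {t : G} (ht1 : t ≠ 1)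
    (ht : t * t = 1) : ¬ ∀ u : G, u * u = 1 → Commute t u := fun h => by
  have h1 : normalClosure {t} ≤ 𝐂[t] := by
    rw [normalClosure, closure_le]
    intro y hy
    obtain ⟨a, ha, hc⟩ := Group.mem_conjugatesOfSet_iff.1 hy
    rw [Set.mem_singleton_iff.1 ha] at hc
    obtain ⟨g, rfl⟩ := isConj_iff.1 hc
    exact mem_cent1.2 (h _ (by
      rw [show g * t * g⁻¹ * (g * t * g⁻¹) = g * (t * t) * g⁻¹ by group, ht]; simp)).eq
  rw [(IsSimpleGroup.eq_bot_or_eq_top_of_normal (normalClosure ({t} : Set G))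
    normalClosure_normal).resolve_left fun e =>
    ht1 (mem_bot.1 (e ▸ subset_normalClosure (Set.mem_singleton t)))] at h1
  have h3 := (IsSimpleGroup.eq_bot_or_eq_top_of_normal (zpowers t) (normal_iff_top_le.2
    (h1.trans ((cent_zpowers t).ge.trans (cent_le_norm _))))).resolve_left (by simpa)
  apply h2
  rw [← card_top, ← h3, Nat.card_zpowers]
  exact orderOf_eq_prime (by rw [sq, ht]) ht1

end Cfsg.Agent.H5
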