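/-
Groups with a cyclic Sylow p-subgroup all of whose p'-subgroups are abelian.
-/
import Cfsg.Agent.H5.Count
import Cfsg.Agent.H5.Friend2
import Cfsg.Agent.L.BSW1
import Cfsg.Agent.FT.Final

set_option autoImplicit false

namespace Cfsg.Agent.H5.CycAb

open Subgroup Cfsg Cfsg.Agent Cfsg.Agent.FT
open scoped commutatorElement

universe u

variable {G : Type u} [Group G] [Finite G] {p : ℕ}

theorem cyc_cop (hp : p.Prime) {P A : Subgroup G} (hc : IsCyclic P) (hP : IsPGroup p P)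
    (hA : A ≤ 𝐍(P)) (hd : ¬ p ∣ 𝐨(A)) : A ≤ 𝐂(P) ∨ (P ⊓ 𝐂(A) = ⊥ ∧ ⁅P, A⁆ = P) := by
  have hcop : 𝐨(A).Coprime 𝐨(P) := (isPi_coprime ((isPi_singleton_iff hp).2 hP)
    ((isPi_compl_singleton_iff' hp).2 hd)).symm
  have h1 := H1.centralizer_inf_commutator_eq_bot (isMulComm_of_isCyclic hc) hA hcop
  have h2 := H1.commutator_sup_centralizer hA hcop
    (Or.inr (isSolvable_of_isNilpotent (isNilpotent_of_isPGroup hp hP)))
  by_cases h3 : ⁅P, A⁆ = ⊥
  · exact Or.inl (cent_comm.1 (comm_eq_bot_iff.1 h3))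
  have h4 : P ⊓ 𝐂(A) = ⊥ := by_contra fun h4 => inf_ne_bot_of_isCyclic hp hc hP inf_le_left
    (comm_le_left_iff.2 hA) h4 h3 (eq_bot_iff.2 ((inf_le_inf_right _ inf_le_right).trans h1.le))
  exact Or.inr ⟨h4, by rwa [h4, sup_bot_eq] at h2⟩

omit [Finite G] in
theorem inv_of_mem_zpowers {t w y : G} (ht : t * t = 1) (hw : t * w * t = w⁻¹) (hy : y ∈ zpowers w) :
    t * y * t = y⁻¹ := by
  obtain ⟨k, rfl⟩ := hy
  have h := conj_zpow (i := k) (a := t) (b := w)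
  rw [L.inv_eq_self_of_mul_self ht, hw, inv_zpow] at h
  exact h.symm

theorem dich (hp : p.Prime) {M P : Subgroup G} (hs : Group.IsSolvable M) (hP : IsSyl p P M)
    (hc : IsCyclic P) (hab : ∀ H : Subgroup G, ¬ p ∣ 𝐨(H) → IsMulCommutative H) :
    HasNPC p M ∨ M ≤ 𝐍(P) := by
  have hO := pPrimePCoreOf_normal p M
  have h1 : P ≤ pPrimePCoreOf p M := (le_inf hP.le ((isMulComm_iff_le_cent.1
    (isMulComm_of_isCyclic hc)).trans (cent_anti inf_le_left))).trans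
    (solvable_p_constrained hp hs (hP.inf_normal hp hO))
  have hK := pPrimeCoreOf_normal p M
  have h2 := (hP.of_le le_sup_right (sup_le hK.1 hP.le)).frattini hp ⟨sup_le hK.1 hP.le,
    (pl1_iff_sylow hp hP).1 ((pl1_iff_le hp hP).2 h1)⟩
  obtain ⟨D, hD⟩ := exists_hall (M := M ⊓ 𝐍(P)) (by
    exact solvable_of_solvable_injective (inclusion_injective inf_le_left)) {p}ᶜ
  have h3 := hall_sup_hall_compl ((isSyl_iff_hall hp).1 (hP.of_le (le_inf hP.le le_normalizer)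
    inf_le_left)) hD
  have hDp := (isPi_compl_singleton_iff' hp).1 hD.2.1
  rcases cyc_cop hp hc hP.pgrp (hD.1.trans inf_le_right) hDp with h | ⟨-, h⟩
  · exact Or.inl (burnside_npc hp hP (h3.ge.trans (sup_le (isMulComm_iff_le_cent.1
      (isMulComm_of_isCyclic hc)) h)))
  have h4 := isMulComm_iff_le_cent.1 (hab (D ⊔ H2.pPrimeCoreOf p M) ((isPi_compl_singleton_iff' hp).1
    (isPi_sup hD.2.1 ((isPi_compl_singleton_iff' hp).2 (not_dvd_card_pPrimeCoreOf hp M))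
    ((hD.1.trans inf_le_left).trans hK.2))))
  have h5 : P ≤ 𝐂(H2.pPrimeCoreOf p M) := h.ge.trans ((commutator_mono le_rfl (le_sup_left.trans
    (h4.trans (cent_anti le_sup_right)))).trans
    (comm_le_right_iff.2 (H1.le_normalizer_centralizer (hP.le.trans hK.2))))
  exact Or.inr (h2.ge.trans (sup_le (sup_le ((cent_comm.1 h5).trans (cent_le_norm P)) le_normalizer)
    inf_le_right))

section simple

variable [IsSimpleGroup G] (hp : p.Prime) (hns : ¬ Group.IsSolvable G)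
  (hsol : ∀ H : Subgroup G, H ≠ ⊤ → Group.IsSolvable H)
  (hcyc : ∀ P : Subgroup G, IsPGroup p P → IsCyclic P)
  (hab : ∀ H : Subgroup G, ¬ p ∣ 𝐨(H) → IsMulCommutative H)

include hns hab in
theorem dvd_card : p ∣ Nat.card G := by_contra fun h => ne_top_of_isSolvable hns
  (isSolvable_of_isNilpotent (isNilpotent_of_isMulComm (hab ⊤ (by rwa [card_top])))) rfl

include hp hns hsol hcyc hab in
theorem le_norm {P M : Subgroup G} (hP : IsSyl p P ⊤) (hM : M ≠ ⊤) (h : 𝐍(P) ≤ M) : M ≤ 𝐍(P) := by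
  have hPN := hP.of_le (le_norm_self P) le_top
  refine (dich hp (hsol M hM) (hP.of_le (le_normalizer.trans h) le_top) (hcyc P hP.pgrp)
    hab).resolve_left fun h1 => not_norm_le_cent hns hp (dvd_card hns hab) hP ?_
  have h2 := h1.of_le hp h
  exact (h2.sdProd hp hPN).sup.ge.trans (sup_le (h2.le_cent hp hP.pgrp le_normalizer
    (pPrimeCoreOf_normal p _).1 (not_dvd_card_pPrimeCoreOf hp _) (pPrimeCoreOf_normal p _).1)
    (isMulComm_iff_le_cent.1 (isMulComm_of_isCyclic (hcyc P hP.pgrp))))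

include hp hns hsol hcyc hab in
theorem norm_zpowers_le {P : Subgroup G} (hP : IsSyl p P ⊤) {x : G} (hx : x ∈ P) (h1 : x ≠ 1) :
    𝐍(zpowers x) ≤ 𝐍(P) :=
  le_norm hp hns hsol hcyc hab hP (norm_ne_top hns (by simpa)
    (isSolvable_of_isNilpotent (isNilpotent_of_isMulComm (isMulComm_of_isCyclic inferInstance))))
    (norm_le_norm_of_le_cyclic (hcyc P hP.pgrp) (zpowers_le.2 hx))

include hp hns hsol hcyc hab in
theorem cent1_le {P : Subgroup G} (hP : IsSyl p P ⊤) {x : G} (hx : x ∈ P) (h1 : x ≠ 1) :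
    𝐂[x] ≤ 𝐍(P) :=
  ((cent_zpowers x).ge.trans (cent_le_norm _)).trans (norm_zpowers_le hp hns hsol hcyc hab hP hx h1)

include hp hns hsol hcyc hab in
theorem ti {P : Subgroup G} (hP : IsSyl p P ⊤) {x g : G} (hx : x ∈ P) (h1 : x ≠ 1)
    (h : g * x * g⁻¹ ∈ P) : g ∈ 𝐍(P) := by
  refine mem_norm_of_conj_le ((hP.of_le le_normalizer le_top).le_of_normal hp le_rfl
    (hP.conj g).pgrp (le_trans ?_ (cent1_le hp hns hsol hcyc hab hP h (by simpa using h1))))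
  rw [cent1_conj]
  exact conj_mono ((isMulComm_iff_le_cent.1 (isMulComm_of_isCyclic (hcyc P hP.pgrp))).trans
    (cent_le_cent1 hx)) g

include hp hns hsol hab in
theorem exists_not_cent {S : Subgroup G} (hS : IsSyl 2 S ⊤) (hp2 : p ≠ 2) :
    ∃ P₀, IsSyl p P₀ 𝐍(S) ∧ ¬ P₀ ≤ 𝐂(S) := by
  have h2 : 2 ∣ Nat.card G := by_contra fun h => hns (feit_thompson G (Nat.odd_iff.2 (by omega)))
  obtain ⟨P₀, hP₀⟩ := exists_isSyl hp 𝐍(S)
  refine ⟨P₀, hP₀, fun h => not_norm_le_cent hns Nat.prime_two h2 hS ?_⟩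
  obtain ⟨D, hD, hSD⟩ := exists_hall_ge (π := {p}ᶜ) (hsol _ (norm_ne_top hns
    (hS.ne_bot Nat.prime_two (by rwa [card_top])) (isSolvable_of_isNilpotent
    (isNilpotent_of_isPGroup Nat.prime_two hS.pgrp)))) (le_norm_self S)
    (isPi_of_isPGroup Nat.prime_two hS.pgrp hp2.symm)
  exact (hall_sup_hall_compl ((isSyl_iff_hall hp).1 hP₀) hD).ge.trans (sup_le h
    ((isMulComm_iff_le_cent.1 (hab D ((isPi_compl_singleton_iff' hp).1 hD.2.1))).trans
    (cent_anti hSD)))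

omit [IsSimpleGroup G] in
include hp hab in
theorem real_sq (hp2 : p ≠ 2) {t w : G} (ht : t * t = 1) (hw : t * w * t = w⁻¹) :
    piPt {p}ᶜ w * piPt {p}ᶜ w = 1 := by
  have hti := L.inv_eq_self_of_mul_self ht
  have h1 := inv_of_mem_zpowers ht hw (piPt_mem_zpowers {p}ᶜ w)
  have h2 := isPiElt_piPt {p}ᶜ w
  generalize piPt {p}ᶜ w = y at h1 h2
  have h3 := isMulComm_iff_le_cent.1 (hab (zpowers t ⊔ zpowers y) ((isPi_compl_singleton_iff' hp).1
    (isPi_sup (isPi_of_isPGroup Nat.prime_two (isPGroup_two_zpowers ht) hp2.symm)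
    (isPi_zpowers.2 h2) (zpowers_le.2 (mem_norm_of_conj_le (by
      rw [← zpowers_conj, hti, h1, zpowers_inv])))))) (mem_sup_right (mem_zpowers y)) t
    (mem_sup_left (mem_zpowers t))
  rw [h3, mul_assoc, ht, mul_one] at h1
  nth_rw 1 [h1]
  simp

omit [IsSimpleGroup G] in
theorem inverts (hp : p.Prime) (hp2 : p ≠ 2) {P : Subgroup G} (hc : IsCyclic P) (hP : IsPGroup p P)
    {w : G} (hw : w * w = 1) (hn : w ∈ 𝐍(P)) :
    (∀ a ∈ P, w * a * w = a⁻¹) ∨ w ∈ 𝐂(P) := by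
  rcases cyc_cop hp hc hP (zpowers_le.2 hn) ((isPi_compl_singleton_iff' hp).1
    (isPi_of_isPGroup Nat.prime_two (isPGroup_two_zpowers hw) hp2.symm)) with h | ⟨h, -⟩
  · exact Or.inr (h (mem_zpowers w))
  · exact Or.inl (L.inverts_of_fpf hw hn fun a ha hc =>
      mem_bot.1 (h.le ⟨ha, (cent_zpowers w).ge (mem_cent1.2 hc.eq)⟩))

omit [Finite G] [IsSimpleGroup G] in
theorem mul_mem_cent {P : Subgroup G} {v w : G} (hw : w * w = 1) (h1 : ∀ a ∈ P, v * a * v = a⁻¹)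
    (hv : v * v = 1) (h2 : ∀ a ∈ P, w * a * w = a⁻¹) : v * w ∈ 𝐂(P) := fun a ha =>
  mem_cent1.1 (L.EAC.mul_mem_cent_of_inverts hw hv (h2 a ha) (h1 a ha))

include hp hns hsol hcyc hab in
theorem caseB (hp2 : p ≠ 2)
    (hB : ∀ t x : G, t ≠ 1 → t * t = 1 → IsPiElt {p} x → Commute t x → x = 1) : False := by
  have h2 : 2 ∣ Nat.card G := by_contra fun h => hns (feit_thompson G (Nat.odd_iff.2 (by omega)))
  have hG2 : Nat.card G ≠ 2 := fun e =>
    hp2 ((Nat.prime_dvd_prime_iff_eq hp Nat.prime_two).1 (e ▸ dvd_card hns hab))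
  obtain ⟨S, hS⟩ := exists_isSyl Nat.prime_two (⊤ : Subgroup G)
  obtain ⟨t, htS, hto⟩ := exists_mem_orderOf_eq_prime Nat.prime_two (prime_dvd_card_of_isPGroup
    Nat.prime_two hS.pgrp (hS.ne_bot Nat.prime_two (by rwa [card_top])))
  have ht1 : t ≠ 1 := by rintro rfl; simp at hto
  have ht : t * t = 1 := by rw [← sq, ← hto, pow_orderOf_eq_one]
  have hti := L.inv_eq_self_of_mul_self ht
  have hpe : ∀ x : G, orderOf x = p → IsPiElt {p} x ∧ x ≠ 1 := fun x hx =>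
    ⟨fun q hq hd => (Nat.prime_dvd_prime_iff_eq hq hp).1 (hx ▸ hd), by
      rintro rfl; exact hp.one_lt.ne (by simpa using hx)⟩
  have hK : ¬ p ∣ 𝐨(𝐂[t]) := fun h => by
    obtain ⟨x, hx, ho⟩ := exists_mem_orderOf_eq_prime hp h
    exact (hpe x ho).2 (hB t x ht1 ht (hpe x ho).1 (mem_cent1.1 hx))
  have hKS : 𝐂(S) = 𝐂[t] := le_antisymm (cent_le_cent1 htS) ((isMulComm_iff_le_cent.1 (hab _ hK)).trans
    (cent_anti ((isMulComm_iff_le_cent.1 (hab S ((isPi_compl_singleton_iff' hp).1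
    (isPi_of_isPGroup Nat.prime_two hS.pgrp hp2.symm)))).trans (cent_le_cent1 htS))))
  obtain ⟨P₀, hP₀, h0⟩ := exists_not_cent hp hns hsol hab hS hp2
  -- products of non-commuting involutions are `p`-elements
  have hprod : ∀ u v : G, u * u = 1 → v * v = 1 → ¬ Commute u v → IsPiElt {p} (u * v) :=
    fun u v hu hv hc => by
      have h1 := real_sq hp hab hp2 hu (w := u * v) (by simpa using L.invol_conj_pow hu hv 1)
      by_cases h3 : piPt {p}ᶜ (u * v) = 1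
      · simpa using piPt_eq_one_iff.1 h3
      have h4 := hB _ _ h3 h1 (isPiElt_piPt {p} (u * v)) (commute_piPt _ _ _)
      have h5 := piPt_mul_piPt_compl {p} (u * v)
      rw [h4, one_mul] at h5
      rw [h5] at h1
      refine (hc ?_).elim
      have := L.inv_eq_self_of_mul_self h1
      rw [mul_inv_rev, L.inv_eq_self_of_mul_self hu, L.inv_eq_self_of_mul_self hv] at this
      exact this.symm
  have hX : p ∣ {u : G | u * u = 1 ∧ u ∉ 𝐂[t]}.ncard := by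
    refine (prime_dvd_card_of_isPGroup hp hP₀.pgrp fun e => h0 (e ▸ bot_le)).trans
      (card_dvd_ncard_of_conj (fun g hg u hu => ⟨?_, fun h => hu.2 ?_⟩) fun g hg u hu hc => ?_)
    · rw [show g * u * g⁻¹ * (g * u * g⁻¹) = g * (u * u) * g⁻¹ by group, hu.1]; simp
    · have := H1.normalizer_le_normalizer_centralizer S (hP₀.le hg)
      rw [hKS] at this
      rwa [← conj_eq_of_mem_norm this, conj_mem_conj_iff] at h
    · exact hB u g (fun e => hu.2 (e ▸ one_mem _)) hu.1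
        (isPiElt_of_mem ((isPi_singleton_iff hp).2 hP₀.pgrp) hg) hc.symm
  -- a Sylow `p`-subgroup normalized by `t`
  have hsyl : ∀ u : G, u * u = 1 → u ∉ 𝐂[t] → ∃ P, IsSyl p P ⊤ ∧ t * u ∈ P ∧ t ∈ 𝐍(P) :=
    fun u hu hc => by
      obtain ⟨P, hP, h⟩ := exists_isSyl_ge hp ((isPiElt_singleton_iff hp).1
        (hprod t u ht hu fun h => hc (mem_cent1.2 h.eq))) le_top
      refine ⟨P, hP, h (mem_zpowers _), norm_zpowers_le hp hns hsol hcyc hab hP (h (mem_zpowers _))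
        (fun e => hc ?_) (mem_norm_of_conj_le ?_)⟩
      · rw [← mul_right_inj t, ← mul_assoc, ht, one_mul, mul_one] at e
        exact e ▸ self_mem_cent1 u
      · rw [← zpowers_conj, hti, show t * (t * u) * t = (t * u)⁻¹ by
          simpa using L.invol_conj_pow ht hu 1, zpowers_inv]
  have hinv : ∀ P, IsSyl p P ⊤ → ∀ v : G, v ≠ 1 → v * v = 1 → v ∈ 𝐍(P) →
      ∀ a ∈ P, v * a * v = a⁻¹ := fun P hP v hv1 hv hn =>
    (inverts hp hp2 (hcyc P hP.pgrp) hP.pgrp hv hn).resolve_right fun h =>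
      hP.ne_bot hp (card_top (G := G) ▸ dvd_card hns hab) (eq_bot_iff.2 fun a ha => mem_bot.2
        (hB v a hv1 hv (isPiElt_of_mem ((isPi_singleton_iff hp).2 hP.pgrp) ha) (h a ha).symm))
  obtain ⟨u₀, hu₀⟩ : ∃ u : G, u * u = 1 ∧ u ∉ 𝐂[t] := by
    by_contra hne
    push Not at hne
    exact not_commute_all_invol hG2 ht1 ht fun u hu => mem_cent1.1 (hne u hu)
  obtain ⟨P, hP, -, htP⟩ := hsyl u₀ hu₀.1 hu₀.2
  have hP1 := hP.ne_bot hp (card_top (G := G) ▸ dvd_card hns hab)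
  have h3 : (t * ·) '' {u : G | u * u = 1 ∧ u ∉ 𝐂[t]} = classSupp (sharp P) 𝐂[t] := by
    ext y
    constructor
    · rintro ⟨u, ⟨hu, hc⟩, rfl⟩
      obtain ⟨Q, hQ, h1, htQ⟩ := hsyl u hu hc
      obtain ⟨g, -, rfl⟩ := hQ.exists_conj_eq hp hP
      -- `t` and `g⁻¹ t g` both invert `P`
      have h4 : g⁻¹ * t * g ∈ 𝐍(P) := by rwa [norm_conj, mem_conj] at htQ
      have h5 : g⁻¹ * t * g * (g⁻¹ * t * g) = 1 := by
        rw [show g⁻¹ * t * g * (g⁻¹ * t * g) = g⁻¹ * (t * t) * g by group, ht]; simp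
      have h6 : g⁻¹ * t * g ≠ 1 := by simpa using (MulAut.conj g⁻¹).map_ne_one_iff.2 ht1
      obtain ⟨n, hn, e⟩ : ∃ n ∈ 𝐍(P), n * t * n = g⁻¹ * t * g ∧ n * n = 1 ∨
          n = 1 ∧ t = g⁻¹ * t * g := by
        by_cases hc : Commute t (g⁻¹ * t * g)
        · refine ⟨1, one_mem _, Or.inr ⟨rfl, by_contra fun hne => hP1 (eq_bot_iff.2 fun a ha =>
            mem_bot.2 (hB (t * (g⁻¹ * t * g)) a (fun e => hne ?_) ?_
            (isPiElt_of_mem ((isPi_singleton_iff hp).2 hP.pgrp) ha) (mul_mem_cent h5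
            (hinv P hP t ht1 ht htP) ht (hinv P hP _ h6 h5 h4) a ha).symm))⟩⟩
          · rw [← mul_right_inj t, e, ht]
          · rw [hc.symm.mul_mul_mul_comm, ht, h5, one_mul]
        · obtain ⟨k, hk1, hk2⟩ := L.exists_invol_conj_of_odd ht h5 (Nat.not_even_iff_odd.1 fun h =>
            hp2 (hprod _ _ ht h5 hc 2 Nat.prime_two (even_iff_two_dvd.1 h)).symm)
          exact ⟨_, mul_mem htP (pow_mem (mul_mem htP h4) k), Or.inl ⟨hk2, hk1⟩⟩
      have h7 : g * n ∈ 𝐂[t] := mem_cent1_iff_conj.2 (by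
        rcases e with ⟨e, e'⟩ | ⟨rfl, e⟩
        · rw [mul_inv_rev, L.inv_eq_self_of_mul_self e', show g * n * t * (n * g⁻¹) =
            g * (n * t * n) * g⁻¹ by group, e]; group
        · nth_rw 1 [e]; group)
      refine ⟨(g * n)⁻¹ * (t * u) * (g * n), ⟨?_, fun e => hc ?_⟩, g * n, h7, by group⟩
      · rwa [← mem_conj, ← conj_conj, conj_eq_of_mem_norm hn]
      · have : t * u = 1 := (MulAut.conj (g * n)⁻¹).map_eq_one_iff.1 (by rw [← e, MulAut.conj_apply, inv_inv])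
        rw [← mul_right_inj t, ← mul_assoc, ht, one_mul, mul_one] at this
        exact this ▸ self_mem_cent1 u
    · rintro ⟨a, ha, k, hk, rfl⟩
      have h4 := hinv P hP t ht1 ht htP a ha.1
      have h5 := mem_cent1_iff_conj.1 hk
      refine ⟨k * (t * a) * k⁻¹, ⟨?_, fun h => ha.2 (hB t a ht1 ht
        (isPiElt_of_mem ((isPi_singleton_iff hp).2 hP.pgrp) ha.1) ?_)⟩, ?_⟩
      · rw [show k * (t * a) * k⁻¹ * (k * (t * a) * k⁻¹) = k * (t * a * t * a) * k⁻¹ by group, h4]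
        simp
      · rw [← conj_eq_of_mem hk, conj_mem_conj_iff] at h
        exact mem_cent1.1 ((mul_mem_cancel_left (self_mem_cent1 t)).1 h)
      · change t * (k * (t * a) * k⁻¹) = _
        nth_rw 1 [← h5]
        rw [show k * t * k⁻¹ * (k * (t * a) * k⁻¹) = k * (t * t) * a * k⁻¹ by group, ht, mul_one]
  have h4 := ncard_classSupp_mul (A := sharp P) (X := 𝐂[t]) (L := 𝐂[t] ⊓ 𝐍(P)) inf_le_left
    (fun g hg a ha => ⟨conj_le_of_mem_norm le_rfl hg.2 (conj_mem_conj ha.1 g), by simpa using ha.2⟩)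
    fun g hg a ha h => ⟨hg, ti hp hns hsol hcyc hab hP ha.1 ha.2 h.1⟩
  rw [← h3, Set.ncard_image_of_injective _ (mul_right_injective t), ncard_sharp] at h4
  rcases (hp.dvd_mul).1 (h4 ▸ hX.mul_right _) with h | h
  · have := (Nat.dvd_sub_iff_right (Nat.card_pos (α := P))
      (prime_dvd_card_of_isPGroup hp hP.pgrp hP1)).1 h
    exact hp.one_lt.ne' (Nat.dvd_one.1 this)
  · exact hK h

include hp hns hsol hcyc hab in
theorem caseA (hp2 : p ≠ 2) {t x₀ : G} (ht1 : t ≠ 1) (ht : t * t = 1) (hx₀ : IsPiElt {p} x₀)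
    (hc₀ : Commute t x₀) (hx₀1 : x₀ ≠ 1) : False := by
  have hG2 : Nat.card G ≠ 2 := fun e =>
    hp2 ((Nat.prime_dvd_prime_iff_eq hp Nat.prime_two).1 (e ▸ dvd_card hns hab))
  have h2π : ∀ {S : Subgroup G}, IsPGroup 2 S → IsPiSubgroup {p}ᶜ S := fun h =>
    isPi_of_isPGroup Nat.prime_two h hp2.symm
  have hcj : ∀ {u : G}, u * u = 1 → ∀ g, g * u * g⁻¹ * (g * u * g⁻¹) = 1 := fun {u} hu g => by
    rw [show g * u * g⁻¹ * (g * u * g⁻¹) = g * (u * u) * g⁻¹ by group, hu]; simp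
  obtain ⟨P, hP, hxP⟩ := exists_isSyl_ge hp ((isPiElt_singleton_iff hp).1 hx₀) le_top
  have hPc := hcyc P hP.pgrp
  have hPP := isMulComm_iff_le_cent.1 (isMulComm_of_isCyclic hPc)
  have hPN := hP.of_le (le_norm_self P) le_top
  have hNC := not_norm_le_cent hns hp (dvd_card hns hab) hP
  have hP1 := hP.ne_bot hp (card_top (G := G) ▸ dvd_card hns hab)
  have hNs := hsol _ (norm_ne_top hns hP1 (isSolvable_of_isNilpotent
    (isNilpotent_of_isPGroup hp hP.pgrp)))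
  have hcent : ∀ z : G, z * z = 1 → ∀ x ∈ P, x ≠ 1 → Commute z x → z ∈ 𝐂(P) :=
    fun z hz x hx hx1 hc => by
      rcases cyc_cop hp hPc hP.pgrp (zpowers_le.2 (cent1_le hp hns hsol hcyc hab hP hx hx1
        (mem_cent1.2 hc.symm.eq))) ((isPi_compl_singleton_iff' hp).1 (h2π (isPGroup_two_zpowers hz)))
        with h | ⟨h, -⟩
      · exact h (mem_zpowers z)
      · exact (hx1 (mem_bot.1 (h.le ⟨hx, (cent_zpowers z).ge (mem_cent1.2 hc.eq)⟩))).elim
  have htC := hcent t ht x₀ (hxP (mem_zpowers _)) hx₀1 hc₀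
  have hCy : ∀ y ∈ 𝐂(P), y ≠ 1 → IsPiElt {p}ᶜ y → 𝐂[y] = 𝐍(P) := fun y hy hy1 hyp => by
    obtain ⟨D, hD, hyD⟩ := exists_hall_ge hNs (zpowers_le.2 (cent_le_norm P hy)) (isPi_zpowers.2 hyp)
    have h1 : 𝐍(P) ≤ 𝐂[y] := (hall_sup_hall_compl ((isSyl_iff_hall hp).1 hPN) hD).ge.trans
      (sup_le (mem_cent_iff_cent1.1 hy) ((isMulComm_iff_le_cent.1 (hab D
      ((isPi_compl_singleton_iff' hp).1 hD.2.1))).trans (cent_le_cent1 (hyD (mem_zpowers y)))))
    exact le_antisymm (le_norm hp hns hsol hcyc hab hP (cent1_ne_top hns hy1) h1) h1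
  have hCt := hCy t htC ht1 (isPi_zpowers.1 (h2π (isPGroup_two_zpowers ht)))
  obtain ⟨S, hS, htS⟩ := exists_isSyl_ge Nat.prime_two (isPGroup_two_zpowers ht) le_top
  have htS := htS (mem_zpowers t)
  have hSN : S ≤ 𝐍(P) := hCt ▸ (isMulComm_iff_le_cent.1 (hab S ((isPi_compl_singleton_iff' hp).1
    (h2π hS.pgrp)))).trans (cent_le_cent1 htS)
  obtain ⟨D, hD, hSD⟩ := exists_hall_ge hNs hSN (h2π hS.pgrp)
  have hDp := (isPi_compl_singleton_iff' hp).1 hD.2.1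
  have hDD := isMulComm_iff_le_cent.1 (hab D hDp)
  obtain ⟨P₀, hP₀, h0⟩ := exists_not_cent hp hns hsol hab hS hp2
  have hP₀D : P₀ ≤ 𝐍(D) := by
    have h1 := (dich hp (hsol _ (norm_ne_top hns (fun e => ht1 (mem_bot.1 (e ▸ htS)))
      (isSolvable_of_isNilpotent (isNilpotent_of_isPGroup Nat.prime_two hS.pgrp)))) hP₀
      (hcyc P₀ hP₀.pgrp) hab).resolve_right fun h => h0 (le_cent_of_norm_of_coprime hP₀.le
      (le_normalizer.trans h) (coprime_card_of_isPGroup Nat.prime_two hp hp2.symm hS.pgrp hP₀.pgrp))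
    have h2 := h1.le_pPrimeCoreOf hp ((hDD.trans (cent_anti hSD)).trans (cent_le_norm S)) hDp
    have h3 := not_dvd_card_pPrimeCoreOf hp 𝐍(S)
    rw [← hall_eq_of_le hD h2 (hCt ▸ (isMulComm_iff_le_cent.1 (hab _ h3)).trans
      (cent_le_cent1 (h2 (hSD htS)))) ((isPi_compl_singleton_iff' hp).2 h3)]
    exact hP₀.le.trans (pPrimeCoreOf_normal p _).2
  obtain ⟨x, hx, hxo⟩ := exists_mem_orderOf_eq_prime hp
    (prime_dvd_card_of_isPGroup hp hP₀.pgrp fun e => h0 (e ▸ bot_le))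
  have hPD : P ⊓ 𝐂(D) = ⊥ := ((cyc_cop hp hPc hP.pgrp hD.1 hDp).resolve_left fun h => hNC
    ((hall_sup_hall_compl ((isSyl_iff_hall hp).1 hPN) hD).ge.trans (sup_le hPP h))).1
  have hti : ∀ g ∈ P₀, ∀ y ∈ D ⊓ 𝐂(P), y ≠ 1 → g * y * g⁻¹ ∈ 𝐂(P) → g = 1 :=
    fun g hg y hy hy1 hgy => by
      have hyp := isPiElt_of_mem hD.2.1 hy.1
      have h1 := hCy _ hgy (by simpa using hy1) (isPiElt_conj.2 hyp)
      rw [cent1_conj, hCy y hy.2 hy1 hyp] at h1
      have h2 : g ∈ 𝐍(P) := mem_norm_of_conj_le (hPN.le_of_normal hp le_rfl (hP.conj g).pgrp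
        (h1 ▸ conj_mono le_normalizer g))
      have h3 : zpowers g ≤ P := hPN.le_of_normal hp le_rfl (hP₀.pgrp.to_le (zpowers_le.2 hg))
        (zpowers_le.2 h2)
      have h4 : g ∈ 𝐂(D) := by
        rw [mem_cent]
        intro d hd
        have h5 : ⁅d, g⁆ ∈ P ⊓ D := ⟨comm_le_right_iff.2 hD.1 (commutator_mem_commutator hd
          (h3 (mem_zpowers g))), comm_le_left_iff.2 hP₀D (commutator_mem_commutator hd hg)⟩
        rw [isPi_disjoint ((isPi_singleton_iff hp).2 hP.pgrp) hD.2.1] at h5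
        exact commutatorElement_eq_one_iff_mul_comm.1 h5
      exact mem_bot.1 (hPD.le ⟨h3 (mem_zpowers g), h4⟩)
  have hxi : ∀ i, 0 < i → i < p → x ^ i ≠ 1 := fun i h1 h2 => pow_ne_one_of_lt_orderOf h1.ne' (hxo ▸ h2)
  have hD' : ∀ g ∈ P₀, ∀ y ∈ D, g * y * g⁻¹ ∈ D := fun g hg y hy =>
    conj_le_of_mem_norm le_rfl (hP₀D hg) (conj_mem_conj hy g)
  have hinv : ∀ g ∈ P₀, g ≠ 1 → ∀ y ∈ D ⊓ 𝐂(P), y ≠ 1 → y * y = 1 →
      ∀ a ∈ P, g * y * g⁻¹ * a * (g * y * g⁻¹) = a⁻¹ := fun g hg hg1 y hy hy1 hy2 =>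
    (inverts hp hp2 hPc hP.pgrp (hcj hy2 g) (hD.1 (hD' g hg y hy.1))).resolve_right
      fun h => hg1 (hti g hg y hy hy1 h)
  have hx1 : x ≠ 1 := by simpa using hxi 1 one_pos hp.one_lt
  have htE : t ∈ D ⊓ 𝐂(P) := ⟨hSD htS, htC⟩
  have huniq : ∀ y ∈ D ⊓ 𝐂(P), y ≠ 1 → y * y = 1 → y = t := fun y hy hy1 hy2 => by
    by_contra hne
    refine hx1 (hti x hx (t * y) (mul_mem htE hy) (fun e => hne ?_) ?_)
    · rw [← mul_right_inj t, e, ht]
    · simpa using mul_mem_cent (hcj hy2 x) (hinv x hx hx1 t htE ht1 ht) (hcj ht x)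
        (hinv x hx hx1 y hy hy1 hy2)
  have hp3 : p = 3 := by
    by_contra hne
    have h5 : 3 < p := by have := hp.two_le; omega
    have key : ∀ i, 1 < i → i < p → x * t * x⁻¹ * (x ^ i * t * (x ^ i)⁻¹) = t := fun i h1 h2 => by
      have a1 := hD' x hx t htE.1
      have a2 := hD' _ (pow_mem hx i) t htE.1
      refine huniq _ ⟨mul_mem a1 a2, mul_mem_cent (hcj ht _) (hinv x hx hx1 t htE ht1 ht) (hcj ht x)
        (hinv _ (pow_mem hx i) (hxi i (by omega) h2) t htE ht1 ht)⟩ (fun e => ?_) ?_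
      · refine hxi (i - 1) (by omega) (by omega) (hti _ (pow_mem hx _) t htE ht1 ?_)
        have h3 : x ^ i * t * (x ^ i)⁻¹ = x * t * x⁻¹ := by
          rw [← mul_right_inj (x * t * x⁻¹), e, hcj ht]
        obtain ⟨j, rfl⟩ : ∃ j, i = j + 1 := ⟨i - 1, by omega⟩
        rw [Nat.add_sub_cancel, show x ^ j * t * (x ^ j)⁻¹ = x⁻¹ * (x ^ (j + 1) * t * (x ^ (j + 1))⁻¹) * x
          by group, h3]
        simpa [mul_assoc] using htC
      · rw [(show Commute _ _ from hDD a1 _ a2).mul_mul_mul_comm, hcj ht, hcj ht, one_mul]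
    have h1 := (key 2 (by omega) (by omega)).trans (key 3 (by omega) h5).symm
    refine hx1 (hti x hx t htE ht1 ?_)
    rw [show x * t * x⁻¹ = (x ^ 2)⁻¹ * (x ^ 3 * t * (x ^ 3)⁻¹) * x ^ 2 by group,
      ← mul_left_cancel h1]
    simpa [mul_assoc] using htC
  have h8 : ¬ 8 ∣ Nat.card G := fun h8 => by
    obtain ⟨X, hX, hXo⟩ := exists_le_card_eq_prime hp (prime_dvd_card_of_isPGroup hp hP.pgrp hP1)
    have h1 := relIndex_cent_dvd_of_prime (hXo ▸ hp) (hD.1.trans (norm_le_norm_of_le_cyclic hPc hX))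
    have h2 : D ⊓ 𝐂(X) = D ⊓ 𝐂(P) := le_antisymm (le_inf inf_le_left ((cyc_cop hp hPc hP.pgrp
      (inf_le_left.trans hD.1) fun h => hDp (h.trans (FT.card_dvd_of_le inf_le_left))).resolve_right
      fun h => ne_bot_of_card_prime (hXo ▸ hp) (eq_bot_iff.2 ((le_inf hX
      (cent_comm.1 inf_le_right)).trans h.1.le)))) (inf_le_inf_left _ (cent_anti hX))
    rw [hXo, hp3, ← inf_relIndex_left, h2] at h1
    have h3 : (D ⊓ 𝐂(P)) ^ᵍ x ≤ D := conj_le_of_mem_norm inf_le_left (hP₀D hx)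
    have h4 : 𝐨(D ⊓ 𝐂(P)) ∣ (D ⊓ 𝐂(P)).relIndex D := by
      have h5 := H1.card_inf_mul_relIndex (D ⊓ 𝐂(P)) ((D ⊓ 𝐂(P)) ^ᵍ x)
      have h6 : (D ⊓ 𝐂(P)) ⊓ (D ⊓ 𝐂(P)) ^ᵍ x = ⊥ := eq_bot_iff.2 (by
        rintro _ ⟨h, y, hy, rfl⟩
        exact mem_bot.2 (by_contra fun hne => hx1 (hti x hx y hy (by simpa using hne) h.2)))
      rw [h6, card_bot, one_mul, card_conj] at h5
      have : ((D ⊓ 𝐂(P)).subgroupOf D).Normal := (normal_subgroupOf_iff_le_normalizer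
        inf_le_left).2 ((hDD.trans (cent_anti inf_le_left)).trans (cent_le_norm _))
      have h7 := relIndex_dvd_index_of_normal ((D ⊓ 𝐂(P)).subgroupOf D)
        (((D ⊓ 𝐂(P)) ^ᵍ x).subgroupOf D)
      rwa [relIndex_subgroupOf h3, h5] at h7
    have h5 : 2 ^ 3 ∣ 𝐨(S) := by
      rw [hS.card_eq_pow_factorization Nat.prime_two, card_top]
      exact pow_dvd_pow 2 ((Nat.prime_two.pow_dvd_iff_le_factorization Nat.card_pos.ne').1 h8)
    have h6 := (h5.trans (FT.card_dvd_of_le hSD)).trans (H1.card_mul_relIndex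
      (inf_le_left : D ⊓ 𝐂(P) ≤ D) ▸ Nat.mul_dvd_mul (h4.trans h1) h1)
    omega
  refine (exists_invol_commute_of_unique h8 hp2 ht1 ht (fun u w _ hu hw r hr hd => ?_)
    fun y hy1 hy => ?_).elim fun u h => not_commute_all_invol hG2 h.1 h.2.1 h.2.2
  · by_contra hne
    have h1 : IsPiElt {2, p} (piPt {p}ᶜ w) := fun q hq h => Or.inl ((Nat.prime_dvd_prime_iff_eq hq
      Nat.prime_two).1 (h.trans (orderOf_dvd_of_pow_eq_one (by rw [sq, real_sq hp hab hp2 hu hw]))))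
    have h2 := ((isPiElt_piPt {p} w).mono (ρ := {2, p}) (by simp)).mul h1 (commute_piPt _ _ _)
    rw [piPt_mul_piPt_compl] at h2
    exact hne (h2 r hr hd)
  · obtain ⟨g, -, hg⟩ := hP.exists_conj_le hp ((isPiElt_singleton_iff hp).1 hy) le_top
    have hgy : g * y * g⁻¹ ∈ P := hg (conj_mem_conj (mem_zpowers y) g)
    refine ⟨g⁻¹ * t * g, ⟨by simpa using (MulAut.conj g⁻¹).map_ne_one_iff.2 ht1,
      by simpa using hcj ht g⁻¹, ?_⟩, fun z ⟨hz1, hz, hyz⟩ => ?_⟩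
    · calc y * (g⁻¹ * t * g) = g⁻¹ * (g * y * g⁻¹ * t) * g := by group
        _ = _ := by rw [htC _ hgy]; group
    · have h1 := hcent _ (hcj hz g) _ hgy (by simpa using hy1) (hyz.symm.map (MulAut.conj g))
      obtain ⟨n, hn, h2⟩ := exists_conj_le_hall hNs hD (zpowers_le.2 (cent_le_norm P h1))
        (h2π (isPGroup_two_zpowers (hcj hz g)))
      have h3 := huniq _ ⟨h2 (conj_mem_conj (mem_zpowers _) n), conj_le_of_mem_norm le_rfl
        (H1.normalizer_le_normalizer_centralizer P hn) (conj_mem_conj h1 n)⟩ (by simpa using hz1)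
        (hcj (hcj hz g) n)
      have h4 := mem_cent1_iff_conj.1 (hCt.ge hn)
      rw [← h4, mul_left_inj, mul_right_inj] at h3
      rw [← h3]; group

end simple

theorem isSolvable (hp : p.Prime) (G : Type u) [Group G] [Finite G] :
    ((∀ P : Subgroup G, IsPGroup p P → IsCyclic P) ∧
      ∀ H : Subgroup G, ¬ p ∣ 𝐨(H) → IsMulCommutative H) → Group.IsSolvable G := by
  refine isSolvable_of_minSimple (P := fun G _ _ => (∀ P : Subgroup G, IsPGroup p P → IsCyclic P) ∧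
      ∀ H : Subgroup G, ¬ p ∣ 𝐨(H) → IsMulCommutative H) (fun G _ _ H h => ⟨fun P hP => ?_,
      fun K hK => ?_⟩) (fun G _ _ N _ _ h => ⟨fun P hP => ?_, fun K hK => ?_⟩)
      (fun G _ _ _ h hns hsol => ?_) G
  · exact (isCyclic_map_iff H.subtype_injective).1 (h.1 _ (hP.map _))
  · exact (isMulComm_map_iff H.subtype_injective).1 (h.2 _ (by rwa [card_map_inj H.subtype_injective]))
  · obtain ⟨K, rfl, hK⟩ := exists_map_eq_of_primes _ (QuotientGroup.mk'_surjective N) P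
    have := h.1 K ((isPi_singleton_iff hp).1 fun q hq hd =>
      (isPi_singleton_iff hp).2 hP q hq (hK q hq hd))
    exact isCyclic_of_surjective _ (MonoidHom.subgroupMap_surjective _ K)
  · obtain ⟨K, rfl, hK'⟩ := exists_map_eq_of_primes _ (QuotientGroup.mk'_surjective N) K
    have := h.2 K fun hd => hK (hK' p hp hd)
    infer_instance
  by_cases hp2 : p = 2
  · obtain ⟨P, hP⟩ := exists_isSyl hp (⊤ : Subgroup G)
    exact not_hasNPC_top hns hp (dvd_card hns h.2) (cyclic_minFac_npc hp hP (h.1 P hP.pgrp)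
      fun q hq _ => hp2 ▸ hq.two_le)
  exact caseB hp hns hsol h.1 h.2 hp2 fun t x ht1 ht hx hc => by_contra fun hx1 =>
    caseA hp hns hsol h.1 h.2 hp2 ht1 ht hx hc hx1

end Cfsg.Agent.H5.CycAb
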