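import Mathlib

/-! A fixed-point-free operator of prime order `q` on a finite vector space over `ZMod p`. -/

set_option autoImplicit false

namespace Cfsg.Agent.H5

open Polynomial Module

theorem exists_linearEquiv_apply_eq {K V : Type*} [Field K] [AddCommGroup V] [Module K V]
    {x y : V} (hx : x ≠ 0) (hy : y ≠ 0) : ∃ e : V ≃ₗ[K] V, e x = y := by
  obtain ⟨f, hf1, hf2⟩ : ∃ f : Dual K V, f x = 1 ∧ f y ≠ 0 := by
    obtain ⟨u, hu⟩ := Projective.exists_dual_eq_one K hx
    obtain ⟨w, hw⟩ := Projective.exists_dual_eq_one K hy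
    by_cases h1 : u y = 0
    · by_cases h2 : w x = 0
      · exact ⟨u + w, by simp [hu, h2], by simp [h1, hw]⟩
      · exact ⟨(w x)⁻¹ • w, by simp [h2], by simp [hw, h2]⟩
    · exact ⟨u, hu, h1⟩
  refine ⟨LinearEquiv.dilatransvection (f := f) (v := y - x) (by simpa [hf1] using hf2), ?_⟩
  simp [LinearEquiv.dilatransvection.apply, hf1]

section

variable {R V : Type*} [CommRing R] [AddCommGroup V] [Module R V]

theorem map_aeval_of_comm {φ S T : End R V} (h : φ * T = S * φ) (f : R[X]) :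
    φ * aeval T f = aeval S f * φ := by
  have h1 : ∀ n : ℕ, φ * T ^ n = S ^ n * φ := fun n => (SemiconjBy.pow_right h n).eq
  induction f using Polynomial.induction_on' with
  | add f g hf hg => rw [map_add, map_add, mul_add, add_mul, hf, hg]
  | monomial n a =>
    rw [aeval_monomial, aeval_monomial, mul_assoc, ← h1, ← mul_assoc, ← mul_assoc,
      Algebra.commutes]

theorem aeval_cyclotomic_eq_zero {q : ℕ} [Fact q.Prime] {T : End R V} (hT : T ^ q = 1)
    (hf : ∀ v, T v = v → v = 0) : aeval T (cyclotomic q R) = 0 := by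
  have h1 := congrArg (aeval T) (cyclotomic_prime_mul_X_sub_one R q)
  rw [mul_comm, map_mul, map_sub, map_sub, map_pow, aeval_X, hT, map_one, sub_self] at h1
  ext v
  apply hf
  have h2 := LinearMap.congr_fun h1 v
  simp only [End.mul_apply, LinearMap.sub_apply, End.one_apply, LinearMap.zero_apply] at h2
  exact sub_eq_zero.1 h2

/-- the cyclic submodule generated by `v` -/
noncomputable def cyc (T : End R V) (v : V) : Submodule R V :=
  LinearMap.range (LinearMap.applyₗ v ∘ₗ (aeval T).toLinearMap)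

theorem mem_cyc {T : End R V} {v w : V} : w ∈ cyc T v ↔ ∃ f : R[X], aeval T f v = w := Iff.rfl

theorem self_mem_cyc (T : End R V) (v : V) : v ∈ cyc T v := mem_cyc.2 ⟨1, by simp⟩

theorem cyc_le {T : End R V} {v w : V} (h : w ∈ cyc T v) : cyc T w ≤ cyc T v := by
  obtain ⟨f, rfl⟩ := h
  rintro _ ⟨g, rfl⟩
  exact mem_cyc.2 ⟨g * f, by simp⟩

theorem aeval_eq_zero_of_transitive [Finite V] {T : End R V}
    (h : ∀ v w : V, v ≠ 0 → w ≠ 0 → ∃ (φ : End R V) (j : ℕ), Function.Injective φ ∧ φ v = w ∧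
      φ * T = T ^ j * φ) {f : R[X]} {v : V} (hv : v ≠ 0) (hf : aeval T f v = 0) :
    aeval T f = 0 := by
  have h1 : ∀ v w : V, v ≠ 0 → w ∈ cyc T v → w ≠ 0 → cyc T w = cyc T v := by
    intro v w hv hw hw0
    obtain ⟨φ, j, hφ, rfl, h2⟩ := h v w hv hw0
    refine SetLike.coe_injective (Set.eq_of_subset_of_ncard_le (cyc_le hw) ?_)
    refine Set.ncard_le_ncard_of_injOn φ ?_ hφ.injOn
    rintro _ ⟨g, rfl⟩
    refine mem_cyc.2 ⟨g.comp (X ^ j), ?_⟩
    rw [aeval_comp, map_pow, aeval_X]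
    exact (LinearMap.congr_fun (map_aeval_of_comm h2 g) v).symm
  ext w
  by_contra hw
  have hw0 : w ≠ 0 := by rintro rfl; simp at hw
  have h2 : aeval T f (v + w) = aeval T f w := by rw [map_add, hf, zero_add]
  have hu0 : v + w ≠ 0 := fun h => hw (by rw [← h2, h, map_zero]; rfl)
  have h3 : cyc T (v + w) = cyc T w := by
    rw [← h1 _ _ hu0 (mem_cyc.2 ⟨f, h2⟩) hw, h1 _ _ hw0 (mem_cyc.2 ⟨f, rfl⟩) hw]
  have h4 : v ∈ cyc T w := by
    have := sub_mem (h3 ▸ self_mem_cyc T (v + w)) (self_mem_cyc T w)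
    rwa [add_sub_cancel_right] at this
  obtain ⟨g, hg⟩ := mem_cyc.1 (h1 _ _ hw0 h4 hv ▸ self_mem_cyc T w : w ∈ cyc T v)
  apply hw
  rw [← hg, ← End.mul_apply, ← map_mul, mul_comm, map_mul, End.mul_apply, hf, map_zero]
  rfl

end

theorem exists_irreducible_not_injective {K V : Type*} [Field K] [AddCommGroup V] [Module K V]
    (T : End K V) {g : K[X]} (hg : g ≠ 0) (h : ¬ Function.Injective (aeval T g)) :
    ∃ f : K[X], Irreducible f ∧ f ∣ g ∧ ¬ Function.Injective (aeval T f) := by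
  induction g using UniqueFactorizationMonoid.induction_on_prime with
  | h₁ => exact absurd rfl hg
  | h₂ x hx => exact absurd ((End.isUnit_iff _).1 (hx.map (aeval T))).1 h
  | h₃ a p ha hp ih =>
    by_cases h1 : Function.Injective (aeval T p)
    · obtain ⟨f, h2, h3, h4⟩ := ih ha fun h2 => h (by rw [map_mul]; exact h1.comp h2)
      exact ⟨f, h2, h3.mul_left p, h4⟩
    · exact ⟨p, hp.irreducible, Dvd.intro _ rfl, h1⟩

section

variable {p q : ℕ} [hp : Fact p.Prime] [hq : Fact q.Prime] {V : Type*} [AddCommGroup V]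
  [Module (ZMod p) V]

theorem orderOf_unitOfCoprime (h : p.Coprime q) :
    orderOf (ZMod.unitOfCoprime p h) = orderOf (p : ZMod q) := by
  rw [← orderOf_units, ZMod.coe_unitOfCoprime]

theorem orderOf_eq_of_transitive [Finite V] [Nontrivial V] (hpq : p ≠ q) {T : End (ZMod p) V}
    (hT : T ^ q = 1) (hf : ∀ v, T v = v → v = 0)
    (h1 : ∀ v w : V, v ≠ 0 → w ≠ 0 → ∃ (φ : End (ZMod p) V) (j : ℕ), Function.Injective φ ∧
      φ v = w ∧ φ * T = T ^ j * φ)
    (h2 : ∀ k, 0 < k → k < q → ∃ ψ : End (ZMod p) V, Function.Surjective ψ ∧ ψ * T = T ^ k * ψ) :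
    orderOf (p : ZMod q) = q - 1 := by
  classical
  have hc : p.Coprime q := (Nat.coprime_primes hp.out hq.out).2 hpq
  obtain ⟨f, hf1, hf2, hf3⟩ := exists_irreducible_not_injective T (cyclotomic_ne_zero q (ZMod p))
    (by rw [aeval_cyclotomic_eq_zero hT hf]
        exact fun h => not_subsingleton V ⟨fun a b => h rfl⟩)
  rw [injective_iff_map_eq_zero] at hf3
  push Not at hf3
  obtain ⟨v, hv1, hv⟩ := hf3
  have h3 := aeval_eq_zero_of_transitive h1 hv hv1
  have h4 := natDegree_of_dvd_cyclotomic_of_irreducible (p := p) (f := 1) (by simp) hc hf2 hf1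
  have h5 : f.natDegree = orderOf (p : ZMod q) := by
    rw [h4, ← orderOf_units, ZMod.coe_unitOfCoprime, pow_one]
  refine le_antisymm ?_ ?_
  · rw [← orderOf_unitOfCoprime hc, ← ZMod.card_units q]
    exact orderOf_le_card_univ
  haveI := Fact.mk hf1
  set ζ := AdjoinRoot.root f
  haveI : CharP (AdjoinRoot f) p := charP_of_injective_algebraMap
    (algebraMap (ZMod p) (AdjoinRoot f)).injective p
  haveI : NeZero (q : AdjoinRoot f) := ⟨fun h => hpq ((Nat.prime_dvd_prime_iff_eq hp.out hq.out).1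
    ((CharP.cast_eq_zero_iff _ p q).1 h))⟩
  have h6 : IsPrimitiveRoot ζ q := by
    rw [← isRoot_cyclotomic_iff, ← map_cyclotomic q (algebraMap (ZMod p) _), IsRoot.def,
      eval_map_algebraMap, AdjoinRoot.aeval_eq, AdjoinRoot.mk_eq_zero]
    exact hf2
  have h7 : ∀ k, 0 < k → k < q → aeval (ζ ^ k) f = 0 := by
    intro k hk hkq
    obtain ⟨ψ, hψ, h8⟩ := h2 k hk hkq
    have h9 : aeval T (f.comp (X ^ k)) = 0 := by
      rw [aeval_comp, map_pow, aeval_X]
      ext w
      obtain ⟨w, rfl⟩ := hψ w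
      have := LinearMap.congr_fun (map_aeval_of_comm h8 f) w
      rw [h3, mul_zero] at this
      exact this.symm
    have h10 : f ∣ f.comp (X ^ k) := by
      by_contra h
      obtain ⟨a, b, hab⟩ := (hf1.coprime_iff_not_dvd).2 h
      have := congrArg (aeval T) hab
      rw [map_add, map_mul, map_mul, h3, h9, mul_zero, mul_zero, add_zero, map_one] at this
      exact zero_ne_one this
    rw [← aeval_X (R := ZMod p) ζ, ← map_pow, ← aeval_comp, AdjoinRoot.aeval_eq,
      AdjoinRoot.mk_eq_zero]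
    exact h10
  rw [← h5, ← natDegree_map (algebraMap (ZMod p) (AdjoinRoot f))]
  refine le_trans (le_of_eq ?_) (card_le_degree_of_subset_roots
    (Z := (Finset.Ioo 0 q).image fun k => ζ ^ k) fun z hz => ?_)
  · rw [Finset.card_image_of_injOn, Nat.card_Ioo, Nat.sub_zero]
    exact fun i hi j hj hij => h6.pow_inj (Finset.mem_Ioo.1 hi).2 (Finset.mem_Ioo.1 hj).2 hij
  · obtain ⟨k, hk, rfl⟩ := Finset.mem_image.1 (Finset.mem_def.2 hz)
    rw [mem_roots (Polynomial.map_ne_zero hf1.ne_zero), IsRoot.def, eval_map_algebraMap]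
    exact h7 k (Finset.mem_Ioo.1 hk).1 (Finset.mem_Ioo.1 hk).2

theorem exists_equiv_of_orderOf_eq (hpq : p ≠ q) {T : End (ZMod p) V}
    (hT : T ^ q = 1) (hf : ∀ v, T v = v → v = 0) (ho : orderOf (p : ZMod q) = q - 1) :
    (∀ v w : V, v ≠ 0 → w ≠ 0 → ∃ φ : V ≃+ V, φ v = w ∧ ∀ u, φ (T u) = T (φ u)) ∧
    ∃ ψ : V ≃+ V, ∀ u, ψ (T u) = (T ^ p) (ψ u) := by
  have hc : p.Coprime q := (Nat.coprime_primes hp.out hq.out).2 hpq
  have h1 : Irreducible (cyclotomic q (ZMod p)) :=
    ZMod.irreducible_of_dvd_cyclotomic_of_natDegree (hp.out.coprime_iff_not_dvd.1 hc) dvd_rfl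
      (by rw [orderOf_unitOfCoprime, ho, natDegree_cyclotomic, Nat.totient_prime hq.out])
  haveI := Fact.mk h1
  let ρ : AdjoinRoot (cyclotomic q (ZMod p)) →+* End (ZMod p) V :=
    Ideal.Quotient.lift _ (aeval T).toRingHom fun a ha => by
      obtain ⟨b, rfl⟩ := Ideal.mem_span_singleton.1 ha
      simp [aeval_cyclotomic_eq_zero hT hf]
  letI : Module (AdjoinRoot (cyclotomic q (ZMod p))) V := Module.compHom V ρ
  set ζ := AdjoinRoot.root (cyclotomic q (ZMod p))
  have hζ : ∀ u : V, ζ • u = T u := fun u => by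
    change aeval T (X : (ZMod p)[X]) u = _
    rw [aeval_X]
  have hζ' : ∀ u : V, ζ ^ p • u = (T ^ p) u := fun u => by
    change ρ (ζ ^ p) u = _
    rw [map_pow]
    change (aeval T (X : (ZMod p)[X]) ^ p) u = _
    rw [aeval_X]
  constructor
  · intro v w hv hw
    obtain ⟨e, he⟩ := exists_linearEquiv_apply_eq (K := AdjoinRoot (cyclotomic q (ZMod p))) hv hw
    exact ⟨e.toAddEquiv, he, fun u => by
      rw [← hζ, ← hζ]; exact e.map_smul ζ u⟩
  · haveI : CharP (AdjoinRoot (cyclotomic q (ZMod p))) p := charP_of_injective_algebraMap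
      (algebraMap (ZMod p) _).injective p
    haveI := (cyclotomic.monic q (ZMod p)).finite_adjoinRoot
    haveI : Finite (AdjoinRoot (cyclotomic q (ZMod p))) := Module.finite_of_finite (ZMod p)
    let b := Free.chooseBasis (AdjoinRoot (cyclotomic q (ZMod p))) V
    let σ := frobeniusEquiv (AdjoinRoot (cyclotomic q (ZMod p))) p
    refine ⟨b.repr.toAddEquiv.trans ((Finsupp.mapRange.addEquiv σ.toAddEquiv).trans
      b.repr.toAddEquiv.symm), fun u => ?_⟩
    rw [← hζ, ← hζ']
    apply b.repr.injective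
    ext i
    simp [σ, frobenius_def, mul_pow]

end

end Cfsg.Agent.H5
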