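import Cfsg.Agent.L.MinNormal
import Cfsg.Agent.H7.AutPGroup

/-! Dixon's bound: a solvable permutation group of degree `t` has order at most
`24 ^ ((t - 1) / 3)`. -/

set_option autoImplicit false

namespace Cfsg.Agent.H5

open Subgroup Cfsg

universe u

/-- If `K ≤ core M` and `B ∩ M ⊴ M` then `K / (K ∩ core B)` embeds in a product of `|H : M|`
copies of `M / (B ∩ M)`. -/
theorem relIndex_core {H : Type*} [Group H] [Finite H] {K M B : Subgroup H}
    (hK : K ≤ M.normalCore) (hB : (B.subgroupOf M).Normal) :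
    B.normalCore.relIndex K ∣ (B.relIndex M) ^ M.index := by
  classical
  have hmem : ∀ (g : H) (k : K), g⁻¹ * k * g ∈ M := fun g k => by
    simpa using hK k.2 g⁻¹
  let f : K →* ((H ⧸ M) → (M ⧸ B.subgroupOf M)) :=
    { toFun := fun k c => ((⟨c.out⁻¹ * k * c.out, hmem _ k⟩ : M) : M ⧸ B.subgroupOf M)
      map_one' := by
        funext c
        have : (⟨c.out⁻¹ * ((1 : K) : H) * c.out, hmem _ 1⟩ : M) = 1 := Subtype.ext (by simp)
        rw [this]; rfl
      map_mul' := fun a b => by
        funext c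
        rw [Pi.mul_apply, ← QuotientGroup.mk_mul]
        congr 1
        exact Subtype.ext (by simp [mul_assoc]) }
  have hker : f.ker = B.normalCore.subgroupOf K := by
    ext k
    rw [MonoidHom.mem_ker, mem_subgroupOf]
    constructor
    · intro h g
      have h1 := congrFun h ((g⁻¹ : H) : H ⧸ M)
      have h2 : (⟨_, hmem ((g⁻¹ : H) : H ⧸ M).out k⟩ : M) ∈ B.subgroupOf M :=
        (QuotientGroup.eq_one_iff _).1 h1
      obtain ⟨m, hm⟩ := QuotientGroup.mk_out_eq_mul M (g⁻¹ : H)
      have h3 := hB.conj_mem _ h2 m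
      rw [mem_subgroupOf] at h3
      simp only [hm, coe_mul, InvMemClass.coe_inv] at h3
      simpa [mul_assoc] using h3
    · intro h
      funext c
      refine (QuotientGroup.eq_one_iff _).2 ?_
      rw [mem_subgroupOf]
      simpa using h c.out⁻¹
  have h1 : f.ker.index ∣ Nat.card ((H ⧸ M) → (M ⧸ B.subgroupOf M)) := by
    rw [index_ker]; exact card_subgroup_dvd_card _
  rw [hker, Nat.card_fun] at h1
  exact h1

theorem dixon_big (d a : ℕ) (hd : 32 ≤ d) (ha : 2 ^ a ≤ d) : (d * d ^ a) ^ 3 * 24 ≤ 24 ^ d := by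
  obtain ⟨L, hL⟩ : ∃ L, L = Nat.log 2 d := ⟨_, rfl⟩
  have h1 : d < 2 ^ (L + 1) := hL ▸ Nat.lt_pow_succ_log_self (by norm_num) d
  have h2 : 2 ^ L ≤ d := hL ▸ Nat.pow_log_le_self 2 (by omega)
  have haL : a ≤ L := by
    have : 2 ^ a < 2 ^ (L + 1) := ha.trans_lt h1
    have := (Nat.pow_lt_pow_iff_right (by norm_num : 1 < 2)).1 this
    omega
  have hL5 : 5 ≤ L := by
    have : 2 ^ 5 < 2 ^ (L + 1) := lt_of_le_of_lt (by omega) h1
    have := (Nat.pow_lt_pow_iff_right (by norm_num : 1 < 2)).1 this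
    omega
  have key : ∀ n, 5 ≤ n → 3 * (n + 1) ^ 2 + 4 ≤ 4 * 2 ^ n := by
    intro n hn
    induction n, hn using Nat.le_induction with
    | base => norm_num
    | succ n hn ih => rw [pow_succ 2 n]; nlinarith
  have h3 : (d * d ^ a) ^ 3 ≤ 2 ^ (3 * (L + 1) ^ 2) := by
    calc (d * d ^ a) ^ 3 = d ^ ((a + 1) * 3) := by ring
      _ ≤ (2 ^ (L + 1)) ^ ((a + 1) * 3) := Nat.pow_le_pow_left h1.le _
      _ ≤ (2 ^ (L + 1)) ^ ((L + 1) * 3) := Nat.pow_le_pow_right (by positivity) (by omega)
      _ = _ := by rw [← pow_mul]; congr 1; ring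
  obtain ⟨e, rfl⟩ : ∃ e, d = e + 1 := ⟨d - 1, by omega⟩
  rw [pow_succ 24 e]
  refine Nat.mul_le_mul_right _ (h3.trans ?_)
  calc 2 ^ (3 * (L + 1) ^ 2) ≤ 2 ^ (4 * e) :=
        Nat.pow_le_pow_right (by norm_num) (by have := key L hL5; omega)
    _ = 16 ^ e := by rw [pow_mul]; norm_num
    _ ≤ 24 ^ e := Nat.pow_le_pow_left (by norm_num) _

theorem dixon_num (q a : ℕ) (hq : 2 ≤ q) (h5 : 5 ≤ q ^ a) :
    (q ^ a * ∏ i ∈ Finset.range a, (q ^ a - q ^ i)) ^ 3 * 24 ≤ 24 ^ (q ^ a) := by
  have h2 : 2 ^ a ≤ q ^ a := Nat.pow_le_pow_left hq _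
  by_cases hd : 32 ≤ q ^ a
  · refine le_trans ?_ (dixon_big _ a hd h2)
    gcongr
    calc ∏ i ∈ Finset.range a, (q ^ a - q ^ i) ≤ ∏ _i ∈ Finset.range a, q ^ a :=
          Finset.prod_le_prod' fun i _ => Nat.sub_le _ _
      _ = _ := by simp
  · have ha : a < 5 := by
      have : 2 ^ a < 2 ^ 5 := by omega
      exact (Nat.pow_lt_pow_iff_right (by norm_num : 1 < 2)).1 this
    have ha0 : a ≠ 0 := by rintro rfl; simp at h5
    have hq32 : q < 32 := lt_of_le_of_lt (Nat.le_self_pow ha0 q) (by omega)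
    interval_cases a <;> interval_cases q <;>
      first | (exfalso; omega) | (simp [Finset.prod_range_succ])

/-- A core-free maximal subgroup of a solvable group has an elementary abelian normal
complement on which it acts faithfully. -/
theorem card_le_of_core_free {G : Type*} [Group G] [Finite G] [Group.IsSolvable G]
    {M : Subgroup G} (hM : IsCoatom M) (hc : M.normalCore = ⊥) :
    ∃ q a : ℕ, q.Prime ∧ M.index = q ^ a ∧
      Nat.card G ≤ q ^ a * ∏ i ∈ Finset.range a, (q ^ a - q ^ i) := by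
  have hnt : Nontrivial G := by
    by_contra h
    have := not_nontrivial_iff_subsingleton.1 h
    exact hM.1 (Subsingleton.elim _ _)
  obtain ⟨V, q, hV, hq, hE⟩ := L.exists_isMinNormal_isElementaryAbelian (G := G)
  have hVn := hV.1
  have := Fact.mk hq
  have hcore : ∀ X : Subgroup G, X.Normal → X ≤ M → X = ⊥ := fun X hX h =>
    le_bot_iff.1 (hc ▸ normal_le_normalCore.2 h)
  have hsup : M ⊔ V = ⊤ := by
    refine hM.2 _ (left_lt_sup.2 fun h => hV.2.1 (hcore V hVn h))
  have hdec : ∀ g : G, ∃ m ∈ M, ∃ v ∈ V, m * v = g := fun g => by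
    have : g ∈ ((M ⊔ V : Subgroup G) : Set G) := by rw [hsup]; trivial
    rw [mul_normal] at this
    obtain ⟨m, hm, v, hv, h⟩ := this
    exact ⟨m, hm, v, hv, h⟩
  have hcomm : ∀ a ∈ V, ∀ b ∈ V, a * b = b * a := fun a ha b hb =>
    congrArg Subtype.val (hE.1.is_comm.comm (⟨a, ha⟩ : V) ⟨b, hb⟩)
  -- `C_M(V)` is normal, hence trivial
  have hC : M ⊓ centralizer (V : Set G) = ⊥ := by
    refine hcore _ ⟨fun x hx g => ?_⟩ inf_le_left
    obtain ⟨m, hm, v, hv, rfl⟩ := hdec g
    have h1 : v * x = x * v := hx.2 v hv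
    have h2 : m * v * x * (m * v)⁻¹ = m * x * m⁻¹ := by
      rw [mul_assoc m v x, h1]; group
    rw [h2]
    exact ⟨M.mul_mem (M.mul_mem hm hx.1) (M.inv_mem hm),
      (inferInstance : (centralizer (V : Set G)).Normal).conj_mem x hx.2 m⟩
  have hI : M ⊓ V = ⊥ := by
    refine le_bot_iff.1 (hC ▸ inf_le_inf_left _ fun x hx y hy => hcomm y hy x hx)
  have hcompl : IsComplement' M V := isComplement'_of_disjoint_and_mul_eq_univ
    (disjoint_iff.2 hI) (by rw [← mul_normal, hsup]; rfl)
  obtain ⟨a, ha⟩ := IsPGroup.iff_card.1 (L.IsElementaryAbelian.isPGroup hE)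
  have hA := H7.card_mulAut_of_elementary hE.1 (fun w => Subtype.ext (hE.2 w w.2)) ha
  refine ⟨q, a, hq, by rw [← ha]; exact hcompl.symm.index_eq_card, ?_⟩
  rw [← hA, ← ha, ← hcompl.card_mul, mul_comm]
  refine Nat.mul_le_mul_left _ ?_
  have : Finite (MulAut V) := Finite.of_injective _ (DFunLike.coe_injective (F := MulAut V))
  refine Nat.card_le_card_of_injective ((MulAut.conjNormal (H := V)).comp M.subtype) ?_
  rw [injective_iff_map_eq_one]
  intro x hx
  have : (x : G) ∈ M ⊓ centralizer (V : Set G) := ⟨x.2, fun y hy => by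
    have := congrArg Subtype.val (DFunLike.congr_fun hx ⟨y, hy⟩)
    simp only [MonoidHom.comp_apply, coe_subtype, MulAut.conjNormal_apply, MulAut.one_apply] at this
    calc y * x = (x * y * (x : G)⁻¹) * x := by rw [this]
      _ = x * y := by group⟩
  rw [hC, mem_bot] at this
  exact Subtype.ext this

/-- Dixon's bound for primitive actions. -/
theorem dixon_prim {H : Type*} [Group H] [Finite H] [Group.IsSolvable H] {M : Subgroup H}
    (hM : IsCoatom M) : M.normalCore.index ^ 3 * 24 ≤ 24 ^ M.index := by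
  by_cases h5 : 5 ≤ M.index
  · let π := QuotientGroup.mk' M.normalCore
    have hπ : Function.Surjective π := QuotientGroup.mk'_surjective _
    have hk : π.ker ≤ M := by rw [QuotientGroup.ker_mk']; exact normalCore_le M
    have hcm : (M.map π).comap π = M := by rw [comap_map_eq, sup_eq_left.2 hk]
    have h1 : IsCoatom (M.map π) := by
      refine ⟨fun h => hM.1 (by rw [← hcm, h, comap_top]), fun X hX => ?_⟩
      have h2 : M < X.comap π := by
        refine lt_of_le_of_ne (map_le_iff_le_comap.1 hX.le) fun h => hX.ne ?_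
        exact (congrArg (Subgroup.map π) h).trans (map_comap_eq_self_of_surjective hπ X)
      have := hM.2 _ h2
      rw [← map_comap_eq_self_of_surjective hπ X, this, map_top_of_surjective _ hπ]
    have h2 : (M.map π).normalCore = ⊥ := by
      have h3 : (M.map π).normalCore.comap π ≤ M.normalCore :=
        normal_le_normalCore.2 ((comap_mono (normalCore_le _)).trans hcm.le)
      rw [← map_comap_eq_self_of_surjective hπ (M.map π).normalCore, Subgroup.map_eq_bot_iff,
        QuotientGroup.ker_mk']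
      exact h3
    obtain ⟨q, a, hq, hi, hle⟩ := card_le_of_core_free h1 h2
    have hi' : M.index = q ^ a := by rw [← hi, ← index_comap_of_surjective _ hπ, hcm]
    rw [hi'] at h5 ⊢
    refine le_trans ?_ (dixon_num q a hq.two_le h5)
    gcongr
    exact hle
  · have h1 : M.normalCore.index ∣ M.index.factorial := by
      rw [normalCore_eq_ker, index_ker, Subgroup.index, ← Nat.card_perm]
      exact card_subgroup_dvd_card _
    have h2 := Nat.le_of_dvd (Nat.factorial_pos _) h1
    have h3 : M.index ≠ 0 := index_ne_zero_of_finite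
    have h4 : M.index < 5 := by omega
    refine le_trans (Nat.mul_le_mul_right _ (Nat.pow_le_pow_left h2 3)) ?_
    generalize M.index = d at *
    interval_cases d <;> simp_all [Nat.factorial]

theorem dixon_aux (n : ℕ) : ∀ (H : Type u) [Group H] [Finite H] [Group.IsSolvable H]
    (N : Subgroup H), N.index = n → N.normalCore.index ^ 3 * 24 ≤ 24 ^ N.index := by
  induction n using Nat.strong_induction_on with
  | _ n ih =>
  intro H _ _ _ N hn
  rcases eq_top_or_exists_le_coatom N with rfl | ⟨M, hM, hNM⟩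
  · have : (⊤ : Subgroup H).normalCore = ⊤ := normalCore_eq_self _
    simp [this]
  have hMi : 2 ≤ M.index := by
    have h1 : M.index ≠ 0 := index_ne_zero_of_finite
    have h2 : M.index ≠ 1 := fun h => hM.1 (index_eq_one.1 h)
    omega
  have hmul : N.relIndex M * M.index = N.index := relIndex_mul_index hNM
  have hb0 : N.relIndex M ≠ 0 := index_ne_zero_of_finite
  have h1 := ih (N.relIndex M) (by rw [← hn, ← hmul]; nlinarith [Nat.pos_of_ne_zero hb0]) M
    (N.subgroupOf M) rfl
  have h2 := dixon_prim hM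
  set B := (N.subgroupOf M).normalCore.map M.subtype with hBdef
  have hBM : B.subgroupOf M = (N.subgroupOf M).normalCore :=
    comap_map_eq_self_of_injective M.subtype_injective _
  have hBN : B ≤ N := by
    rw [hBdef, map_le_iff_le_comap]; exact normalCore_le _
  have h3 := relIndex_core (K := M.normalCore) (M := M) (B := B) le_rfl (hBM ▸ inferInstance)
  have h4 : B.relIndex M = (N.subgroupOf M).normalCore.index := by rw [relIndex, hBM]
  have h5 : B.normalCore.relIndex M.normalCore * M.normalCore.index = B.normalCore.index :=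
    relIndex_mul_index (normalCore_mono (hBN.trans hNM))
  have h6 : N.normalCore.index ≤ B.normalCore.index :=
    Nat.le_of_dvd (Nat.pos_of_ne_zero index_ne_zero_of_finite)
      (index_dvd_of_le (normalCore_mono hBN))
  rw [h4] at h3
  have h7 := Nat.le_of_dvd (pow_pos (Nat.pos_of_ne_zero index_ne_zero_of_finite) _) h3
  change _ ≤ 24 ^ N.relIndex M at h1
  generalize (N.subgroupOf M).normalCore.index = f at *
  generalize B.normalCore.relIndex M.normalCore = x at *
  generalize M.normalCore.index = y at *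
  generalize N.normalCore.index = z at *
  rw [← hmul]
  generalize N.relIndex M = b at *
  generalize M.index = d at *
  have h8 : z ≤ f ^ d * y := h6.trans (h5 ▸ Nat.mul_le_mul_right _ h7)
  have h9 : (f ^ 3 * 24) ^ d ≤ (24 ^ b) ^ d := Nat.pow_le_pow_left h1 d
  have h10 : z ^ 3 * 24 ≤ (f ^ 3) ^ d * (y ^ 3 * 24) := by
    calc z ^ 3 * 24 ≤ (f ^ d * y) ^ 3 * 24 := by gcongr
      _ = _ := by ring
  calc z ^ 3 * 24 ≤ (f ^ 3) ^ d * 24 ^ d := h10.trans (Nat.mul_le_mul_left _ h2)
    _ = (f ^ 3 * 24) ^ d := (mul_pow _ _ _).symm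
    _ ≤ _ := by rw [pow_mul]; exact h9

/-- **Dixon's bound**: `|H : core N| ^ 3 ≤ 24 ^ (|H : N| - 1)` for solvable `H`. -/
theorem dixon {H : Type*} [Group H] [Finite H] [Group.IsSolvable H] (N : Subgroup H) :
    N.normalCore.index ^ 3 * 24 ≤ 24 ^ N.index :=
  dixon_aux _ H N rfl

/-- The trivial bound `|H : core N| ∣ |H : N|!`. -/
theorem index_normalCore_dvd_factorial {H : Type*} [Group H] [Finite H] (N : Subgroup H) :
    N.normalCore.index ∣ N.index.factorial := by
  rw [normalCore_eq_ker, index_ker, Subgroup.index, ← Nat.card_perm]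
  exact card_subgroup_dvd_card _

end Cfsg.Agent.H5
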