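import Cfsg.Agent.FT.B.Act
import Cfsg.Agent.H1.Small
import Cfsg.Agent.H7.AutPGroup
import Cfsg.Agent.H6.HalfClass1
import Cfsg.Agent.H6.TwoPrimes

/-! Irreducible solvable groups of automorphisms of an elementary abelian group of order 16. -/

set_option autoImplicit false

namespace Cfsg.Agent.H5

open Subgroup Cfsg Cfsg.Agent Cfsg.Agent.FT
open scoped commutatorElement

section act

variable {G V : Type*} [Group G] [Group V]

/-- No proper nontrivial invariant subgroup. -/
def IrrAct (φ : G →* MulAut V) : Prop :=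
  ∀ U : Subgroup V, (∀ g, ∀ u ∈ U, φ g u ∈ U) → U = ⊥ ∨ U = ⊤

/-- The fixed points of a subgroup. -/
def fixS (φ : G →* MulAut V) (P : Subgroup G) : Subgroup V where
  carrier := {v | ∀ g ∈ P, φ g v = v}
  one_mem' := fun g _ => map_one _
  mul_mem' := fun {a b} ha hb g hg => by rw [map_mul, ha g hg, hb g hg]
  inv_mem' := fun {a} ha g hg => by rw [map_inv, ha g hg]

theorem mem_fixS {φ : G →* MulAut V} {P : Subgroup G} {v : V} :
    v ∈ fixS φ P ↔ ∀ g ∈ P, φ g v = v := Iff.rfl

theorem card_fixS_modEq [Finite V] (φ : G →* MulAut V) {P : Subgroup G} {p : ℕ} [Fact p.Prime]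
    (hP : IsPGroup p P) : Nat.card V ≡ Nat.card (fixS φ P) [MOD p] := by
  letI : MulAction P V := MulAction.compHom V (φ.comp P.subtype)
  have h := hP.card_modEq_card_fixedPoints V
  have : Nat.card (MulAction.fixedPoints P V) = Nat.card (fixS φ P) :=
    Nat.card_congr (Equiv.subtypeEquivRight fun v =>
      ⟨fun h g hg => h ⟨g, hg⟩, fun h g => h g g.2⟩)
  rwa [this] at h

theorem fixS_inv (φ : G →* MulAut V) {P : Subgroup G} {g : G}
    (hg : ∀ x ∈ P, g⁻¹ * x * g ∈ P) {u : V} (hu : u ∈ fixS φ P) : φ g u ∈ fixS φ P := by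
  intro x hx
  have := congrArg (φ g) (hu _ (hg x hx))
  rw [← MulAut.mul_apply, ← map_mul] at this
  rw [← MulAut.mul_apply, ← map_mul, ← this]
  congr 2; group

theorem eq_bot_of_fixS_eq_top {φ : G →* MulAut V} (hφ : Function.Injective φ) {P : Subgroup G}
    (h : fixS φ P = ⊤) : P = ⊥ := by
  rw [eq_bot_iff]
  intro x hx
  refine mem_bot.2 (hφ ?_)
  rw [map_one]
  ext v
  exact (h ▸ mem_top v : v ∈ fixS φ P) x hx

theorem IrrAct.fixS_eq_bot {φ : G →* MulAut V} (hφ : Function.Injective φ) (hi : IrrAct φ)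
    {P : Subgroup G} [hn : P.Normal] (hP : P ≠ ⊥) : fixS φ P = ⊥ :=
  (hi _ fun g _ hu => fixS_inv φ (fun x hx => by simpa using hn.conj_mem x hx g⁻¹) hu).resolve_right
    fun h => hP (eq_bot_of_fixS_eq_top hφ h)

/-- A group acting semiregularly on `V \ 1` has order less than `|V|`. -/
theorem card_lt_of_semireg [Finite V] [Nontrivial V] (φ : G →* MulAut V) (C : Subgroup G)
    (h : ∀ c ∈ C, ∀ v, v ≠ 1 → φ c v = v → c = 1) : Nat.card C < Nat.card V := by
  obtain ⟨v, hv⟩ := exists_ne (1 : V)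
  let f : C → V := fun c => φ c v
  have hf : Function.Injective f := fun a b hab => by
    have : (a : G)⁻¹ * b = 1 := h _ (C.mul_mem (C.inv_mem a.2) b.2) v hv (by
      have hab' : φ a v = φ b v := hab
      rw [map_mul, MulAut.mul_apply, ← hab', ← MulAut.mul_apply, ← map_mul]; simp)
    exact Subtype.ext (inv_mul_eq_one.1 this)
  have : Finite C := Finite.of_injective f hf
  have := Fintype.ofFinite C
  have := Fintype.ofFinite V
  rw [Nat.card_eq_fintype_card, Nat.card_eq_fintype_card]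
  refine Fintype.card_lt_of_injective_not_surjective f hf fun hs => ?_
  obtain ⟨c, hc⟩ := hs 1
  exact hv ((map_eq_one_iff _ (φ c).injective).1 hc)

theorem card_mulAut_dvd_48 {F : Type*} [Group F] [Finite F] (h : Nat.card F ∣ 9) :
    Nat.card (MulAut F) ∣ 48 := by
  by_cases hc : IsCyclic F
  · rw [IsCyclic.card_mulAut]
    have h1 := Nat.le_of_dvd (by norm_num) h
    generalize Nat.card F = n at *
    interval_cases n <;> first | (exfalso; omega) | decide
  · have : Fact (Nat.Prime 3) := ⟨Nat.prime_three⟩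
    have h9 : Nat.card F = 3 ^ 2 := by
      obtain ⟨k, hk, e⟩ := (Nat.dvd_prime_pow Nat.prime_three (m := 2)).1 h
      interval_cases k
      · have : Subsingleton F := (Nat.card_eq_one_iff_unique.1 e).1
        exact absurd isCyclic_of_subsingleton hc
      · exact absurd (isCyclic_of_prime_card (p := 3) (by simpa using e)) hc
      · exact e
    have h3 : ∀ x : F, x ^ 3 = 1 := fun x => by
      obtain ⟨k, hk, e⟩ := (Nat.dvd_prime_pow Nat.prime_three).1 (h9 ▸ orderOf_dvd_natCard x)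
      interval_cases k
      · rw [orderOf_eq_one_iff.1 e, one_pow]
      · rw [← pow_one 3, ← e, pow_orderOf_eq_one]
      · exact absurd (isCyclic_of_orderOf_eq_card x (e.trans h9.symm)) hc
    rw [H7.card_mulAut_of_elementary (IsPGroup.isMulCommutative_of_card_eq_prime_sq h9) h3 h9]
    decide

/-- Solvable irreducible subgroups of `GL₄(2)`. -/
theorem irr16_cases [Finite G] [Group.IsSolvable G] {φ : G →* MulAut V}
    (hφ : Function.Injective φ) (hi : IrrAct φ) (hc : IsMulCommutative V) (h2 : ∀ v : V, v ^ 2 = 1)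
    (h16 : Nat.card V = 16) : Nat.card G ∣ 144 ∨ ∃ P : Subgroup G, P.Normal ∧ Nat.card P = 5 ∧
      Nat.card (centralizer (P : Set G)) ≤ 15 ∧ (centralizer (P : Set G)).index ∣ 4 := by
  have : Finite V := Nat.finite_of_card_ne_zero (by omega)
  have : Nontrivial V := Finite.one_lt_card_iff_nontrivial.1 (by omega)
  have hA : Nat.card (MulAut V) = 20160 := by
    rw [H7.card_mulAut_of_elementary (p := 2) (r := 4) hc h2 h16]; decide
  have hG : Nat.card G ∣ 20160 := hA ▸ card_dvd_of_injective φ hφ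
  have key : ∀ r : ℕ, r.Prime → r ∣ Nat.card (fittingSubgroup G) → pCore r G ≠ ⊥ ∧ r ∣ 15 := by
    intro r hr hd
    have := Fact.mk hr
    obtain ⟨x, hx⟩ := exists_prime_orderOf_dvd_card' (G := fittingSubgroup G) r hd
    have h1 : (x : G) ∈ pCore r G := L.mem_pCore_of_mem_fittingSubgroup hr (k := 1)
      (by rw [pow_one, ← hx, ← Subgroup.coe_pow, pow_orderOf_eq_one]; rfl) x.2
    have h3 : pCore r G ≠ ⊥ := fun h => by
      rw [h, mem_bot] at h1
      rw [show x = 1 from Subtype.ext h1, orderOf_one] at hx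
      exact hr.ne_one hx.symm
    have h4 := card_fixS_modEq φ (L.isPGroup_pCore (G := G) r)
    rw [hi.fixS_eq_bot hφ h3, card_bot, h16] at h4
    exact ⟨h3, (Nat.modEq_iff_dvd' (by norm_num)).1 h4.symm⟩
  by_cases h5 : 5 ∣ Nat.card (fittingSubgroup G)
  · right
    have : Fact (Nat.Prime 5) := ⟨Nat.prime_five⟩
    have hP := L.isPGroup_pCore (G := G) 5
    have hne := (key 5 Nat.prime_five h5).1
    obtain ⟨k, hk⟩ := IsPGroup.iff_card.1 hP
    have hcard : Nat.card (pCore 5 G) = 5 := by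
      have h1 : 5 ^ k ∣ 20160 := hk ▸ (card_subgroup_dvd_card _).trans hG
      have h0 : k ≠ 0 := by rintro rfl; exact hne (card_eq_one.1 hk)
      have h3 : k < 2 := by
        by_contra h
        exact absurd ((pow_dvd_pow 5 (not_lt.1 h)).trans h1) (by norm_num)
      rw [hk, show k = 1 by omega]; rfl
    refine ⟨pCore 5 G, inferInstance, hcard, ?_, ?_⟩
    · refine Nat.lt_succ_iff.1 (lt_of_lt_of_eq (card_lt_of_semireg φ _ fun c hc v hv hcv => ?_) h16)
      -- `U = C_V(c)` is invariant under `P`, so `|U| ≡ 1 mod 5`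
      set U := fixS φ (zpowers c) with hU
      have hUP : ∀ g ∈ pCore 5 G, ∀ u ∈ U, φ g u ∈ U := fun g hg u hu =>
        fixS_inv φ (fun x hx => by
          have : g * x = x * g := (zpowers_le.2 hc hx) g hg
          rwa [mul_assoc, ← this, inv_mul_cancel_left]) hu
      let ψ : pCore 5 G →* MulAut U :=
        { toFun := fun g =>
            { toFun := fun u => ⟨φ g u, hUP g g.2 u u.2⟩
              invFun := fun u => ⟨φ (g : G)⁻¹ u, hUP _ (inv_mem g.2) u u.2⟩
              left_inv := fun u => Subtype.ext (by simp)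
              right_inv := fun u => Subtype.ext (by simp)
              map_mul' := fun a b => Subtype.ext (map_mul _ _ _) }
          map_one' := by ext u; simp
          map_mul' := fun a b => by ext u; simp }
      have h6 := card_fixS_modEq ψ (P := ⊤) (p := 5) (hP.to_subgroup ⊤)
      have h7 : fixS ψ ⊤ = ⊥ := by
        rw [eq_bot_iff]
        intro u hu
        have : (u : V) ∈ fixS φ (pCore 5 G) := fun g hg =>
          congrArg Subtype.val (hu ⟨g, hg⟩ (mem_top _))
        rw [hi.fixS_eq_bot hφ hne, mem_bot] at this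
        exact mem_bot.2 (Subtype.ext this)
      rw [h7, card_bot] at h6
      have h8 : Nat.card U ∣ 2 ^ 4 := by
        have := card_subgroup_dvd_card U
        rwa [h16] at this
      have hvU : v ∈ U := fun x hx => by
        obtain ⟨n, rfl⟩ := mem_zpowers_iff.1 hx
        rw [map_zpow]
        exact MulAction.mem_fixedBy_zpow (α := V) (a := v) (g := φ c) hcv n
      have h9 : Nat.card U ≠ 1 := fun h => hv (mem_bot.1 (card_eq_one.1 h ▸ hvU))
      have h10 : U = ⊤ := by
        rw [← card_eq_iff_eq_top, h16]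
        obtain ⟨j, hj, e⟩ := (Nat.dvd_prime_pow Nat.prime_two).1 h8
        rw [e] at h6 h9 ⊢
        clear_value U
        interval_cases j <;> first | rfl | exact absurd rfl h9 | exact absurd h6 (by decide)
      simpa using eq_bot_of_fixS_eq_top hφ h10
    · have h1 := H6.relIndex_centralizer_dvd_card_mulAut (A := ⊤) (P := pCore 5 G)
        le_normalizer_of_normal
      have : IsCyclic (pCore 5 G) := isCyclic_of_prime_card hcard
      rwa [relIndex_top_right, IsCyclic.card_mulAut, hcard] at h1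
  · left
    have h3 : Nat.card (fittingSubgroup G) ∣ 9 := by
      have h1 := Nat.eq_prime_pow_of_unique_prime_dvd (p := 3)
        (Nat.card_pos (α := fittingSubgroup G)).ne' fun {d} hd h => by
          rcases (Nat.Prime.dvd_mul hd (m := 3) (n := 5)).1 (key d hd h).2 with h' | h'
          · exact (Nat.prime_dvd_prime_iff_eq hd Nat.prime_three).1 h'
          · exact absurd (((Nat.prime_dvd_prime_iff_eq hd Nat.prime_five).1 h') ▸ h) h5
      generalize (Nat.card (fittingSubgroup G)).primeFactorsList.length = k at h1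
      have h4 : 3 ^ k ∣ 20160 := h1 ▸ (card_subgroup_dvd_card _).trans hG
      have h6 : k ≤ 2 := by
        by_contra h
        exact absurd ((pow_dvd_pow 3 (not_le.1 h)).trans h4) (by norm_num)
      rw [h1]; exact pow_dvd_pow 3 h6
    have h4 := (H6.relIndex_centralizer_dvd_card_mulAut (A := ⊤) (P := fittingSubgroup G)
      le_normalizer_of_normal).trans (card_mulAut_dvd_48 h3)
    rw [relIndex_top_right] at h4
    have h6 := (Subgroup.card_dvd_of_le (L.centralizer_fittingSubgroup_le (G := G))).trans h3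
    have h7 : Nat.card G ∣ 9 * 48 := by
      rw [← (centralizer (fittingSubgroup G : Set G)).card_mul_index]
      exact Nat.mul_dvd_mul h6 h4
    exact (Nat.dvd_gcd h7 hG).trans (by norm_num)

theorem irr16_le [Finite G] [Group.IsSolvable G] {φ : G →* MulAut V}
    (hφ : Function.Injective φ) (hi : IrrAct φ) (hc : IsMulCommutative V) (h2 : ∀ v : V, v ^ 2 = 1)
    (h16 : Nat.card V = 16) : Nat.card G ≤ 144 := by
  rcases irr16_cases hφ hi hc h2 h16 with h | ⟨P, -, -, h3, h4⟩
  · exact Nat.le_of_dvd (by norm_num) h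
  · rw [← (centralizer (P : Set G)).card_mul_index]
    have := Nat.mul_le_mul h3 (Nat.le_of_dvd (by norm_num) h4)
    omega

end act

variable {Γ : Type*} [Group Γ] {D Y S : Subgroup Γ}

/-- The action of `S` on the section `Y / D`. -/
def sectAct [(D.subgroupOf Y).Normal] (hY : S ≤ 𝐍(Y)) (hD : S ≤ 𝐍(D)) :
    S →* MulAut (Y ⧸ D.subgroupOf Y) :=
  H1.quotAct (H1.conjAut hY) _ fun a _ hx => H1.conj_mem_of_le_normalizer hD a.2 hx

theorem sectAct_mk [(D.subgroupOf Y).Normal] (hY : S ≤ 𝐍(Y)) (hD : S ≤ 𝐍(D)) (s : S) (y : Y) :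
    sectAct hY hD s (y : Y ⧸ D.subgroupOf Y) = (H1.conjAut hY s y : Y) := rfl

theorem ker_sectAct [(D.subgroupOf Y).Normal] (hY : S ≤ 𝐍(Y)) (hD : S ≤ 𝐍(D)) :
    (sectAct hY hD).ker = (centMod Y D).subgroupOf S := by
  ext s
  rw [MonoidHom.mem_ker, mem_subgroupOf, mem_centMod]
  refine (H1.quotAct_eq_one_iff _ _ _ _).trans ?_
  constructor
  · intro h
    refine ⟨hD s.2, fun u hu => ?_⟩
    have h1 : (s : Γ) * u * (s : Γ)⁻¹ * u⁻¹ ∈ D := h ⟨u, hu⟩
    have := D.inv_mem h1
    simpa [commutatorElement_def, mul_assoc] using this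
  · intro h u
    have := D.inv_mem (h.2 u u.2)
    show (s : Γ) * u * (s : Γ)⁻¹ * (u : Γ)⁻¹ ∈ D
    simpa [commutatorElement_def, mul_assoc] using this

theorem relIndex_centMod [(D.subgroupOf Y).Normal] (hY : S ≤ 𝐍(Y)) (hD : S ≤ 𝐍(D)) :
    (centMod Y D).relIndex S = Nat.card (sectAct hY hD).range := by
  rw [relIndex, ← ker_sectAct hY hD, index_ker]

theorem irrAct_sectAct [(D.subgroupOf Y).Normal] (DY : D ≤ Y) (hY : S ≤ 𝐍(Y)) (hD : S ≤ 𝐍(D))
    (irr : ∀ U : Subgroup Γ, D ≤ U → U ≤ Y → S ≤ 𝐍(U) → U = D ∨ U = Y) [Finite Γ] :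
    IrrAct (sectAct hY hD).range.subtype := by
  intro U hU
  let π := QuotientGroup.mk' (D.subgroupOf Y)
  have hπ : Function.Surjective π := QuotientGroup.mk'_surjective _
  have h1 : D ≤ (U.comap π).map Y.subtype := fun d hd =>
    ⟨⟨d, DY hd⟩, by
      show π _ ∈ U
      rw [(QuotientGroup.eq_one_iff (N := D.subgroupOf Y) (⟨d, DY hd⟩ : Y)).2 hd |>
        (fun h => (show π ⟨d, DY hd⟩ = 1 from h))]
      exact U.one_mem, rfl⟩
  have h2 : S ≤ 𝐍((U.comap π).map Y.subtype) := fun s hs => by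
    refine mem_normalizer_fintype ?_
    rintro _ ⟨y, hy, rfl⟩
    exact ⟨H1.conjAut hY ⟨s, hs⟩ y, hU ⟨_, ⟨s, hs⟩, rfl⟩ _ hy, rfl⟩
  rcases irr _ h1 (map_subtype_le _) h2 with h | h
  · left
    rw [eq_bot_iff]
    intro u hu
    obtain ⟨y, rfl⟩ := hπ u
    exact mem_bot.2 ((QuotientGroup.eq_one_iff y).2
      (show (y : Γ) ∈ D from h ▸ ⟨y, hu, rfl⟩))
  · right
    rw [eq_top_iff]
    intro u _
    obtain ⟨y, rfl⟩ := hπ u
    obtain ⟨y', hy', e⟩ := (h.ge y.2 : (y : Γ) ∈ (U.comap π).map Y.subtype)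
    rwa [show y' = y from Subtype.ext e] at hy'

theorem normal_subgroupOf_of_comm_le (hc : ⁅Y, Y⁆ ≤ D) : (D.subgroupOf Y).Normal :=
  Normal.of_commutator_le _ (by
    rw [subgroupOf, ← map_le_iff_le_comap, map_subtype_commutator]; exact hc)

theorem isMulCommutative_sect [(D.subgroupOf Y).Normal] (hc : ⁅Y, Y⁆ ≤ D) :
    IsMulCommutative (Y ⧸ D.subgroupOf Y) :=
  Normal.quotient_commutative_iff_commutator_le.2 (by
    rw [subgroupOf, ← map_le_iff_le_comap, map_subtype_commutator]; exact hc)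

theorem pow_sect [(D.subgroupOf Y).Normal] {n : ℕ} (h : ∀ y ∈ Y, y ^ n ∈ D)
    (v : Y ⧸ D.subgroupOf Y) : v ^ n = 1 := by
  obtain ⟨y, rfl⟩ := QuotientGroup.mk_surjective v
  rw [← QuotientGroup.mk_pow, QuotientGroup.eq_one_iff]
  exact h y y.2

theorem irr4 [Finite Γ] [Group.IsSolvable Γ] (DY : D ≤ Y) (hY : S ≤ 𝐍(Y)) (hD : S ≤ 𝐍(D))
    (hc : ⁅Y, Y⁆ ≤ D) (h2 : ∀ y ∈ Y, y ^ 2 ∈ D) (h16 : D.relIndex Y = 16)
    (irr : ∀ U : Subgroup Γ, D ≤ U → U ≤ Y → S ≤ 𝐍(U) → U = D ∨ U = Y) :
    (centMod Y D).relIndex S ≤ 144 := by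
  have := normal_subgroupOf_of_comm_le hc
  have : Group.IsSolvable (sectAct hY hD).range :=
    Group.isSolvable_of_surjective (sectAct hY hD).rangeRestrict_surjective
  have : Finite (sectAct hY hD).range :=
    Finite.of_surjective _ (sectAct hY hD).rangeRestrict_surjective
  rw [relIndex_centMod hY hD]
  exact irr16_le (subtype_injective _) (irrAct_sectAct DY hY hD irr) (isMulCommutative_sect hc)
    (pow_sect h2) h16

theorem two6 [Finite Γ] [Group.IsSolvable Γ] (DY : D ≤ Y) (hY : S ≤ 𝐍(Y)) (hD : S ≤ 𝐍(D))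
    (hn : Y ≤ 𝐍(D)) (h4 : D.relIndex Y = 4) : (centMod Y D).relIndex S ∣ 6 := by
  have : (D.subgroupOf Y).Normal := (normal_subgroupOf_iff_le_normalizer DY).2 hn
  rw [relIndex_centMod hY hD]
  exact (card_subgroup_dvd_card _).trans (H6.Half.card_mulAut_dvd_six h4)

end Cfsg.Agent.H5
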