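import Cfsg.Agent.H1.RepBasic
import Cfsg.Agent.L.MinNormal

/-!
Tools for lower bounds of class numbers: weight vectors, induced linear characters, and the size of
a faithful module of a solvable group with a maximal abelian normal subgroup acting freely.
-/

set_option autoImplicit false

namespace Cfsg.Agent.H5.KN

open Module Subgroup
open scoped commutatorElement TensorProduct

/-- Weight vectors for distinct weights that sum to zero all vanish. -/
theorem eq_zero_of_weights {D F W ι : Type*} [Monoid D] [Field F] [AddCommGroup W] [Module F W]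
    [Fintype ι] (τ : D → W →ₗ[F] W) (χ : ι → D →* F) (hχ : Function.Injective χ) (y : ι → W)
    (hy : ∀ i d, τ d (y i) = χ i d • y i) (h0 : ∑ i, y i = 0) (i : ι) : y i = 0 := by
  rw [← Module.forall_dual_apply_eq_zero_iff F]
  intro φ
  have hli := (linearIndependent_monoidHom D F).comp χ hχ
  refine Fintype.linearIndependent_iff.1 hli (fun j => φ (y j)) ?_ i
  funext d
  have h1 := congrArg (fun w => φ (τ d w)) h0
  simp only [map_sum, map_zero, hy, map_smul, smul_eq_mul] at h1
  simp only [Finset.sum_apply, Pi.smul_apply, Function.comp, smul_eq_mul, Pi.zero_apply]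
  rw [← h1]
  exact Finset.sum_congr rfl fun j _ => mul_comm _ _

/-- Linear characters of a subgroup which are nowhere fused give distinct classes. -/
theorem card_le_classNum {H ι : Type*} [Group H] [Finite H] [Finite ι] (B : Subgroup H)
    (χ : ι → B →* ℂˣ)
    (hχ : ∀ i j, i ≠ j → ∀ h : H, ∃ x, ∃ hx : x ∈ B, ∃ hx' : h * x * h⁻¹ ∈ B,
      χ i ⟨h * x * h⁻¹, hx'⟩ ≠ χ j ⟨x, hx⟩) :
    Nat.card ι ≤ Nat.card (ConjClasses H) := by
  classical
  let _ := Fintype.ofFinite H
  let _ := Fintype.ofFinite ι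
  let _ := Fintype.ofFinite (ConjClasses H)
  let ext : ι → H → ℂ := fun i x => if hx : x ∈ B then (χ i ⟨x, hx⟩ : ℂ) else 0
  let f0 : ι → H → ℂ := fun i g => ∑ h : H, ext i (h * g * h⁻¹)
  have hf0 : ∀ i a b, IsConj a b → f0 i a = f0 i b := by
    intro i a b hab
    obtain ⟨c, rfl⟩ := isConj_iff.1 hab
    refine (Fintype.sum_equiv (Equiv.mulRight c) _ _ fun h => ?_).symm
    simp only [Equiv.coe_mulRight]
    congr 1
    group
  let f : ι → ConjClasses H → ℂ := fun i => Quotient.lift (f0 i) (hf0 i)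
  -- the pairing
  let S : H → Subgroup B := fun h => (B.comap (MulAut.conj h).toMonoidHom).subgroupOf B
  have hS : ∀ h (b : B), b ∈ S h ↔ h * b * h⁻¹ ∈ B := fun h b => Iff.rfl
  let θ : ι → ι → ∀ h : H, S h →* ℂ := fun i j h =>
    { toFun := fun b => (χ i ⟨h * (b : B) * h⁻¹, (hS h b).1 b.2⟩ : ℂ) * ((χ j b)⁻¹ : ℂˣ)
      map_one' := by
        have : (⟨h * ((1 : S h) : B) * h⁻¹, (hS h _).1 (1 : S h).2⟩ : B) = 1 := Subtype.ext (by simp)
        rw [this]; simp
      map_mul' := fun a b => by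
        have : (⟨h * ((a * b : S h) : B) * h⁻¹, (hS h _).1 (a * b).2⟩ : B) =
            ⟨h * (a : B) * h⁻¹, (hS h _).1 a.2⟩ * ⟨h * (b : B) * h⁻¹, (hS h _).1 b.2⟩ :=
          Subtype.ext (by simp [mul_assoc])
        rw [this]
        simp only [map_mul, Units.val_mul, Subgroup.coe_mul, mul_inv]
        ring }
  have hpair : ∀ i j, ∑ b : B, f0 i b * ((χ j b)⁻¹ : ℂˣ) = ∑ h : H, ∑ b : S h, θ i j h b := by
    intro i j
    simp only [f0, Finset.sum_mul]
    rw [Finset.sum_comm]
    refine Finset.sum_congr rfl fun h _ => ?_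
    rw [← Finset.sum_filter_of_ne (p := fun b : B => b ∈ S h)]
    · rw [Finset.sum_subtype (p := fun b : B => b ∈ S h) _ (by simp)]
      refine Finset.sum_congr rfl fun b _ => ?_
      simp only [ext, dif_pos ((hS h b).1 b.2)]
      rfl
    · intro b _ hb
      by_contra hn
      rw [hS] at hn
      simp [ext, dif_neg hn] at hb
  have hoff : ∀ i j, i ≠ j → ∑ b : B, f0 i b * ((χ j b)⁻¹ : ℂˣ) = 0 := by
    intro i j hij
    rw [hpair]
    refine Finset.sum_eq_zero fun h _ => sum_hom_units_eq_zero _ fun h1 => ?_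
    obtain ⟨x, hx, hx', hne⟩ := hχ i j hij h
    have h2 := DFunLike.congr_fun h1 ⟨⟨x, hx⟩, hx'⟩
    apply hne
    change (χ i ⟨h * x * h⁻¹, hx'⟩ : ℂ) * ((χ j ⟨x, hx⟩)⁻¹ : ℂˣ) = 1 at h2
    rw [← Units.val_mul, Units.val_eq_one, mul_inv_eq_one] at h2
    exact h2
  have hdiag : ∀ i, ∑ b : B, f0 i b * ((χ i b)⁻¹ : ℂˣ) ≠ 0 := by
    intro i
    rw [hpair]
    have h1 : ∀ h : H, ∑ b : S h, θ i i h b =
        ((if θ i i h = 1 then Fintype.card (S h) else 0 : ℕ) : ℂ) := fun h => by
      rw [sum_hom_units]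
    simp only [h1]
    rw [← Nat.cast_sum, Nat.cast_ne_zero, ← Nat.pos_iff_ne_zero]
    refine Finset.sum_pos' (fun _ _ => Nat.zero_le _) ⟨1, Finset.mem_univ _, ?_⟩
    rw [if_pos]
    · exact Fintype.card_pos
    · ext b
      have : (⟨1 * ((b : B) : H) * 1⁻¹, (hS 1 b).1 b.2⟩ : B) = b := Subtype.ext (by simp)
      change (χ i ⟨1 * ((b : B) : H) * 1⁻¹, (hS 1 b).1 b.2⟩ : ℂ) * ((χ i b)⁻¹ : ℂˣ) = 1
      rw [this, ← Units.val_mul, mul_inv_cancel, Units.val_one]
  have hli : LinearIndependent ℂ f := by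
    rw [Fintype.linearIndependent_iff]
    intro a ha j
    have h1 : ∀ b : B, ∑ i, a i * f0 i b = 0 := fun b => by
      have := congrFun ha (ConjClasses.mk (b : H))
      simp only [Finset.sum_apply, Pi.smul_apply, smul_eq_mul, Pi.zero_apply] at this
      exact this
    have h2 : ∑ i, a i * ∑ b : B, f0 i b * ((χ j b)⁻¹ : ℂˣ) = 0 := by
      simp only [Finset.mul_sum, ← mul_assoc]
      rw [Finset.sum_comm]
      refine Finset.sum_eq_zero fun b _ => ?_
      rw [← Finset.sum_mul, h1, zero_mul]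
    rw [Finset.sum_eq_single j (fun i _ hi => by rw [hoff i j hi, mul_zero]) (by simp)] at h2
    exact (mul_eq_zero.1 h2).resolve_right (hdiag j)
  have := hli.fintype_card_le_finrank
  rwa [Module.finrank_fintype_fun_eq_card, ← Nat.card_eq_fintype_card,
    ← Nat.card_eq_fintype_card] at this

/-- A term of the derived series just before it drops into `D`. -/
theorem exists_comm_le {Γ : Type*} [Group Γ] [Group.IsSolvable Γ] {R D : Subgroup Γ} [R.Normal]
    (h : ¬ R ≤ D) : ∃ R₀ : Subgroup Γ, R₀.Normal ∧ R₀ ≤ R ∧ ¬ R₀ ≤ D ∧ ⁅R₀, R₀⁆ ≤ D := by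
  classical
  let s : ℕ → Subgroup Γ := fun n => Nat.rec R (fun _ K => ⁅K, K⁆) n
  have hs : ∀ n, (s n).Normal ∧ s n ≤ R ∧ s n ≤ derivedSeries Γ n := by
    intro n
    induction n with
    | zero => exact ⟨‹R.Normal›, le_rfl, le_top⟩
    | succ n ih =>
      haveI := ih.1
      exact ⟨Subgroup.commutator_normal _ _, (commutator_le_left _ _).trans ih.2.1,
        commutator_mono ih.2.2 ih.2.2⟩
  obtain ⟨n, hn⟩ := Group.IsSolvable.solvable (G := Γ)
  have hex : ∃ n, s n ≤ D := ⟨n, (hs n).2.2.trans (hn ▸ bot_le)⟩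
  have h0 : Nat.find hex ≠ 0 := fun h0 => h (by have := Nat.find_spec hex; rwa [h0] at this)
  obtain ⟨m, hm⟩ := Nat.exists_eq_succ_of_ne_zero h0
  have h1 := Nat.find_spec hex
  rw [hm] at h1
  exact ⟨s m, (hs m).1, (hs m).2.1, Nat.find_min hex (by omega), h1⟩

theorem card_le_of_cover {A β γ : Type*} [Finite β] [Finite γ] (s : Set A) (g : β → γ → A)
    (h : ∀ a ∈ s, ∃ b c, g b c = a) : Nat.card s ≤ Nat.card β * Nat.card γ := by
  choose b c hbc using h
  rw [← Nat.card_prod]
  refine Nat.card_le_card_of_injective (fun a : s => (b a a.2, c a a.2)) fun a a' haa => ?_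
  simp only [Prod.mk.injEq] at haa
  exact Subtype.ext (by rw [← hbc a a.2, ← hbc a' a'.2, haa.1, haa.2])

/-- Dimension bounds from a weight space of the normal abelian subgroup `D`. -/
theorem dim_bounds {Γ F W : Type*} [Group Γ] [Finite Γ] [Field F] [IsAlgClosed F] [AddCommGroup W]
    [Module F W] [FiniteDimensional F W] [Nontrivial W] (σ : Γ →* End F W) (D X : Subgroup Γ)
    [hDn : D.Normal] (hD : D ≤ centralizer (D : Set Γ))
    (fpf : ∀ d ∈ D, ∀ w, w ≠ 0 → σ d w = w → d = 1) (hXE : X ≤ centralizer (D : Set Γ))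
    (hXX : ⁅X, X⁆ ≤ D) (hZ : ∀ x ∈ X, x ∈ centralizer (X : Set Γ) → x ∈ D) :
    IsCyclic D ∧ ∃ e, 1 ≤ e ∧ D.relIndex X ≤ e ^ 2 ∧
      (centralizer (D : Set Γ)).index * e ≤ finrank F W := by
  classical
  have hmul : ∀ a b w, σ (a * b) w = σ a (σ b w) := fun a b w => by rw [map_mul]; rfl
  obtain ⟨μ0, w0, -, hw0, hμ0⟩ := H1.exists_weight_vector (fun d : D => σ d) (W := ⊤) top_ne_bot
    (fun _ _ _ => trivial) (fun a b v _ => by
      rw [← hmul, ← hmul, mem_centralizer_iff.1 (hD b.2) a a.2])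
  have hinj : ∀ a b : F, a • w0 = b • w0 → a = b := fun a b h => smul_left_injective F hw0 h
  let μ : D →* F :=
    { toFun := μ0
      map_one' := hinj _ _ (by rw [← hμ0]; simp)
      map_mul' := fun a b => hinj _ _ (by
        rw [← hμ0, Subgroup.coe_mul, hmul, hμ0, map_smul, hμ0, smul_smul, mul_comm]) }
  have hμ : ∀ d : D, σ d w0 = μ d • w0 := hμ0
  have hμinj : Function.Injective μ := by
    have h1 : Function.Injective μ.toHomUnits := by
      rw [injective_iff_map_eq_one]
      intro d hd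
      have h2 : μ d = 1 := by simpa using congrArg Units.val hd
      exact Subtype.ext (fpf d d.2 w0 hw0 (by rw [hμ, h2, one_smul]))
    intro a b hab
    exact h1 (Units.ext hab)
  refine ⟨isCyclic_of_injective_ringHom μ hμinj, ?_⟩
  let Wμ : Submodule F W :=
    { carrier := {w | ∀ d : D, σ d w = μ d • w}
      zero_mem' := fun d => by simp
      add_mem' := fun {a b} ha hb d => by rw [map_add, ha d, hb d, smul_add]
      smul_mem' := fun c {a} ha d => by rw [map_smul, ha d, smul_comm] }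
  have hw0' : w0 ∈ Wμ := hμ
  haveI : Nontrivial Wμ := ⟨⟨⟨w0, hw0'⟩, 0, fun h => hw0 (congrArg Subtype.val h)⟩⟩
  have hEW : ∀ x ∈ centralizer (D : Set Γ), ∀ w ∈ Wμ, σ x w ∈ Wμ := fun x hx w hw d => by
    rw [← hmul, mem_centralizer_iff.1 hx d d.2, hmul, hw d, map_smul]
  refine ⟨finrank F Wμ, finrank_pos, ?_, ?_⟩
  · let T : X → End F Wμ := fun x => (σ x).restrict (hEW x (hXE x.2))
    have hT : ∀ (x : X) (w : Wμ), (T x w : W) = σ x w := fun _ _ => rfl
    have hc : ∀ x y : X, ⁅(y : Γ), (x : Γ)⁆ ∈ D := fun x y =>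
      hXX (commutator_mem_commutator y.2 x.2)
    let θ : X → X →* F := fun x =>
      { toFun := fun y => μ ⟨⁅(y : Γ), (x : Γ)⁆, hc x y⟩
        map_one' := by
          have : (⟨⁅((1 : X) : Γ), (x : Γ)⁆, hc x 1⟩ : D) = 1 := Subtype.ext (by simp)
          rw [this, map_one]
        map_mul' := fun a b => by
          rw [← map_mul]
          congr 1
          apply Subtype.ext
          have h1 := mem_centralizer_iff.1 (hXE a.2) _ (hc x b)
          have h2 := mem_centralizer_iff.1 (hD (hc x a)) _ (hc x b)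
          simp only [Subgroup.coe_mul]
          rw [← h2]
          calc ⁅(a : Γ) * b, (x : Γ)⁆ = (a * ⁅(b : Γ), (x : Γ)⁆) * (a : Γ)⁻¹ * ⁅(a : Γ), (x : Γ)⁆ := by
                simp only [commutatorElement_def]; group
            _ = _ := by rw [← h1]; group }
    let _ := Fintype.ofFinite (X ⧸ D.subgroupOf X)
    have hθ : Function.Injective fun q : X ⧸ D.subgroupOf X => θ q.out := by
      intro q q' hq
      rw [← q.out_eq, ← q'.out_eq]
      refine QuotientGroup.eq.2 (hZ _ (q.out⁻¹ * q'.out).2 (mem_centralizer_iff.2 fun y hy => ?_))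
      have h1 : ⁅y, (q.out : Γ)⁆ = ⁅y, (q'.out : Γ)⁆ :=
        congrArg Subtype.val (hμinj (DFunLike.congr_fun hq ⟨y, hy⟩))
      simp only [commutatorElement_def] at h1
      change y * ((q.out : Γ)⁻¹ * q'.out) = ((q.out : Γ)⁻¹ * q'.out) * y
      have h2 : (q.out : Γ) * y⁻¹ * (q.out : Γ)⁻¹ = q'.out * y⁻¹ * (q'.out : Γ)⁻¹ := by
        have := congrArg (fun z => y⁻¹ * z) h1
        simpa [mul_assoc] using this
      calc y * ((q.out : Γ)⁻¹ * q'.out) =
            (q.out : Γ)⁻¹ * ((q.out : Γ) * y⁻¹ * (q.out : Γ)⁻¹)⁻¹ * q'.out := by group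
        _ = _ := by rw [h2]; group
    have hli : LinearIndependent F fun q : X ⧸ D.subgroupOf X => T q.out := by
      rw [Fintype.linearIndependent_iff]
      intro a ha q
      have h1 := eq_zero_of_weights (D := X)
        (fun y => (LinearMap.mulLeft F (T y)).comp (LinearMap.mulRight F (T y⁻¹)))
        (fun q => θ q.out) hθ (fun q => a q • T q.out) (fun q y => by
          rw [map_smul, smul_comm]
          congr 1
          ext w
          change (σ y (σ q.out (σ (y⁻¹ : X) w))) = μ ⟨⁅(y : Γ), (q.out : Γ)⁆, hc _ _⟩ • σ q.out w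
          rw [← hEW _ (hXE q.out.2) w w.2, ← hmul, ← hmul, ← hmul]
          congr 2
          simp only [commutatorElement_def, Subgroup.coe_inv]; group) ha q
      refine (smul_eq_zero.1 h1).resolve_right fun h2 => hw0 ?_
      have h3 : σ q.out w0 = 0 := by
        rw [← hT q.out ⟨w0, hw0'⟩, h2]; rfl
      have h4 := congrArg (σ (q.out : Γ)⁻¹) h3
      rwa [← hmul, inv_mul_cancel, map_one, map_zero] at h4
    have h5 := hli.fintype_card_le_finrank
    rw [Module.finrank_linearMap, ← Nat.card_eq_fintype_card, ← sq] at h5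
    exact h5
  · let E := centralizer (D : Set Γ)
    let _ := Fintype.ofFinite (Γ ⧸ E)
    let b := Module.finBasis F Wμ
    let χ : Γ ⧸ E → D →* F := fun q => μ.comp (MulAut.conjNormal (q.out)⁻¹).toMonoidHom
    have hχ : Function.Injective χ := by
      intro q q' hq
      rw [← q.out_eq, ← q'.out_eq]
      refine QuotientGroup.eq.2 (mem_centralizer_iff.2 fun y hy => ?_)
      have h1 := congrArg Subtype.val (hμinj (DFunLike.congr_fun hq
        ⟨q.out * y * q.out⁻¹, hDn.conj_mem y hy _⟩))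
      simp only [MulEquiv.toMonoidHom_eq_coe, MonoidHom.coe_coe, MulAut.conjNormal_apply,
        inv_inv] at h1
      calc y * (q.out⁻¹ * q'.out) = q.out⁻¹ * q'.out *
            (q'.out⁻¹ * (q.out * y * q.out⁻¹) * q'.out) := by group
        _ = _ := by rw [← h1]; group
    have hli : LinearIndependent F fun z : (Γ ⧸ E) × Fin (finrank F Wμ) => σ z.1.out (b z.2) := by
      rw [Fintype.linearIndependent_iff]
      intro a ha z
      have h1 := eq_zero_of_weights (D := D) (fun d => σ d) χ hχ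
        (fun q => σ q.out (∑ j, a (q, j) • b j : Wμ)) (fun q d => by
          have h2 := (∑ j, a (q, j) • b j : Wμ).2 (MulAut.conjNormal (q.out)⁻¹ d)
          change _ = μ (MulAut.conjNormal (q.out)⁻¹ d) • _
          rw [← map_smul, ← h2, ← hmul, ← hmul]
          congr 2
          simp only [MulAut.conjNormal_apply]; group) (by
          rw [← ha, Fintype.sum_prod_type]
          refine Finset.sum_congr rfl fun q _ => ?_
          simp only [Submodule.coe_sum, Submodule.coe_smul, map_sum, map_smul]) z.1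
      have h4 := congrArg (σ (z.1.out : Γ)⁻¹) h1
      rw [← hmul, inv_mul_cancel, map_one, map_zero] at h4
      exact Fintype.linearIndependent_iff.1 b.linearIndependent (fun j => a (z.1, j))
        (Subtype.ext h4) z.2
    have h5 := hli.fintype_card_le_finrank
    rw [Fintype.card_prod, Fintype.card_fin, ← Nat.card_eq_fintype_card] at h5
    exact h5

/-- The order of `C(D)/C(X)` for a cyclic `D` centralized by `X`. -/
theorem relIndex_cent_le {Γ : Type*} [Group Γ] [Finite Γ] (D X : Subgroup Γ) [D.Normal] [X.Normal]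
    [IsCyclic D] (hDX : D ≤ X) (hXE : X ≤ centralizer (D : Set Γ)) :
    ∃ d, 2 ^ d ≤ D.relIndex X ∧ (centralizer (X : Set Γ)).relIndex (centralizer (D : Set Γ)) ≤
      (D.relIndex X * D.relIndex X) ^ d := by
  classical
  set E := centralizer (D : Set Γ) with hE
  set m := D.relIndex X with hm
  have hm0 : 0 < m := Nat.pos_of_ne_zero (index_ne_zero_of_finite)
  have hone : ∀ x ∈ X, (centralizer ({x} : Set Γ)).relIndex E ≤ m * m := by
    intro x hx
    let s : Set Γ := {y | y ∈ X ∧ y ^ m = x ^ m}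
    have h1 : (centralizer ({x} : Set Γ)).relIndex E ≤ Nat.card s := by
      refine Nat.card_le_card_of_injective
        (fun q : E ⧸ (centralizer ({x} : Set Γ)).subgroupOf E =>
          (⟨q.out * x * (q.out : Γ)⁻¹, ‹X.Normal›.conj_mem x hx _, ?_⟩ : s)) fun q q' hq => ?_
      · rw [conj_pow, ← mem_centralizer_iff.1 q.out.2 _ (D.pow_relIndex_mem hx),
          mul_inv_cancel_right]
      · rw [← q.out_eq, ← q'.out_eq]
        refine QuotientGroup.eq.2 (mem_subgroupOf.2 (mem_centralizer_singleton_iff.2 ?_))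
        have h2 : (q.out : Γ) * x * (q.out : Γ)⁻¹ = q'.out * x * (q'.out : Γ)⁻¹ :=
          congrArg Subtype.val hq
        simp only [Subgroup.coe_mul, Subgroup.coe_inv]
        calc (q.out : Γ)⁻¹ * q'.out * x = (q.out : Γ)⁻¹ * (q'.out * x * (q'.out : Γ)⁻¹) * q'.out := by
              group
          _ = _ := by rw [← h2]; group
    have h2 : Nat.card {b : D // b ^ m = 1} ≤ m := by
      let _ := Fintype.ofFinite D
      rw [Nat.card_eq_fintype_card, Fintype.card_subtype]
      exact IsCyclic.card_pow_eq_one_le hm0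
    let r : X ⧸ D.subgroupOf X → Γ := fun q =>
      if h : ∃ y : X, (y : Γ) ∈ s ∧ (y : X ⧸ D.subgroupOf X) = q then (h.choose : Γ) else 1
    have h3 := card_le_of_cover s (fun q (b : {b : D // b ^ m = 1}) => r q * b) fun y hy => by
      have hex : ∃ z : X, (z : Γ) ∈ s ∧ (z : X ⧸ D.subgroupOf X) = ((⟨y, hy.1⟩ : X) : _) :=
        ⟨⟨y, hy.1⟩, hy, rfl⟩
      obtain ⟨h4, h5⟩ := hex.choose_spec
      have h6 : (hex.choose : Γ)⁻¹ * y ∈ D := mem_subgroupOf.1 (QuotientGroup.eq.1 h5)
      refine ⟨((⟨y, hy.1⟩ : X) : X ⧸ D.subgroupOf X), ⟨⟨_, h6⟩, Subtype.ext ?_⟩, ?_⟩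
      · have hc : Commute (hex.choose : Γ) ((hex.choose : Γ)⁻¹ * y) :=
          (mem_centralizer_iff.1 (hXE hex.choose.2) _ h6).symm
        have h7 := hc.mul_pow m
        rw [mul_inv_cancel_left, h4.2] at h7
        have h8 := hy.2.symm.trans h7
        simpa using h8
      · simp only [r, dif_pos hex, mul_inv_cancel_left]
    exact h1.trans (h3.trans (Nat.mul_le_mul le_rfl h2))
  let Q : Subgroup Γ → Prop := fun Y => D ≤ Y ∧ Y ≤ X ∧ ∃ d, 2 ^ d ≤ D.relIndex Y ∧
    (centralizer (Y : Set Γ)).relIndex E ≤ (m * m) ^ d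
  have hQ : Q D := ⟨le_rfl, hDX, 0, by simp, by simp [hE]⟩
  obtain ⟨Y, ⟨hDY, hYX, d, hd1, hd2⟩, hmax⟩ := exists_maximal_of_wellFoundedGT Q ⟨D, hQ⟩
  by_cases hXY : X ≤ Y
  · obtain rfl := le_antisymm hXY hYX
    exact ⟨d, hd1, hd2⟩
  · obtain ⟨x, hx, hxY⟩ := SetLike.not_le_iff_exists.1 hXY
    have hQ' : Q (Y ⊔ zpowers x) := by
      refine ⟨hDY.trans le_sup_left, sup_le hYX (by simpa using hx), d + 1, ?_, ?_⟩
      · rw [← relIndex_mul_relIndex D Y _ hDY le_sup_left, pow_succ]
        refine Nat.mul_le_mul hd1 ?_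
        have h1 : Y.relIndex (Y ⊔ zpowers x) ≠ 0 := index_ne_zero_of_finite
        have h2 : Y.relIndex (Y ⊔ zpowers x) ≠ 1 := fun h =>
          hxY (relIndex_eq_one.1 h (mem_sup_right (mem_zpowers x)))
        omega
      · have h1 : centralizer (Y : Set Γ) ⊓ centralizer ({x} : Set Γ) ≤
            centralizer ((Y ⊔ zpowers x : Subgroup Γ) : Set Γ) := by
          rw [le_centralizer_iff, sup_le_iff]
          refine ⟨le_centralizer_iff.1 inf_le_left, le_centralizer_iff.1 ?_⟩
          rw [zpowers_eq_closure, centralizer_closure]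
          exact inf_le_right
        refine (relIndex_le_of_le_left h1 index_ne_zero_of_finite).trans
          (relIndex_inf_le.trans ?_)
        rw [pow_succ]
        exact Nat.mul_le_mul hd2 (hone x hx)
    exact absurd (hmax hQ' le_sup_left (mem_sup_right (mem_zpowers x))) hxY

end Cfsg.Agent.H5.KN
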