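import Cfsg.Agent.H5.KNum1
import Cfsg.Agent.H9.Weights
import Cfsg.Agent.H1.EAMod

/-!
A solvable linear group with a normal `p`-subgroup without fixed points has many classes or many
orbits.
-/

set_option autoImplicit false

namespace Cfsg.Agent.H5.KN

open Module Subgroup
open scoped commutatorElement TensorProduct

/-- Size of a solvable group against the size of a module on which a maximal abelian normal
subgroup acts freely. -/
theorem struct_bound {Γ k U : Type*} [Group Γ] [Finite Γ] [Group.IsSolvable Γ] [Field k] [Finite k]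
    [AddCommGroup U] [Module k U] [Finite U] [Nontrivial U] (σ : Γ →* End k U) (D : Subgroup Γ)
    [hDn : D.Normal] (hD : D ≤ centralizer (D : Set Γ))
    (fpf : ∀ d ∈ D, ∀ u, u ≠ 0 → σ d u = u → d = 1)
    (hmax : ∀ A : Subgroup Γ, A.Normal → D ≤ A → A ≤ centralizer (A : Set Γ) → A = D) :
    IsCyclic D ∧ ∃ e d, 1 ≤ e ∧ 2 ^ d ≤ e ^ 2 ∧
      Nat.card Γ ≤ (centralizer (D : Set Γ)).index * Nat.card D * (e ^ 4) ^ d ∧
      2 ^ ((centralizer (D : Set Γ)).index * e) ≤ Nat.card U := by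
  classical
  set E := centralizer (D : Set Γ) with hE
  haveI : E.Normal := inferInstance
  let Q : Subgroup Γ → Prop := fun Y => Y.Normal ∧ D ≤ Y ∧ Y ≤ E ∧ ⁅Y, Y⁆ ≤ D
  have hQ : Q D := ⟨hDn, le_rfl, hD, commutator_le_left _ _⟩
  obtain ⟨X, ⟨hXn, hDX, hXE, hXX⟩, hXmax⟩ := exists_maximal_of_wellFoundedGT Q ⟨D, hQ⟩
  have hDC : D ≤ centralizer (X : Set Γ) := le_centralizer_iff.1 hXE
  have hZ : X ⊓ centralizer (X : Set Γ) = D := hmax _ inferInstance (le_inf hDX hDC)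
    (inf_le_right.trans (centralizer_le inf_le_left))
  have hC : E ⊓ centralizer (X : Set Γ) ≤ D := by
    by_contra hn
    obtain ⟨R, hRn, hR, hRD, hRR⟩ := exists_comm_le hn
    have hXR : ⁅X, R⁆ ≤ D := by
      rw [commutator_comm, commutator_eq_bot_iff_le_centralizer.2 (hR.trans inf_le_right)]
      exact bot_le
    have h1 : Q (X ⊔ R) := by
      refine ⟨inferInstance, hDX.trans le_sup_left, sup_le hXE (hR.trans inf_le_left), ?_⟩
      rw [commutator_le]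
      intro a ha b hb
      rw [← SetLike.mem_coe, mul_normal] at ha hb
      obtain ⟨x, hx, r, hr, rfl⟩ := ha
      obtain ⟨y, hy, s, hs, rfl⟩ := hb
      have key : ∀ {a b : Γ} {A B : Subgroup Γ}, ⁅A, B⁆ ≤ D → a ∈ A → b ∈ B →
          Commute (a : Γ ⧸ D) (b : Γ ⧸ D) := fun h ha hb => by
        rw [← commutatorElement_eq_one_iff_commute]
        exact (QuotientGroup.eq_one_iff _).2 (h (commutator_mem_commutator ha hb))
      rw [← QuotientGroup.eq_one_iff]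
      change ⁅((x : Γ ⧸ D) * r), ((y : Γ ⧸ D) * s)⁆ = 1
      rw [commutatorElement_eq_one_iff_commute]
      exact ((key hXX hx hy).mul_right (key hXR hx hs)).mul_left
        ((key hXR hy hr).symm.mul_right (key hRR hr hs))
    have h2 : R ≤ X := le_sup_right.trans (hXmax h1 le_sup_left)
    exact hRD (hZ ▸ le_inf h2 (hR.trans inf_le_right))
  let F := AlgebraicClosure k
  let σ' : Γ →* End F (F ⊗[k] U) := (End.baseChangeHom k F U).toMonoidHom.comp σ
  have hfr : finrank F (F ⊗[k] U) = finrank k U := Module.finrank_baseChange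
  haveI : Nontrivial (F ⊗[k] U) := by
    rw [← finrank_pos_iff (R := F), hfr]
    exact finrank_pos
  have fpf' : ∀ d ∈ D, ∀ w, w ≠ 0 → σ' d w = w → d = 1 := by
    intro d hd w hw h
    by_contra hd1
    have h1 : IsUnit (σ d - 1) := by
      rw [LinearMap.isUnit_iff_ker_eq_bot, eq_bot_iff]
      intro u hu
      by_contra hu0
      exact hd1 (fpf d hd u hu0 (by simpa [sub_eq_zero] using hu))
    have h2 := h1.map (End.baseChangeHom k F U)
    rw [map_sub, map_one, LinearMap.isUnit_iff_ker_eq_bot, eq_bot_iff] at h2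
    exact hw (h2 (show End.baseChangeHom k F U (σ d) w - w = 0 from sub_eq_zero.2 h))
  obtain ⟨hcyc, e, he1, he2, he3⟩ := dim_bounds σ' D X hD fpf' hXE hXX
    fun x hx hx' => hZ ▸ mem_inf.2 ⟨hx, hx'⟩
  obtain ⟨d, hd1, hd2⟩ := relIndex_cent_le D X hDX hXE
  refine ⟨hcyc, e, d, he1, hd1.trans he2, ?_, ?_⟩
  · have h1 : D.relIndex E ≤ (e ^ 4) ^ d := by
      have h2 : D.relIndex E ≤ (centralizer (X : Set Γ)).relIndex E := by
        rw [← inf_relIndex_right (centralizer (X : Set Γ)) E]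
        exact relIndex_le_of_le_left (inf_comm E _ ▸ hC) index_ne_zero_of_finite
      refine h2.trans (hd2.trans (Nat.pow_le_pow_left ?_ _))
      calc _ ≤ e ^ 2 * e ^ 2 := Nat.mul_le_mul he2 he2
        _ = _ := by ring
    have h3 : Nat.card D * D.relIndex E = Nat.card E := by
      rw [← (D.subgroupOf E).card_mul_index, Nat.card_congr (subgroupOfEquivOfLe hD).toEquiv]
      rfl
    rw [← E.index_mul_card, ← h3, mul_assoc]
    exact Nat.mul_le_mul_left _ (Nat.mul_le_mul_left _ h1)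
  · rw [Module.natCard_eq_pow_finrank (K := k), ← hfr]
    exact (Nat.pow_le_pow_right (by norm_num) he3).trans
      (Nat.pow_le_pow_left Finite.one_lt_card _)

/-- Pairwise non-conjugate faithful characters of a cyclic normal subgroup. -/
theorem exists_chars {Γ : Type*} [Group Γ] [Finite Γ] (D : Subgroup Γ) [D.Normal] [IsCyclic D] :
    ∃ R : Set (D →* ℂˣ), (∀ ψ ∈ R, Function.Injective ψ) ∧
      (∀ ψ ∈ R, ∀ ψ' ∈ R, ∀ n : Γ, (∀ d, ψ (MulAut.conjNormal n d) = ψ' d) → ψ = ψ') ∧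
      (Nat.card D).totient ≤ Nat.card R * (centralizer (D : Set Γ)).index := by
  classical
  let r : Setoid (D →* ℂˣ) :=
    { r := fun ψ ψ' => ∃ n : Γ, ∀ d, ψ (MulAut.conjNormal n d) = ψ' d
      iseqv :=
        { refl := fun ψ => ⟨1, fun d => by simp⟩
          symm := fun {ψ ψ'} ⟨n, hn⟩ => ⟨n⁻¹, fun d => by
            rw [← hn, ← MulAut.mul_apply, ← map_mul, mul_inv_cancel, map_one, MulAut.one_apply]⟩
          trans := fun {a b c} ⟨n, hn⟩ ⟨m, hm⟩ => ⟨n * m, fun d => by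
            rw [map_mul, MulAut.mul_apply, hn, hm]⟩ } }
  let R : Set (D →* ℂˣ) := {ψ | Function.Injective ψ ∧ (Quotient.mk r ψ).out = ψ}
  refine ⟨R, fun ψ h => h.1, fun ψ h ψ' h' n hn => ?_, ?_⟩
  · rw [← h.2, ← h'.2, Quotient.sound (s := r) ⟨n, hn⟩]
  · haveI : NeZero (Nat.card D) := ⟨Nat.card_pos.ne'⟩
    let e0 : D ≃* rootsOfUnity (Nat.card D) ℂ :=
      mulEquivOfCyclicCardEq (HasEnoughRootsOfUnity.natCard_rootsOfUnity ℂ _).symm
    let ψ0 : D →* ℂˣ := (rootsOfUnity (Nat.card D) ℂ).subtype.comp e0.toMonoidHom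
    have hψ0 : Function.Injective ψ0 := Subtype.val_injective.comp e0.injective
    let Λ : Set (D →* ℂˣ) := {ψ | Function.Injective ψ}
    have h1 : Nat.card (MulAut D) ≤ Nat.card Λ :=
      Nat.card_le_card_of_injective
        (fun α : MulAut D => (⟨ψ0.comp α.toMonoidHom, hψ0.comp α.injective⟩ : Λ)) fun α β h =>
        MulEquiv.ext fun d => hψ0 (DFunLike.congr_fun (congrArg Subtype.val h) d)
    rw [IsCyclic.card_mulAut] at h1
    refine h1.trans (card_le_of_cover Λ (fun (ψ : R) (q : Γ ⧸ centralizer (D : Set Γ)) =>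
      (ψ : D →* ℂˣ).comp (MulAut.conjNormal q.out).toMonoidHom) fun ψ hψ => ?_)
    obtain ⟨n, hn⟩ : r (Quotient.mk r ψ).out ψ := Quotient.mk_out (s := r) ψ
    refine ⟨⟨(Quotient.mk r ψ).out, fun a b hab => ?_, by rw [Quotient.out_eq]⟩, (n : _ ⧸ _), ?_⟩
    · have h2 := hn ((MulAut.conjNormal n).symm a)
      have h3 := hn ((MulAut.conjNormal n).symm b)
      rw [MulEquiv.apply_symm_apply] at h2 h3
      exact (MulAut.conjNormal n).symm.injective (hψ (by rw [← h2, ← h3, hab]))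
    · ext d
      rw [← hn]
      obtain ⟨c, hc⟩ := QuotientGroup.mk_out_eq_mul (centralizer (D : Set Γ)) n
      congr 1
      change (Quotient.mk r ψ).out (MulAut.conjNormal _ d) = _
      congr 1
      apply Subtype.ext
      simp only [MulAut.conjNormal_apply, hc]
      calc n * c * d * (n * c)⁻¹ = n * (c * d) * (n * c)⁻¹ := by group
        _ = _ := by rw [← mem_centralizer_iff.1 c.2 d d.2]; group

section Cfg

variable {H k V : Type*} [Group H] [Field k] [AddCommGroup V] [Module k V]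

open H9 in
/-- A localized configuration. -/
structure Cfg (ρ : H →* End k V) (N : Subgroup H) (U : Submodule k V) (B : Subgroup H) : Prop where
  ne : U ≠ ⊥
  inv : ∀ n ∈ N, ∀ u ∈ U, ρ n u ∈ U
  le : B ≤ N
  norm : ∀ n ∈ N, ∀ b ∈ B, n * b * n⁻¹ ∈ B
  comm : ∀ a ∈ B, ∀ b ∈ B, ⁅a, b⁆ ∈ fixer ρ U
  fpf : ∀ b ∈ B, ∀ u ∈ U, u ≠ 0 → ρ b u = u → b ∈ fixer ρ U
  orb : ∀ h, ∀ u ∈ U, u ≠ 0 → ρ h u ∈ U → h ∈ N
  chr : ∀ h, h ∉ N → ∃ x ∈ B, h * x * h⁻¹ ∈ B ∧ ¬ (x ∈ fixer ρ U ↔ h * x * h⁻¹ ∈ fixer ρ U)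

open H9

variable {ρ : H →* End k V} {N : Subgroup H} {U : Submodule k V} {B : Subgroup H}

theorem fixer_anti {U U' : Submodule k V} (h : U' ≤ U) : fixer ρ U ≤ fixer ρ U' :=
  fun _ hx v hv => hx v (h hv)

theorem Cfg.mem_fixer_iff (h : Cfg ρ N U B) {U' : Submodule k V} (hU : U' ≤ U) (h0 : U' ≠ ⊥) {x : H}
    (hx : x ∈ B) : x ∈ fixer ρ U' ↔ x ∈ fixer ρ U := by
  obtain ⟨u, hu, hu0⟩ := Submodule.exists_mem_ne_zero_of_ne_bot h0
  exact ⟨fun h1 => h.fpf x hx u (hU hu) hu0 (h1 u hu), fun h1 => fixer_anti hU h1⟩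

theorem Cfg.step [Finite H] (h : Cfg ρ N U B) {A : Subgroup H} (hBA : B ≤ A) (hAN : A ≤ N)
    (hn : ∀ n ∈ N, ∀ a ∈ A, n * a * n⁻¹ ∈ A) (hc : ∀ a ∈ A, ∀ b ∈ A, ⁅a, b⁆ ∈ fixer ρ U) :
    ∃ N' U', U' ≤ U ∧ Cfg ρ N' U' A := by
  classical
  let C : V → Subgroup H := fun u => A ⊓ fixer ρ (Submodule.span k {u})
  have hC : ∀ u x, x ∈ C u ↔ x ∈ A ∧ ρ x u = u := fun u x => by
    refine and_congr Iff.rfl ⟨fun h1 => h1 u (Submodule.mem_span_singleton_self u), fun h1 v hv => ?_⟩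
    obtain ⟨c, rfl⟩ := Submodule.mem_span_singleton.1 hv
    rw [map_smul, h1]
  obtain ⟨u1, hu1, hu10⟩ := Submodule.exists_mem_ne_zero_of_ne_bot h.ne
  obtain ⟨K, ⟨u0, hu0, hu00, rfl⟩, hmax⟩ := exists_maximal_of_wellFoundedGT
    (fun K : Subgroup H => ∃ u ∈ U, u ≠ 0 ∧ C u = K) ⟨_, u1, hu1, hu10, rfl⟩
  let U' : Submodule k V :=
    { carrier := {v | v ∈ U ∧ ∀ x ∈ C u0, ρ x v = v}
      zero_mem' := ⟨U.zero_mem, fun x _ => map_zero _⟩
      add_mem' := fun {a b} ha hb => ⟨U.add_mem ha.1 hb.1, fun x hx => by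
        rw [map_add, ha.2 x hx, hb.2 x hx]⟩
      smul_mem' := fun c {a} ha => ⟨U.smul_mem c ha.1, fun x hx => by rw [map_smul, ha.2 x hx]⟩ }
  have hU' : U' ≤ U := fun v hv => hv.1
  have hu0' : u0 ∈ U' := ⟨hu0, fun x hx => ((hC _ _).1 hx).2⟩
  have hne : U' ≠ ⊥ := fun h0 => hu00 (by rwa [h0] at hu0')
  have hCu : ∀ u ∈ U', u ≠ 0 → C u = C u0 := fun u hu hu' => by
    have h1 : C u0 ≤ C u := fun x hx => (hC _ _).2 ⟨((hC _ _).1 hx).1, hu.2 x hx⟩
    exact le_antisymm (hmax ⟨u, hu.1, hu', rfl⟩ h1) h1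
  have hfix : ∀ x ∈ A, x ∈ fixer ρ U' ↔ x ∈ C u0 := fun x hx =>
    ⟨fun h1 => (hC _ _).2 ⟨hx, h1 u0 hu0'⟩, fun h1 v hv => hv.2 x h1⟩
  have hinvA : ∀ n ∈ N, ∀ a, n * a * n⁻¹ ∈ A → a ∈ A := fun n hn' a ha => by
    simpa [mul_assoc] using hn n⁻¹ (N.inv_mem hn') _ ha
  refine ⟨N ⊓ normalizer (C u0 : Set H), U', hU', hne, ?_, ?_, fun n hn' => hn n hn'.1,
    fun a ha b hb => fixer_anti hU' (hc a ha b hb), ?_, ?_, ?_⟩
  · intro n hn' u hu
    refine ⟨h.inv n hn'.1 u hu.1, fun x hx => ?_⟩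
    have h1 : n⁻¹ * x * n ∈ C u0 := by
      have := (mem_normalizer_iff.1 (inv_mem hn'.2) x).1 hx
      rwa [inv_inv] at this
    rw [← rep_mul_apply, show x * n = n * (n⁻¹ * x * n) by group, rep_mul_apply, hu.2 _ h1]
  · intro a ha
    refine mem_inf.2 ⟨hAN ha, ?_⟩
    have key : ∀ a ∈ A, ∀ x ∈ C u0, a * x * a⁻¹ ∈ C u0 := fun a ha x hx => by
      have hxA := ((hC _ _).1 hx).1
      rw [show a * x * a⁻¹ = ⁅a, x⁆ * x by simp only [commutatorElement_def]; group]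
      refine mul_mem ((hC _ _).2 ⟨?_, hc a ha x hxA u0 hu0⟩) hx
      exact A.mul_mem (A.mul_mem (A.mul_mem ha hxA) (A.inv_mem ha)) (A.inv_mem hxA)
    exact mem_normalizer_iff.2 fun x => ⟨key a ha x, fun hx => by
      simpa [mul_assoc] using key a⁻¹ (A.inv_mem ha) _ hx⟩
  · intro a ha u hu hu' h1
    rw [hfix a ha, ← hCu u hu hu', hC]
    exact ⟨ha, h1⟩
  · intro g u hu hu' h1
    have hg := h.orb g u hu.1 hu' h1.1
    refine mem_inf.2 ⟨hg, mem_normalizer_iff.2 fun x => ?_⟩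
    have h2 : ρ g u ≠ 0 := fun h0 => hu' (rep_eq_zero ρ g h0)
    conv_lhs => rw [← hCu u hu hu', hC]
    conv_rhs => rw [← hCu _ h1 h2, hC]
    rw [← rep_mul_apply, inv_mul_cancel_right, rep_mul_apply, (rep_injective ρ g).eq_iff]
    exact and_congr_left' ⟨hn g hg x, hinvA g hg x⟩
  · intro g hg
    by_cases hgN : g ∈ N
    · have h1 : g ∉ normalizer (C u0 : Set H) := fun h1 => hg (mem_inf.2 ⟨hgN, h1⟩)
      rw [mem_normalizer_iff, not_forall] at h1
      obtain ⟨x, hx⟩ := h1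
      have hxA : x ∈ A := by
        by_contra hxA
        exact hx ⟨fun h2 => absurd ((hC _ _).1 h2).1 hxA,
          fun h2 => absurd (hinvA g hgN x ((hC _ _).1 h2).1) hxA⟩
      refine ⟨x, hxA, hn g hgN x hxA, ?_⟩
      rwa [hfix x hxA, hfix _ (hn g hgN x hxA)]
    · obtain ⟨x, hx, hx', h1⟩ := h.chr g hgN
      refine ⟨x, hBA hx, hBA hx', ?_⟩
      rwa [h.mem_fixer_iff hU' hne hx, h.mem_fixer_iff hU' hne hx']

theorem Cfg.bounds [Finite H] [Group.IsSolvable H] [Finite k] [Finite V] (h : Cfg ρ N U B)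
    (hmax : ∀ A, B ≤ A → A ≤ N → (∀ n ∈ N, ∀ a ∈ A, n * a * n⁻¹ ∈ A) →
      (∀ a ∈ A, ∀ b ∈ A, ⁅a, b⁆ ∈ fixer ρ U) → A ≤ B)
    {ι : Type*} [Finite ι] (cl : V → ι) (hcl : ∀ v w, cl v = cl w → ∃ g, ρ g v = w)
    {p : ℕ} (hp : p.Prime) {b : H} (hb : b ∈ B) (hb1 : b ∉ fixer ρ U) {j : ℕ}
    (hb2 : b ^ p ^ j ∈ fixer ρ U) :
    ∃ c t e d g u : ℕ, p ∣ c ∧ 0 < c ∧ c.totient ≤ Nat.card (ConjClasses H) * t ∧
      u ≤ Nat.card ι * g ∧ 1 ≤ e ∧ 2 ^ d ≤ e ^ 2 ∧ g ≤ t * c * (e ^ 4) ^ d ∧ 2 ^ (t * e) ≤ u := by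
  classical
  let φ : N →* End k U :=
    { toFun := fun n => (ρ n).restrict (h.inv n n.2)
      map_one' := by ext u; simp
      map_mul' := fun a b => by ext u; simp }
  have hφ : ∀ (n : N) (u : U), (φ n u : V) = ρ n u := fun _ _ => rfl
  let Γ := φ.toHomUnits.range
  let π : N →* Γ := φ.toHomUnits.rangeRestrict
  have hπ : Function.Surjective π := φ.toHomUnits.rangeRestrict_surjective
  haveI : Finite Γ := Finite.of_surjective π hπ
  haveI : Group.IsSolvable Γ := Group.isSolvable_of_surjective hπ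
  let σ : Γ →* End k U := (Units.coeHom _).comp Γ.subtype
  have hσ : ∀ (n : N) (u : U), (σ (π n) u : V) = ρ n u := fun _ _ => rfl
  have hker : ∀ n : N, π n = 1 ↔ (n : H) ∈ fixer ρ U := fun n => by
    constructor
    · intro h1 u hu
      rw [← hσ n ⟨u, hu⟩, h1, map_one]; rfl
    · intro h1
      exact Subtype.ext (Units.ext (LinearMap.ext fun u => Subtype.ext (h1 u u.2)))
  haveI hBn : (B.subgroupOf N).Normal := ⟨fun b hb n => h.norm n n.2 b hb⟩
  let D : Subgroup Γ := (B.subgroupOf N).map π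
  haveI hDn : D.Normal := hBn.map π hπ
  have hcomm : ∀ a b : N, π a * π b = π b * π a ↔ ⁅(a : H), (b : H)⁆ ∈ fixer ρ U := fun a b => by
    rw [← commutatorElement_eq_one_iff_mul_comm, ← map_commutatorElement, hker]
    rfl
  haveI : Nontrivial U := Submodule.nontrivial_iff_ne_bot.2 h.ne
  obtain ⟨hcyc, e, d, he, hd, hΓ, hU⟩ := struct_bound σ D
    (by
      rintro _ ⟨a, ha, rfl⟩
      rw [mem_centralizer_iff]
      rintro _ ⟨b, hb, rfl⟩
      exact (hcomm b a).2 (h.comm _ hb _ ha))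
    (by
      rintro _ ⟨a, ha, rfl⟩ u hu h1
      exact (hker a).2 (h.fpf a ha u u.2 (fun h0 => hu (Subtype.ext h0)) (congrArg Subtype.val h1)))
    (by
      intro A hA hDA hAA
      refine le_antisymm ?_ hDA
      have h1 := hmax ((A.comap π).map N.subtype)
        (fun b hb => ⟨⟨b, h.le hb⟩, hDA ⟨_, hb, rfl⟩, rfl⟩) (map_subtype_le _)
        (by
          rintro n hn _ ⟨a, ha, rfl⟩
          exact ⟨⟨n, hn⟩ * a * ⟨n, hn⟩⁻¹, (hA.comap π).conj_mem a ha _, rfl⟩)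
        (by
          rintro _ ⟨a, ha, rfl⟩ _ ⟨b, hb, rfl⟩
          exact (hcomm a b).1 (mem_centralizer_iff.1 (hAA hb) _ ha))
      intro a ha
      obtain ⟨n, rfl⟩ := hπ a
      exact ⟨n, h1 ⟨n, ha, rfl⟩, rfl⟩)
  obtain ⟨R, hR1, hR2, hR3⟩ := exists_chars D
  let πB : B →* D := (π.comp (inclusion h.le)).codRestrict D fun b => ⟨_, b.2, rfl⟩
  have hπB : Function.Surjective πB := by
    rintro ⟨_, a, ha, rfl⟩
    exact ⟨⟨a, ha⟩, rfl⟩
  have hπB1 : ∀ b : B, πB b = 1 ↔ (b : H) ∈ fixer ρ U := fun b => by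
    rw [Subtype.ext_iff]
    exact hker _
  have hcls := card_le_classNum B (fun ψ : R => (ψ : D →* ℂˣ).comp πB) fun ψ ψ' hne g => by
    by_cases hg : g ∈ N
    · by_contra! hall
      refine hne (Subtype.ext (hR2 _ ψ.2 _ ψ'.2 (π ⟨g, hg⟩) fun y => ?_))
      obtain ⟨x, rfl⟩ := hπB y
      have h1 := hall x x.2 (h.norm g hg x x.2)
      simp only [MonoidHom.comp_apply] at h1
      rw [← h1]
      congr 1
      apply Subtype.ext
      change π ⟨g, hg⟩ * π ⟨x, h.le x.2⟩ * (π ⟨g, hg⟩)⁻¹ = _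
      rw [← map_inv, ← map_mul, ← map_mul]
      rfl
    · obtain ⟨x, hx, hx', h1⟩ := h.chr g hg
      refine ⟨x, hx, hx', fun h2 => h1 ?_⟩
      simp only [MonoidHom.comp_apply] at h2
      rw [← hπB1 ⟨x, hx⟩, ← hπB1 ⟨_, hx'⟩, ← map_eq_one_iff _ (hR1 _ ψ'.2), ← h2,
        map_eq_one_iff _ (hR1 _ ψ.2)]
  refine ⟨Nat.card D, (centralizer (D : Set Γ)).index, e, d, Nat.card Γ, Nat.card U, ?_,
    Nat.card_pos, hR3.trans (Nat.mul_le_mul_right _ hcls), ?_, he, hd, hΓ, hU⟩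
  · have h1 : πB ⟨b, hb⟩ ^ p ^ j = 1 := by rw [← map_pow, hπB1]; exact hb2
    obtain ⟨i, -, hi⟩ := (Nat.dvd_prime_pow hp).1 (orderOf_dvd_of_pow_eq_one h1)
    have h2 : i ≠ 0 := by
      rintro rfl
      rw [pow_zero, orderOf_eq_one_iff, hπB1] at hi
      exact hb1 hi
    exact (dvd_pow_self p h2).trans (hi ▸ orderOf_dvd_natCard _)
  · let r : ι → U := fun i => if h : ∃ u : U, cl u = i then h.choose else 0
    have h1 := card_le_of_cover (Set.univ : Set U) (fun i (γ : Γ) => σ γ (r i)) fun u _ => by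
      have hex : ∃ u' : U, cl u' = cl u := ⟨u, rfl⟩
      obtain ⟨g, hg⟩ := hcl _ _ hex.choose_spec
      refine ⟨cl u, ?_⟩
      simp only [r, dif_pos hex]
      by_cases h0 : (hex.choose : V) = 0
      · refine ⟨1, Subtype.ext ?_⟩
        rw [h0, map_zero] at hg
        rw [map_one]
        exact h0.trans hg
      · exact ⟨π ⟨g, h.orb g _ hex.choose.2 h0 (by rw [hg]; exact u.2)⟩, Subtype.ext hg⟩
    rwa [Nat.card_univ] at h1

theorem core [Finite H] [Group.IsSolvable H] [Finite k] [Finite V] [Nontrivial V]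
    (ρ : H →* End k V) {ι : Type*} [Finite ι] (cl : V → ι)
    (hcl : ∀ v w, cl v = cl w → ∃ g, ρ g v = w) {p : ℕ} (hp : p.Prime) (Z : Subgroup H)
    [hZ : Z.Normal] (hZc : ⁅Z, Z⁆ ≤ fixer ρ ⊤) (hZp : ∀ z ∈ Z, ∃ j, z ^ p ^ j ∈ fixer ρ ⊤)
    (hZf : ∀ v, (∀ z ∈ Z, ρ z v = v) → v = 0) :
    ∃ c t e d g u : ℕ, p ∣ c ∧ 0 < c ∧ c.totient ≤ Nat.card (ConjClasses H) * t ∧
      u ≤ Nat.card ι * g ∧ 1 ≤ e ∧ 2 ^ d ≤ e ^ 2 ∧ g ≤ t * c * (e ^ 4) ^ d ∧ 2 ^ (t * e) ≤ u := by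
  classical
  let Q : Submodule k V → Subgroup H → Prop := fun U B =>
    ∃ N, Cfg ρ N U B ∧ ∃ b ∈ B, b ∉ fixer ρ U ∧ ∃ j, b ^ p ^ j ∈ fixer ρ U
  have h0 : Cfg ρ ⊤ ⊤ ⊥ := ⟨top_ne_bot, fun _ _ _ _ => trivial, bot_le,
    fun n _ b hb => by simp [mem_bot.1 hb], fun a ha b _ => by simp [mem_bot.1 ha],
    fun b hb _ _ _ _ => by simp [mem_bot.1 hb], fun _ _ _ _ _ => trivial,
    fun h hh => absurd trivial hh⟩
  obtain ⟨N1, U1, -, h1⟩ := h0.step (A := Z) bot_le le_top (fun n _ a ha => hZ.conj_mem a ha n)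
    fun a ha b hb => hZc (commutator_mem_commutator ha hb)
  have hQ1 : Q U1 Z := by
    refine ⟨N1, h1, ?_⟩
    obtain ⟨u, hu, hu0⟩ := Submodule.exists_mem_ne_zero_of_ne_bot h1.ne
    by_contra! hall
    refine hu0 (hZf u fun z hz => ?_)
    by_contra hne
    obtain ⟨j, hj⟩ := hZp z hz
    exact hall z hz (fun h2 => hne (h2 u hu)) j (fixer_anti le_top hj)
  haveI : Finite (Submodule k V) := Finite.of_injective _ SetLike.coe_injective
  obtain ⟨U, ⟨B1, hB1⟩, hUmin⟩ := exists_minimal_of_wellFoundedLT (fun U => ∃ B, Q U B) ⟨U1, Z, hQ1⟩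
  obtain ⟨B, ⟨N, hc, b, hb, hb1, j, hb2⟩, hBmax⟩ := exists_maximal_of_wellFoundedGT (Q U) ⟨B1, hB1⟩
  refine hc.bounds (fun A hBA hAN hn hA => ?_) cl hcl hp hb hb1 hb2
  obtain ⟨N', U', hU', h'⟩ := hc.step hBA hAN hn hA
  have hQ : Q U' A := ⟨N', h', b, hBA hb, fun h2 => hb1 ((hc.mem_fixer_iff hU' h'.ne hb).1 h2), j,
    fixer_anti hU' hb2⟩
  obtain rfl : U' = U := le_antisymm hU' (hUmin ⟨A, hQ⟩ hU')
  exact hBmax hQ hBA

end Cfg

theorem le_totient_sq (n : ℕ) : (Odd n → n ≤ n.totient ^ 2) ∧ n ≤ 2 * n.totient ^ 2 := by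
  induction n using Nat.recOnPosPrimePosCoprime with
  | prime_pow p a hp ha =>
    obtain ⟨a, rfl⟩ := Nat.exists_eq_succ_of_ne_zero ha.ne'
    rw [Nat.totient_prime_pow_succ hp]
    have h1 : 1 ≤ p ^ a := Nat.one_le_pow _ _ hp.pos
    have h2 := hp.two_le
    have key : 3 ≤ p → p ^ (a + 1) ≤ (p ^ a * (p - 1)) ^ 2 := fun h3 => by
      obtain ⟨q, rfl⟩ := Nat.exists_eq_add_of_le h3
      rw [pow_succ, show 3 + q - 1 = 2 + q by omega]
      generalize (3 + q) ^ a = x at h1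
      calc x * (3 + q) ≤ x * (x * (2 + q) ^ 2) := Nat.mul_le_mul_left _ (by nlinarith)
        _ = _ := by ring
    refine ⟨fun ho => key ?_, ?_⟩
    · have h3 : p ≠ 2 := by
        rintro rfl
        exact Nat.not_even_iff_odd.2 ho (by simp [Nat.even_pow])
      omega
    · rcases Nat.lt_or_ge 2 p with h3 | h3
      · exact (key h3).trans (by omega)
      · obtain rfl : p = 2 := by omega
        rw [pow_succ]
        generalize 2 ^ a = x at h1
        nlinarith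
  | zero => simp
  | one => simp
  | coprime a b ha hb hab iha ihb =>
    rw [Nat.totient_mul hab, mul_pow, Nat.odd_mul]
    refine ⟨fun h => Nat.mul_le_mul (iha.1 h.1) (ihb.1 h.2), ?_⟩
    rcases Nat.even_or_odd a with h | h
    · have h2 : Odd b := Nat.Coprime.odd_of_left (n := b) (hab.coprime_dvd_left h.two_dvd)
      rw [← mul_assoc]
      exact Nat.mul_le_mul iha.2 (ihb.1 h2)
    · rw [mul_left_comm]
      exact Nat.mul_le_mul (iha.1 h) ihb.2

theorem exists_totient_eq {p c : ℕ} (hp : p.Prime) (hc : 0 < c) (h : p ∣ c) :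
    ∃ y, c.totient = (p - 1) * y ∧ c ≤ 2 * p * y ^ 2 := by
  obtain ⟨a, c', hc', rfl⟩ := Nat.exists_eq_pow_mul_and_not_dvd hc.ne' p hp.ne_one
  have ha : a ≠ 0 := by
    rintro rfl
    exact hc' (by simpa using h)
  obtain ⟨a, rfl⟩ := Nat.exists_eq_succ_of_ne_zero ha
  refine ⟨p ^ a * c'.totient, ?_, ?_⟩
  · rw [Nat.totient_mul (((Nat.Prime.coprime_iff_not_dvd hp).2 hc').pow_left _),
      Nat.totient_prime_pow_succ hp]
    ring
  · have h1 : 1 ≤ p ^ a := Nat.one_le_pow _ _ hp.pos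
    have h2 := (le_totient_sq c').2
    rw [Nat.succ_eq_add_one, pow_succ]
    generalize p ^ a = x at h1
    calc x * p * c' ≤ x * x * p * (2 * c'.totient ^ 2) :=
          Nat.mul_le_mul (Nat.mul_le_mul_right _ (by nlinarith)) h2
      _ = _ := by ring

theorem pow_le_aux {e d : ℕ} (he : 1 ≤ e) (hd : 2 ^ d ≤ e ^ 2) : (e ^ 4) ^ d ≤ 2 ^ (12 * (e - 1)) := by
  rcases Nat.lt_or_ge e 16 with h | h
  · have h1 : d < 8 := by
      by_contra! h1
      have h2 : 2 ^ 8 ≤ 2 ^ d := Nat.pow_le_pow_right (by norm_num) h1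
      nlinarith
    interval_cases e <;> interval_cases d <;> first | (exfalso; omega) | norm_num
  · obtain ⟨j, hj1, hj2⟩ : ∃ j, 2 ^ j ≤ e ∧ e < 2 ^ (j + 1) :=
      ⟨Nat.log 2 e, Nat.pow_log_le_self 2 (by omega), Nat.lt_pow_succ_log_self (by norm_num) e⟩
    have hj4 : 4 ≤ j := by
      by_contra! h1
      have h2 : 2 ^ (j + 1) ≤ 2 ^ 4 := Nat.pow_le_pow_right (by norm_num) h1
      omega
    have h1 : d < (j + 1) * 2 := by
      rw [← Nat.pow_lt_pow_iff_right (a := 2) (by norm_num), pow_mul]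
      exact hd.trans_lt (Nat.pow_lt_pow_left hj2 (by norm_num))
    have h2 : ∀ i, 4 ≤ i → (i + 1) * (2 * i + 1) + 3 ≤ 3 * 2 ^ i := by
      intro i hi
      induction i, hi using Nat.le_induction with
      | base => norm_num
      | succ i hi ih => rw [pow_succ]; nlinarith
    have h3 := h2 j hj4
    calc (e ^ 4) ^ d ≤ ((2 ^ (j + 1)) ^ 4) ^ d := by gcongr
      _ = 2 ^ ((j + 1) * 4 * d) := by rw [← pow_mul, ← pow_mul, mul_assoc]
      _ ≤ _ := Nat.pow_le_pow_right (by norm_num) (by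
          obtain ⟨e', rfl⟩ := Nat.exists_eq_add_of_le he
          rw [Nat.add_sub_cancel_left]
          have h4 : (j + 1) * d ≤ (j + 1) * (2 * j + 1) := Nat.mul_le_mul_left _ (by omega)
          nlinarith)

theorem arith {p K c t e d g u : ℕ} (hp : p.Prime) (hK : 2 ≤ K) (hc : p ∣ c) (hc0 : 0 < c)
    (h1 : c.totient ≤ K * t) (h2 : u ≤ K * g) (he : 1 ≤ e) (hd : 2 ^ d ≤ e ^ 2)
    (h3 : g ≤ t * c * (e ^ 4) ^ d) (h4 : 2 ^ (t * e) ≤ u) : p ≤ 3 * Nat.log 2 p * K := by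
  by_contra! hlt
  set L := Nat.log 2 p with hL
  have hp2 := hp.two_le
  have hL1 : p < 2 ^ (L + 1) := Nat.lt_pow_succ_log_self (by norm_num) p
  have hL0 : 0 < L := Nat.log_pos (by norm_num) hp2
  have hL4 : 4 ≤ L := by
    by_contra! h
    have h5 : 6 * L ≤ 3 * L * K := by nlinarith
    interval_cases L <;> omega
  obtain ⟨y, hy1, hy2⟩ := exists_totient_eq hp hc0 hc
  have hy0 : 0 < y := by
    rcases Nat.eq_zero_or_pos y with rfl | h
    · simp at hy2; omega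
    · exact h
  have h5 : 3 * L * y ≤ t := by
    have h6 : 3 * L * K * y ≤ K * t :=
      (Nat.mul_le_mul_right y (by omega)).trans (hy1 ▸ h1)
    refine Nat.le_of_mul_le_mul_left (c := K) ?_ (by omega)
    calc _ = 3 * L * K * y := by ring
      _ ≤ _ := h6
  have ht : 3 * L ≤ t := le_trans (Nat.le_mul_of_pos_right _ hy0) h5
  have h7 : ∀ s, 3 * L ≤ s → s ^ 3 * 2 ^ (3 * L) ≤ (3 * L) ^ 3 * 2 ^ s := by
    intro s hs
    induction s, hs using Nat.le_induction with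
    | base => exact le_rfl
    | succ s hs ih =>
      have h8 : (s + 1) ^ 3 ≤ 2 * s ^ 3 := by
        obtain ⟨s', rfl⟩ := Nat.exists_eq_add_of_le (show 4 ≤ s by omega)
        ring_nf
        omega
      calc (s + 1) ^ 3 * 2 ^ (3 * L) ≤ 2 * s ^ 3 * 2 ^ (3 * L) := Nat.mul_le_mul_right _ h8
        _ = 2 * (s ^ 3 * 2 ^ (3 * L)) := by ring
        _ ≤ 2 * ((3 * L) ^ 3 * 2 ^ s) := Nat.mul_le_mul_left _ ih
        _ = _ := by ring
  have h8 : (e ^ 4) ^ d ≤ 2 ^ (t * (e - 1)) :=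
    (pow_le_aux he hd).trans (Nat.pow_le_pow_right (by norm_num) (Nat.mul_le_mul_right _ (by omega)))
  have h9 : 2 ^ t ≤ K * (t * c) := by
    have h10 : 2 ^ t * 2 ^ (t * (e - 1)) ≤ K * (t * c) * 2 ^ (t * (e - 1)) := by
      calc _ = 2 ^ (t * e) := by
            rw [← pow_add]; congr 1
            obtain ⟨e', rfl⟩ := Nat.exists_eq_add_of_le he
            rw [Nat.add_sub_cancel_left]; ring
        _ ≤ K * (t * c * (e ^ 4) ^ d) := h4.trans (h2.trans (Nat.mul_le_mul_left _ h3))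
        _ ≤ K * (t * c * 2 ^ (t * (e - 1))) := by gcongr
        _ = _ := by ring
    exact Nat.le_of_mul_le_mul_right h10 (by positivity)
  have h11 : (3 * L) ^ 3 * 2 ^ t ≤ 2 * p ^ 2 * t ^ 3 := by
    calc _ ≤ (3 * L) ^ 3 * (K * (t * (2 * p * y ^ 2))) := by gcongr; exact h9.trans (by gcongr)
      _ = (3 * L * K) * (2 * p * t) * (3 * L * y) ^ 2 := by ring
      _ ≤ p * (2 * p * t) * t ^ 2 := by gcongr
      _ = _ := by ring
  have h12 : t ^ 3 * 2 ^ (3 * L) ≤ t ^ 3 * (2 * p ^ 2) := by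
    calc _ ≤ _ := (h7 t ht).trans h11
      _ = _ := by ring
  have h13 := Nat.le_of_mul_le_mul_left h12 (Nat.pow_pos (by omega))
  have h14 : p ^ 2 < (2 ^ (L + 1)) ^ 2 := Nat.pow_lt_pow_left hL1 (by norm_num)
  have h15 : 2 * (2 ^ (L + 1)) ^ 2 ≤ 2 ^ (3 * L) := by
    rw [← pow_mul, ← pow_succ']
    exact Nat.pow_le_pow_right (by norm_num) (by omega)
  omega

open scoped IsMulCommutative in
theorem le_classNum.{u} {p : ℕ} (hp : p.Prime) (G : Type u) [Group G] [Finite G] :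
    Group.IsSolvable G → p ∣ (fittingSubgroup G).index →
      p ≤ 3 * Nat.log 2 p * Nat.card (ConjClasses G) := by
  refine L.induction_on_card (P := fun G _ _ => Group.IsSolvable G → p ∣ (fittingSubgroup G).index →
      p ≤ 3 * Nat.log 2 p * Nat.card (ConjClasses G)) G ?_
  intro G _ _ ih hs hdvd
  haveI := Fact.mk hp
  haveI : Nontrivial G := by
    by_contra hn
    rw [not_nontrivial_iff_subsingleton] at hn
    rw [Subsingleton.elim (fittingSubgroup G) ⊤, index_top, Nat.dvd_one] at hdvd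
    exact hp.ne_one hdvd
  obtain ⟨M, q, hM, hq, hMq⟩ := L.exists_isMinNormal_isElementaryAbelian (G := G)
  haveI := hM.1
  by_cases h1 : p ∣ (fittingSubgroup (G ⧸ M)).index
  · refine (ih (G ⧸ M) (L.card_quotient_lt M hM.2.1) inferInstance h1).trans
      (Nat.mul_le_mul_left _ ?_)
    exact Nat.card_le_card_of_surjective _ (ConjClasses.map_surjective (QuotientGroup.mk'_surjective M))
  obtain ⟨P⟩ : Nonempty (Sylow p (G ⧸ M)) := inferInstance
  have hPF : (P : Subgroup (G ⧸ M)) ≤ fittingSubgroup _ := by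
    rw [← relIndex_eq_one]
    obtain ⟨i, hi⟩ := P.isPGroup'.index ((fittingSubgroup (G ⧸ M)).subgroupOf P)
    have h2 : (fittingSubgroup (G ⧸ M)).relIndex P ∣ _ := relIndex_dvd_index_of_normal _ _
    rw [relIndex, hi] at h2 ⊢
    rcases Nat.eq_zero_or_pos i with rfl | h3
    · rfl
    · exact absurd ((dvd_pow_self p h3.ne').trans h2) h1
  have hPc := L.le_pCore_of_le_fittingSubgroup hp P.isPGroup' hPF
  let R := (pCore p (G ⧸ M)).comap (QuotientGroup.mk' M)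
  have hR : ¬ p ∣ R.index := by
    rw [index_comap_of_surjective _ (QuotientGroup.mk'_surjective M)]
    exact fun h => P.not_dvd_index (h.trans (index_dvd_of_le hPc))
  have hRC : ¬ R ≤ centralizer (M : Set G) := by
    intro h
    have h2 : Group.IsNilpotent R := L.isNilpotent_of_map_mk'_of_le_centralizer M R h (by
      rw [map_comap_eq_self_of_surjective (QuotientGroup.mk'_surjective M)]
      exact (L.isPGroup_pCore p).isNilpotent)
    exact hR (hdvd.trans (index_dvd_of_le (L.le_fittingSubgroup inferInstance h2)))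
  obtain ⟨Z, hZn, hZR, hZC, hZZ⟩ := exists_comm_le hRC
  haveI := hMq.1
  haveI := Fact.mk hq
  have hMp := H1.pow_eq_one_of_isElementaryAbelian hMq
  let ρ := H1.autRep hMp (MulAut.conjNormal (H := M))
  have hρ : ∀ g (v : M), ρ g (H1.eaOf hMp v) = H1.eaOf hMp (MulAut.conjNormal g v) :=
    fun _ _ => rfl
  have hfix : centralizer (M : Set G) ≤ H9.fixer ρ ⊤ := fun g hg v _ => by
    obtain ⟨v, rfl⟩ := (H1.eaOf hMp).surjective v
    rw [hρ]
    congr 1
    apply Subtype.ext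
    rw [MulAut.conjNormal_apply, ← mem_centralizer_iff.1 hg v v.2, mul_inv_cancel_right]
  haveI : Nontrivial M := (Subgroup.nontrivial_iff_ne_bot M).2 hM.2.1
  haveI : Nontrivial (H1.EA M hMp) := (H1.eaOf hMp).symm.nontrivial
  obtain ⟨c, t, e, d, g, u, b1, b2, b3, b4, b5, b6, b7, b8⟩ := core ρ
    (fun v => ConjClasses.mk (((H1.eaOf hMp).symm v : M) : G)) (fun v w hvw => by
      obtain ⟨v, rfl⟩ := (H1.eaOf hMp).surjective v
      obtain ⟨w, rfl⟩ := (H1.eaOf hMp).surjective w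
      simp only [Equiv.symm_apply_apply] at hvw
      obtain ⟨g, hg⟩ := isConj_iff.1 (ConjClasses.mk_eq_mk_iff_isConj.1 hvw)
      exact ⟨g, by rw [hρ]; congr 1; exact Subtype.ext hg⟩) hp Z (hZZ.trans hfix)
    (fun z hz => by
      obtain ⟨j, hj⟩ := L.isPGroup_pCore (G := G ⧸ M) p ⟨_, hZR hz⟩
      refine ⟨j, hfix (M.le_centralizer ?_)⟩
      rw [← QuotientGroup.eq_one_iff]
      exact congrArg Subtype.val hj)
    (fun v hv => by
      obtain ⟨v, rfl⟩ := (H1.eaOf hMp).surjective v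
      rw [H1.eaOf_eq_zero]
      rcases hM.inf_eq_bot_or_le (centralizer (Z : Set G)) with h2 | h2
      · have h3 : (v : G) ∈ M ⊓ centralizer (Z : Set G) := by
          refine mem_inf.2 ⟨v.2, mem_centralizer_iff.2 fun z hz => ?_⟩
          have h4 := congrArg Subtype.val ((H1.eaOf hMp).injective ((hρ z v).symm.trans (hv z hz)))
          rw [MulAut.conjNormal_apply] at h4
          exact mul_inv_eq_iff_eq_mul.1 h4
        rw [h2] at h3
        exact Subtype.ext h3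
      · exact absurd (le_centralizer_iff.1 h2) hZC)
  refine arith hp ?_ b1 b2 b3 b4 b5 b6 b7 b8
  haveI : Nontrivial (ConjClasses G) := by
    obtain ⟨x, hx⟩ := exists_ne (1 : G)
    exact ⟨ConjClasses.mk 1, ConjClasses.mk x, fun h =>
      hx (isConj_one_right.1 (ConjClasses.mk_eq_mk_iff_isConj.1 h))⟩
  exact Finite.one_lt_card

end Cfsg.Agent.H5.KN
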