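import Cfsg.Agent.H7.ClassNum
import Cfsg.Agent.FT.B.Act

/-! Class numbers of sections: `KR A F b` says that every quotient of a subgroup `H ≤ A` by a
normal subgroup containing `H ∩ F` has at most `b` conjugacy classes. -/

set_option autoImplicit false

namespace Cfsg.Agent.H5.KRel

open Subgroup Cfsg Cfsg.Agent Cfsg.Agent.FT
open scoped commutatorElement

universe u

variable {G : Type u} [Group G]

/-- Sections of `A` modulo `F` have at most `b` classes. -/
def KR (A F : Subgroup G) (b : ℕ) : Prop :=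
  ∀ (X : Type u) [Group X] (H : Subgroup G) (f : H →* X), H ≤ A → Function.Surjective f →
    (∀ h : H, (h : G) ∈ F → f h = 1) → Nat.card (ConjClasses X) ≤ b

variable {A A' B F F' : Subgroup G} {a b : ℕ}

theorem KR.mono (h : KR A F a) (hA : A' ≤ A) (hF : A' ⊓ F ≤ F') (hb : a ≤ b) : KR A' F' b :=
  fun X _ H f h1 h2 h3 => (h X H f (h1.trans hA) h2 fun x hx => h3 x (hF ⟨h1 x.2, hx⟩)).trans hb

theorem classNum_le_of_surj {X Y : Type*} [Group X] [Group Y] [Finite X] {f : X →* Y}
    (hf : Function.Surjective f) : Nat.card (ConjClasses Y) ≤ Nat.card (ConjClasses X) := by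
  have : Finite (ConjClasses X) := Finite.of_surjective _ ConjClasses.mk_surjective
  exact Nat.card_le_card_of_surjective _ (ConjClasses.map_surjective hf)

theorem classNum_le_card (X : Type*) [Group X] [Finite X] :
    Nat.card (ConjClasses X) ≤ Nat.card X :=
  Nat.card_le_card_of_surjective _ ConjClasses.mk_surjective

theorem KR.map {G' : Type u} [Group G'] (h : KR A F a) (φ : G →* G') :
    KR (A.map φ) (F.map φ) a := by
  intro X _ H f h1 h2 h3
  let g : (H.comap φ ⊓ A : Subgroup G) →* H := (φ.subgroupComap H).comp (inclusion inf_le_left)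
  refine h X _ (f.comp g) inf_le_right (h2.comp fun y => ?_) fun x hx => h3 _ ⟨x, hx, rfl⟩
  obtain ⟨x, hx, e⟩ := h1 y.2
  exact ⟨⟨x, show φ x ∈ H from e ▸ y.2, hx⟩, Subtype.ext e⟩

theorem KR.comap {G' : Type u} [Group G'] (h : KR A F a) (φ : G' →* G) :
    KR (A.comap φ) (F.comap φ) a := by
  intro X _ H f h1 h2 h3
  have hs := φ.subgroupMap_surjective H
  have hk : (φ.subgroupMap H).ker ≤ f.ker := fun x hx => h3 x (by
    have : φ x = 1 := congrArg Subtype.val hx
    show φ x ∈ F
    rw [this]; exact F.one_mem)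
  let g := (φ.subgroupMap H).liftOfSurjective hs ⟨f, hk⟩
  have hg : ∀ x, g (φ.subgroupMap H x) = f x := fun x =>
    MonoidHom.liftOfRightInverse_comp_apply _ _ _ _ x
  refine h X _ g (map_le_iff_le_comap.2 h1) (fun y => ?_) fun x hx => ?_
  · obtain ⟨x, rfl⟩ := h2 y
    exact ⟨_, hg x⟩
  · obtain ⟨x, rfl⟩ := hs x
    rw [hg]; exact h3 x hx

variable [Finite G]

theorem KR.of_sub (h : ∀ H : Subgroup G, Nat.card (ConjClasses H) ≤ a) : KR (⊤ : Subgroup G) ⊥ a :=
  fun _ _ H _ _ h2 _ => (classNum_le_of_surj h2).trans (h H)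

theorem KR.of_relIndex (h : F.relIndex A ≤ a) : KR A F a := by
  intro X _ H f h1 h2 h3
  have : Finite X := Finite.of_surjective f h2
  refine (classNum_le_card X).trans (le_trans ?_ ((relIndex_le_of_le_right h1
    index_ne_zero_of_finite).trans h))
  have h4 : f.ker.index = Nat.card X := by
    rw [index_ker, MonoidHom.range_eq_top.2 h2, card_top]
  rw [← h4]
  exact Nat.le_of_dvd (Nat.pos_of_ne_zero index_ne_zero_of_finite)
    (index_dvd_of_le fun x hx => h3 x hx)

theorem KR.trans (h : KR A B a) (h' : KR B F b) (hn : A ≤ 𝐍(B)) : KR A F (a * b) := by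
  intro X _ H f h1 h2 h3
  have : Finite X := Finite.of_surjective f h2
  have : (B.subgroupOf H).Normal := ⟨fun x hx g => H1.conj_mem_of_le_normalizer hn (h1 g.2) hx⟩
  have : ((B.subgroupOf H).map f).Normal := Normal.map inferInstance f h2
  refine (H7.classNum_le_mul_quot ((B.subgroupOf H).map f)).trans ?_
  rw [mul_comm]
  refine Nat.mul_le_mul (h _ H ((QuotientGroup.mk' _).comp f) h1
    ((QuotientGroup.mk'_surjective _).comp h2) fun x hx =>
      (QuotientGroup.eq_one_iff _).2 ⟨x, hx, rfl⟩) ?_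
  let g : (H ⊓ B : Subgroup G) →* (B.subgroupOf H).map f :=
    (f.comp (inclusion inf_le_left)).codRestrict _ fun x => ⟨_, x.2.2, rfl⟩
  refine h' _ _ g inf_le_right ?_ fun x hx => Subtype.ext (h3 _ hx)
  rintro ⟨_, x, hx, rfl⟩
  exact ⟨⟨x, x.2, hx⟩, rfl⟩

theorem KR.inf (h : KR A F a) (h' : KR A F' b) (hn : A ≤ 𝐍(F)) : KR A (F ⊓ F') (a * b) :=
  KR.trans (B := A ⊓ F) (h.mono le_rfl le_rfl le_rfl)
    (h'.mono inf_le_left (fun _ hx => ⟨hx.1.2, hx.2⟩) le_rfl)
    (H1.le_normalizer_inf le_normalizer hn)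

theorem KR.one : KR A ⊤ 1 := KR.of_relIndex (by simp)

theorem KR.finset {ι : Type*} (s : Finset ι) (T : ι → Subgroup G) (h : ∀ i, KR A (T i) a)
    (hn : ∀ i, A ≤ 𝐍(T i)) : KR A (⨅ i ∈ s, T i) (a ^ s.card) := by
  classical
  induction s using Finset.induction_on with
  | empty => simpa using KR.one
  | insert j s hj ih =>
    rw [Finset.iInf_insert, Finset.card_insert_of_notMem hj, pow_succ']
    exact (h j).inf ih (hn j)

/-- Passing to the normal core. -/
theorem KR.core {N : Subgroup G} (h : KR N F a) (hn : N ≤ 𝐍(F)) :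
    KR N.normalCore F.normalCore (a ^ N.index) := by
  classical
  have := Fintype.ofFinite (G ⧸ N)
  have h1 := KR.finset (A := N.normalCore) Finset.univ (fun q : G ⧸ N => F ^ᵍ q.out)
    (fun q => (h.map (MulAut.conj q.out).toMonoidHom).mono (fun x hx =>
      ⟨q.out⁻¹ * x * q.out, by simpa using hx q.out⁻¹, by simp [mul_assoc]⟩) inf_le_right le_rfl)
    fun q x hx => by
      have := conj_le_norm_iff (g := q.out).2 hn
      exact this ⟨q.out⁻¹ * x * q.out, by simpa using hx q.out⁻¹, by simp [mul_assoc]⟩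
  rw [Finset.card_univ, ← Nat.card_eq_fintype_card] at h1
  refine h1.mono le_rfl (fun x hx g => ?_) le_rfl
  have h2 := (mem_iInf.1 ((mem_iInf.1 hx.2) ((g⁻¹ : G) : G ⧸ N))) (Finset.mem_univ _)
  obtain ⟨m, hm⟩ := QuotientGroup.mk_out_eq_mul N (g⁻¹ : G)
  rw [hm] at h2
  obtain ⟨y, hy, rfl⟩ := mem_conj'.1 h2
  have := H1.conj_mem_of_le_normalizer hn m.2 hy
  simpa [mul_assoc] using this

omit [Finite G] in
/-- `F` is nilpotent modulo `J`. -/
def NM (F J : Subgroup G) : Prop := ∃ n, F.lowerCentralSeries n ≤ J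

omit [Finite G] in
theorem NM.inf {J J' : Subgroup G} (h : NM F J) (h' : NM F' J') : NM (F ⊓ F') (J ⊓ J') := by
  obtain ⟨n, h⟩ := h
  obtain ⟨m, h'⟩ := h'
  exact ⟨max n m, le_inf
    ((Subgroup.lowerCentralSeries_antitone _ (le_max_left n m)).trans
      ((lowerCentralSeries_mono n inf_le_left).trans h))
    ((Subgroup.lowerCentralSeries_antitone _ (le_max_right n m)).trans
      ((lowerCentralSeries_mono m inf_le_right).trans h'))⟩

omit [Finite G] in
theorem lcs_normal (F : Subgroup G) [F.Normal] (n : ℕ) : (F.lowerCentralSeries n).Normal := by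
  induction n with
  | zero => assumption
  | succ n ih => rw [Subgroup.lowerCentralSeries_succ]; infer_instance

omit [Finite G] in
theorem NM.core {J : Subgroup G} (h : NM F J) : NM F.normalCore J.normalCore := by
  obtain ⟨n, h⟩ := h
  have := lcs_normal F.normalCore n
  exact ⟨n, normal_le_normalCore.2 ((lowerCentralSeries_mono n (normalCore_le F)).trans h)⟩

omit [Finite G] in
theorem NM.map {G' : Type u} [Group G'] {J : Subgroup G} (h : NM F J) (φ : G →* G') :
    NM (F.map φ) (J.map φ) := by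
  obtain ⟨n, h⟩ := h
  exact ⟨n, by rw [← map_lowerCentralSeries]; exact map_mono h⟩

omit [Finite G] in
theorem NM.comap {G' : Type u} [Group G'] {J : Subgroup G} (h : NM F J) (φ : G' →* G) :
    NM (F.comap φ) (J.comap φ) := by
  obtain ⟨n, h⟩ := h
  refine ⟨n, map_le_iff_le_comap.1 ?_⟩
  rw [map_lowerCentralSeries]
  exact (lowerCentralSeries_mono n (map_comap_le _ _)).trans h

end Cfsg.Agent.H5.KRel
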