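import Cfsg.Agent.H5.KR1
import Cfsg.Agent.H5.Irr4
import Cfsg.Agent.H7.Hk1
import Cfsg.Agent.H9.Tree4

/-! Class numbers of subgroups of `GL₂(q)` and of irreducible solvable subgroups of `GL₄(2)`. -/

set_option autoImplicit false

namespace Cfsg.Agent.H5.KRel

open Subgroup Cfsg Cfsg.Agent Cfsg.Agent.FT

variable {G V : Type*} [Group G] [Finite G]

/-- Few elements have large centralizers. -/
theorem classNum_mul_le (S : Set G) {s c : ℕ} (hS : S.ncard ≤ s)
    (hc : ∀ x ∉ S, Nat.card (centralizer {x} : Subgroup G) ≤ c) :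
    Nat.card (ConjClasses G) * Nat.card G + S.ncard * c ≤ (s + c) * Nat.card G := by
  classical
  have := Fintype.ofFinite G
  rw [H7.classNum_mul_card, ← Finset.sum_filter_add_sum_filter_not Finset.univ (· ∈ S)]
  have h0 : (Finset.univ.filter (· ∈ S)).card = S.ncard := by
    rw [← Set.ncard_coe_finset]; congr 1; ext; simp
  have h1 : ∑ x ∈ Finset.univ.filter (· ∈ S), Nat.card (centralizer {x} : Subgroup G) ≤
      S.ncard * Nat.card G := by
    rw [← h0, ← smul_eq_mul]
    exact Finset.sum_le_card_nsmul _ _ _ fun x _ => card_le_card_group _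
  have h2 : ∑ x ∈ Finset.univ.filter (· ∉ S), Nat.card (centralizer {x} : Subgroup G) ≤
      (Finset.univ.filter (· ∉ S)).card * c := by
    rw [← smul_eq_mul]
    exact Finset.sum_le_card_nsmul _ _ _ fun x hx => hc x (Finset.mem_filter.1 hx).2
  have h3 := Finset.card_filter_add_card_filter_not (s := Finset.univ) (· ∈ S)
  rw [h0, Finset.card_univ, ← Nat.card_eq_fintype_card] at h3
  have h4 := Nat.mul_le_mul_right (Nat.card G) hS
  have h5 := congrArg (· * c) h3
  simp only [add_mul] at h5 ⊢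
  rw [mul_comm c]
  omega

theorem gl2 [Group V] {q : ℕ} (hq : q.Prime) {φ : G →* MulAut V} (hφ : Function.Injective φ)
    (hc : IsMulCommutative V) (he : ∀ v : V, v ^ q = 1) (hV : Nat.card V = q ^ 2) :
    Nat.card (ConjClasses G) + 3 ≤ q ^ 2 + q := by
  have := Fact.mk hq
  have h1 : 1 < q ^ 2 := Nat.one_lt_pow two_ne_zero hq.one_lt
  have : Finite V := Nat.finite_of_card_ne_zero (by omega)
  have : Nontrivial V := Finite.one_lt_card_iff_nontrivial.1 (by omega)
  letI : CommGroup V := { (inferInstance : Group V) with mul_comm := hc.is_comm.comm }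
  have ho : ∀ v : V, v ≠ 1 → orderOf v = q := fun v hv => orderOf_eq_prime (he v) hv
  have hz : ∀ {v : V} (w : V) {a b : ℤ}, v ≠ 1 → v ^ a = v ^ b → w ^ a = w ^ b := by
    intro v w a b hv h
    rw [zpow_eq_zpow_iff_modEq] at h ⊢
    exact h.of_dvd (by rw [ho v hv]; exact_mod_cast orderOf_dvd_of_pow_eq_one (he w))
  have hdis : ∀ v w : V, w ∉ zpowers v → zpowers w ⊓ zpowers v = ⊥ := fun v w hw => by
    have hw1 : w ≠ 1 := fun e => hw (e ▸ one_mem _)
    have : Fact (Nat.card (zpowers w)).Prime := ⟨by rw [Nat.card_zpowers, ho w hw1]; exact hq⟩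
    rcases ((zpowers v).subgroupOf (zpowers w)).eq_bot_or_eq_top_of_prime_card with h | h
    · exact (subgroupOf_eq_bot.1 h).symm.eq_bot
    · exact absurd (subgroupOf_eq_top.1 h (mem_zpowers w)) hw
  obtain ⟨v0, hv0⟩ := exists_ne (1 : V)
  let S : Set G := {x | ∀ v, φ x v ∈ zpowers v}
  have hsc : ∀ x ∈ S, ∃ c : ℤ, ∀ w, φ x w = w ^ c := fun x hx => by
    obtain ⟨c, hc⟩ := mem_zpowers_iff.1 (hx v0)
    refine ⟨c, fun w => ?_⟩
    by_cases hw : w ∈ zpowers v0
    · obtain ⟨n, rfl⟩ := mem_zpowers_iff.1 hw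
      rw [map_zpow, ← hc, ← zpow_mul, ← zpow_mul, mul_comm]
    · obtain ⟨a, ha⟩ := mem_zpowers_iff.1 (hx w)
      obtain ⟨e, he⟩ := mem_zpowers_iff.1 (hx (v0 * w))
      rw [map_mul, ← hc, ← ha, mul_zpow] at he
      have h2 : w ^ e * (w ^ a)⁻¹ = v0 ^ c * (v0 ^ e)⁻¹ := by
        rw [mul_inv_eq_iff_eq_mul, mul_right_comm, ← he, mul_comm (v0 ^ e), mul_inv_cancel_right]
      have h3 : w ^ e * (w ^ a)⁻¹ ∈ zpowers w ⊓ zpowers v0 :=
        mem_inf.2 ⟨mul_mem (zpow_mem_zpowers _ _) (inv_mem (zpow_mem_zpowers _ _)),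
          h2 ▸ mul_mem (zpow_mem_zpowers _ _) (inv_mem (zpow_mem_zpowers _ _))⟩
      rw [hdis v0 w hw, mem_bot] at h3
      rw [← ha, ← mul_inv_eq_one.1 h3]
      exact (hz w hv0 (mul_inv_eq_one.1 (h2 ▸ h3))).symm
  have hS : S.ncard < q := by
    have := H7.Hk.card_lt_of_notMem (fun x : S => (⟨φ x v0, x.2 v0⟩ : zpowers v0)) (fun x y h => by
      obtain ⟨c, hc⟩ := hsc x x.2
      obtain ⟨d, hd⟩ := hsc y y.2
      have h2 : φ x v0 = φ y v0 := congrArg Subtype.val h
      refine Subtype.ext (hφ (MulEquiv.ext fun w => ?_))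
      rw [hc, hd] at h2 ⊢
      exact hz w hv0 h2) (b := 1) fun x h =>
        hv0 ((map_eq_one_iff _ (φ x).injective).1 (congrArg Subtype.val h))
    rwa [Nat.card_zpowers, ho v0 hv0] at this
  have hS1 : 0 < S.ncard := (Set.ncard_pos (Set.toFinite _)).2 ⟨1, fun v => by simp⟩
  have key := classNum_mul_le S (s := q - 1) (c := q ^ 2 - 1) (by omega) fun x hx => by
    obtain ⟨v, hv⟩ := not_forall.1 hx
    have hv1 : v ≠ 1 := fun e => hv (by rw [e, map_one]; exact one_mem _)
    have hU : zpowers (φ x v) ⊔ zpowers v = ⊤ := by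
      have := L.card_mul_card_eq_card_sup_mul_card_inf (zpowers (φ x v)) (zpowers v)
        le_normalizer_of_normal
      rw [hdis v _ hv, card_bot, mul_one, Nat.card_zpowers, Nat.card_zpowers, ho v hv1,
        ho (φ x v) fun e => hv (by rw [e]; exact one_mem _), ← sq, ← hV] at this
      exact (card_eq_iff_eq_top _).1 this.symm
    refine Nat.le_sub_one_of_lt (hV ▸ H7.Hk.card_lt_of_notMem
      (fun y : (centralizer {x} : Subgroup G) => φ y v) (fun y y' h => ?_) (b := 1) fun y h =>
        hv1 ((map_eq_one_iff _ (φ y).injective).1 h))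
    have h2 : φ y v = φ y' v := h
    have h3 : ∀ y : (centralizer {x} : Subgroup G), φ y (φ x v) = φ x (φ y v) := fun y => by
      rw [← MulAut.mul_apply, ← MulAut.mul_apply, ← map_mul, ← map_mul, y.2 x rfl]
    have h4 : (⊤ : Subgroup V) ≤ (φ y).toMonoidHom.eqLocus (φ y').toMonoidHom :=
      hU ▸ sup_le (zpowers_le.2 (show φ y _ = φ y' _ by rw [h3, h3, h2])) (zpowers_le.2 h2)
    exact Subtype.ext (hφ (MulEquiv.ext fun w => h4 (mem_top w)))
  have h6 : 0 < S.ncard * (q ^ 2 - 1) := Nat.mul_pos hS1 (by omega)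
  have h7 := Nat.lt_of_mul_lt_mul_right (lt_of_lt_of_le (Nat.lt_add_of_pos_right h6) key)
  have := hq.two_le
  omega

theorem sixteen [Group V] [Group.IsSolvable G] {φ : G →* MulAut V}
    (hφ : Function.Injective φ) (hi : IrrAct φ) (hc : IsMulCommutative V) (h2 : ∀ v : V, v ^ 2 = 1)
    (h16 : Nat.card V = 16) (H : Subgroup G) : Nat.card (ConjClasses H) ≤ 27 := by
  have : Finite V := Nat.finite_of_card_ne_zero (by omega)
  have : Nontrivial V := Finite.one_lt_card_iff_nontrivial.1 (by omega)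
  rcases irr16_cases hφ hi hc h2 h16 with h | ⟨P, hP, h5, h3, h4⟩
  · letI : MulAction G V := MulAction.compHom V φ
    have hs : ∀ (g : G) (v : V), g • v = φ g v := fun _ _ => rfl
    have hne : ∀ v : V, v ≠ 1 → MulAction.orbit G v ⊆ {1}ᶜ := by
      rintro v hv _ ⟨g, rfl⟩ e
      exact hv ((map_eq_one_iff _ (φ g).injective).1 e)
    have h15 : ({1}ᶜ : Set V).ncard = 15 := by
      have := Set.ncard_add_ncard_compl ({1} : Set V)
      rw [Set.ncard_singleton, h16] at this
      omega
    obtain ⟨v, hv, h7⟩ : ∃ v : V, v ≠ 1 ∧ (MulAction.orbit G v).ncard ≤ 7 := by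
      obtain ⟨v, hv⟩ := exists_ne (1 : V)
      by_cases h7 : (MulAction.orbit G v).ncard ≤ 7
      · exact ⟨v, hv, h7⟩
      have h8 : (MulAction.orbit G v).ncard ∣ 144 := by
        rw [← MulAction.index_stabilizer]; exact (index_dvd_card _).trans h
      obtain ⟨w, hw, hw'⟩ : ∃ w ∈ ({1}ᶜ : Set V), w ∉ MulAction.orbit G v := by
        by_contra hc
        push Not at hc
        rw [Set.Subset.antisymm (hne v hv) hc, h15] at h8
        omega
      refine ⟨w, hw, ?_⟩
      have h9 : MulAction.orbit G w ⊆ {1}ᶜ \ MulAction.orbit G v := fun u hu =>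
        ⟨hne w hw hu, fun hu' => hw' (by
          rw [← MulAction.orbit_eq_iff.2 hu']
          exact MulAction.mem_orbit_symm.1 hu)⟩
      have h10 := Set.ncard_le_ncard h9
      rw [Set.ncard_diff (hne v hv), h15] at h10
      omega
    have : FaithfulSMul H (MulAction.orbit G v) := ⟨fun {a b} hab => by
      let K : Subgroup G := (MulAction.toPermHom G (MulAction.orbit G v)).ker
      have hK : K = ⊥ := by
        by_contra hK
        have h1 : v ∈ fixS φ K := fun g hg => congrArg Subtype.val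
          (DFunLike.congr_fun (MonoidHom.mem_ker.1 hg)
            (⟨v, MulAction.mem_orbit_self v⟩ : MulAction.orbit G v))
        rw [hi.fixS_eq_bot hφ hK] at h1
        exact hv h1
      exact Subtype.ext ((MonoidHom.ker_eq_bot_iff _).1 hK (Equiv.ext hab))⟩
    rw [← Nat.card_coe_set_eq] at h7
    by_cases h3 : 3 ≤ Nat.card (MulAction.orbit G v)
    · have h4 := (H9Tree.classNum_sq_le (G := H) (Or.inr inferInstance) h3).trans
        (Nat.pow_le_pow_right (by norm_num) (show _ ≤ 6 by omega))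
      nlinarith
    · have h4 := (H9Tree.classNum_mul_le H (MulAction.orbit G v)).trans
        (Nat.pow_le_pow_right (by norm_num) (show _ ≤ 2 by omega))
      have := Nat.le_mul_of_pos_right (Nat.card (ConjClasses H)) (Nat.two_pow_pos
        (H9Tree.orbs (MulAction.orbit G v) (⊤ : Subgroup H)).ncard)
      omega
  · set C := centralizer (P : Set G) with hC
    have : Fact (Nat.card P).Prime := ⟨h5 ▸ Nat.prime_five⟩
    have hPC : P ≤ C := by
      have : IsCyclic P := isCyclic_of_prime_card (p := Nat.card P) rfl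
      exact le_centralizer_iff_isMulCommutative.2 inferInstance
    have key := classNum_mul_le (G := H) (C.subgroupOf H) (s := 15) (c := 12) (by
      rw [← Nat.card_coe_set_eq]
      exact (Nat.card_le_card_of_injective (fun x : C.subgroupOf H => (⟨x, x.2⟩ : C))
        fun a b e => Subtype.ext (Subtype.ext (Subtype.mk.inj e))).trans h3) fun x hx => by
      have h6 : Nat.card (centralizer {x} : Subgroup H) ≤ Nat.card (centralizer {(x : G)} : Subgroup G) :=
        Nat.card_le_card_of_injective (fun y => ⟨y, by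
          rintro _ rfl; exact congrArg Subtype.val (y.2 x rfl)⟩)
          fun a b e => Subtype.ext (Subtype.ext (Subtype.mk.inj e))
      have h7 := H7.card_le_index_mul_card_inf C (centralizer {(x : G)})
      have h8 : C ⊓ centralizer {(x : G)} ⊓ P = ⊥ := by
        rcases ((centralizer {(x : G)}).subgroupOf P).eq_bot_or_eq_top_of_prime_card with h | h
        · rw [inf_assoc, (subgroupOf_eq_bot.1 h).eq_bot, inf_bot_eq]
        · exact absurd (fun y hy => (subgroupOf_eq_top.1 h hy x rfl).symm) hx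
      have h9 := L.card_mul_card_eq_card_sup_mul_card_inf (C ⊓ centralizer {(x : G)}) P
        le_normalizer_of_normal
      have h10 := card_le_of_le (sup_le (inf_le_left (b := centralizer {(x : G)})) hPC)
      rw [h8, card_bot, h5] at h9
      have h11 := Nat.mul_le_mul (Nat.le_of_dvd (by norm_num) h4)
        (show Nat.card (C ⊓ centralizer {(x : G)} : Subgroup G) ≤ 3 by omega)
      omega
    exact Nat.le_of_mul_le_mul_right ((Nat.le_add_right _ _).trans key) Nat.card_pos

end Cfsg.Agent.H5.KRel
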