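import Cfsg.Agent.H5.KR2
import Cfsg.Agent.H5.Dixon
import Cfsg.Agent.H7.Hk3

/-! Blocks, and order bounds for small irreducible solvable linear groups. -/

set_option autoImplicit false

namespace Cfsg.Agent.H5.KRel

open Subgroup Cfsg Cfsg.Agent Cfsg.Agent.FT Module Cfsg.Agent.H7.Hk
open Cfsg.Agent.H9 (fixer mem_fixer rep_mul_apply rep_inv_apply rep_apply_inv)
open Cfsg.Agent.H2.Hk (el)
open scoped commutatorElement TensorProduct

universe u

/-- Every abelian normal subgroup acts fixed point freely. -/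
def Fpf {Γ k U : Type*} [Group Γ] [Field k] [AddCommGroup U] [Module k U] (σ : Γ →* End k U) :
    Prop := ∀ A : Subgroup Γ, A.Normal → A ≤ 𝐂(A) → ∀ d ∈ A, ∀ u, u ≠ 0 → σ d u = u → d = 1

theorem blocks {k : Type*} [Field k] {H : Type u} {V : Type*} [Group H] [Finite H]
    [AddCommGroup V] [Module k V] [FiniteDimensional k V] [Nontrivial V] (ρ : H →* End k V)
    (irr : ∀ W : Submodule k V, (∀ h, ∀ w ∈ W, ρ h w ∈ W) → W = ⊥ ∨ W = ⊤) :
    ∃ (N : Subgroup H) (Γ : Type u) (_ : Group Γ) (_ : Finite Γ) (π : N →* Γ) (W : Submodule k V)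
      (σ : Γ →* End k W), Function.Surjective π ∧ W ≠ ⊥ ∧ N.index * finrank k W ≤ finrank k V ∧
      (π.ker.map N.subtype).normalCore ≤ ρ.ker ∧ Fpf σ := by
  obtain ⟨W, W0, hW, h⟩ := exists_block ρ
  let N := stab ρ W
  let τ : N →* End k W :=
    { toFun := fun g => (ρ g).restrict fun v hv => (g.2 v).1 hv
      map_one' := by ext w; simp
      map_mul' := fun a b => by ext w; exact rep_mul_apply ρ a b w }
  let π := QuotientGroup.mk' τ.ker
  have hπ : ∀ g : N, π g = 1 ↔ (g : H) ∈ fixer ρ W := fun g =>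
    (QuotientGroup.eq_one_iff g).trans ⟨fun e v hv => congrArg Subtype.val (LinearMap.congr_fun
      (MonoidHom.mem_ker.1 e) ⟨v, hv⟩),
    fun e => MonoidHom.mem_ker.2 (LinearMap.ext fun w => Subtype.ext (e w w.2))⟩
  have hs : Function.Surjective π := QuotientGroup.mk'_surjective _
  refine ⟨N, _, inferInstance, inferInstance, π, W, QuotientGroup.lift _ τ le_rfl, hs, W0, hW,
    fun g hg => ?_, fun A hA hc d hd u u0 e => ?_⟩
  · let U : Submodule k V :=
      { carrier := {v | ∀ x ∈ (π.ker.map N.subtype).normalCore, ρ x v = v}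
        zero_mem' := by simp
        add_mem' := fun ha hb x hx => by rw [map_add, ha x hx, hb x hx]
        smul_mem' := fun c _ ha x hx => by rw [map_smul, ha x hx] }
    have h1 : W ≤ U := fun w hw x hx => by
      obtain ⟨y, hy, rfl⟩ := normalCore_le _ hx
      exact (hπ y).1 hy w hw
    have h2 := (irr U fun a v hv x hx => by
      have := hv _ (Normal.conj_mem' inferInstance x hx a)
      rw [rep_mul_apply, rep_mul_apply] at this
      rw [← rep_apply_inv ρ a (ρ x _), this]).resolve_left fun e => W0 (eq_bot_iff.2 (e ▸ h1))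
    exact MonoidHom.mem_ker.2 (LinearMap.ext fun v => (h2.ge Submodule.mem_top : v ∈ U) g hg)
  · obtain ⟨g, rfl⟩ := hs d
    refine (hπ g).2 (h ((A.comap π).map N.subtype) (map_subtype_le _)
      (fun x hx => mem_norm_of_conj_le ?_) (commutator_le.2 ?_) g (mem_map_of_mem _ hd) u u.2
      (fun e => u0 (Subtype.ext e)) (congrArg Subtype.val e))
    · intro y hy
      obtain ⟨_, ⟨a, ha, rfl⟩, rfl⟩ := mem_conj'.1 hy
      exact ⟨⟨x, hx⟩ * a * ⟨x, hx⟩⁻¹, (hA.comap π).conj_mem a ha _, rfl⟩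
    · rintro _ ⟨a, ha, rfl⟩ _ ⟨b, hb, rfl⟩
      refine (hπ ⁅a, b⁆).1 ?_
      rw [map_commutatorElement, commutatorElement_eq_one_iff_mul_comm]
      exact mem_cent.1 (hc hb) _ ha

theorem galois {p : ℕ} [hp : Fact p.Prime] {U F : Type*} [AddCommGroup U] [Module (ZMod p) U]
    [Finite U] [Field F] [Algebra (ZMod p) F] (T : End (ZMod p) U) (l : F) {e : ℕ} (he : 1 ≤ e)
    (h : e ≤ finrank F (End.eigenspace (T.baseChange F) l)) :
    ∃ s, 1 ≤ s ∧ s * e ≤ finrank (ZMod p) U ∧ l ^ p ^ s = l := by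
  classical
  have : CharP F p := charP_of_injective_algebraMap (algebraMap (ZMod p) F).injective p
  set P := T.charpoly.map (algebraMap (ZMod p) F) with hP
  have h1 : ∀ i, e ≤ P.roots.count (l ^ p ^ i) := fun i => by
    have h2 := h.trans (LinearMap.finrank_eigenspace_le _ l)
    rw [LinearMap.charpoly_baseChange, ← hP,
      Polynomial.eq_rootMultiplicity_map (iterateFrobenius F p i).injective, hP, Polynomial.map_map,
      RingHom.ext_zmod ((iterateFrobenius F p i).comp _) (algebraMap (ZMod p) F)] at h2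
    rw [Polynomial.count_roots]
    exact h2
  have h3 : P.roots.card ≤ finrank (ZMod p) U := by
    refine (Polynomial.card_roots' P).trans ?_
    rw [hP, Polynomial.natDegree_map, LinearMap.charpoly_natDegree]
  set m := finrank (ZMod p) U
  have h4 : ¬ Set.InjOn (fun i => l ^ p ^ i) (Finset.range (m / e + 1) : Set ℕ) := fun hi => by
    have h5 : e • ((Finset.range (m / e + 1)).image fun i => l ^ p ^ i).val ≤ P.roots := by
      rw [Multiset.le_iff_count]
      intro a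
      rw [Multiset.count_nsmul]
      by_cases ha : a ∈ (Finset.range (m / e + 1)).image fun i => l ^ p ^ i
      · rw [Multiset.count_eq_one_of_mem (Finset.nodup _) ha, mul_one]
        obtain ⟨i, -, rfl⟩ := Finset.mem_image.1 ha
        exact h1 i
      · rw [Multiset.count_eq_zero_of_notMem ha]; simp
    have h6 := (Multiset.card_le_card h5).trans h3
    rw [Multiset.card_nsmul, Finset.card_val, Finset.card_image_of_injOn hi, Finset.card_range]
      at h6
    have := Nat.lt_mul_div_succ m he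
    omega
  have key : ∀ i j, i < j → j ≤ m / e → l ^ p ^ i = l ^ p ^ j →
      ∃ s, 1 ≤ s ∧ s * e ≤ m ∧ l ^ p ^ s = l := fun i j hij hj e1 => by
    refine ⟨j - i, by omega, (Nat.mul_le_mul_right e (by omega : j - i ≤ m / e)).trans
      (Nat.div_mul_le_self m e), (iterateFrobenius F p i).injective ?_⟩
    rw [iterateFrobenius_def, iterateFrobenius_def, ← pow_mul, ← pow_add, e1]
    congr 2; omega
  simp only [Set.InjOn, Finset.coe_range, Set.mem_Iio, not_forall] at h4
  obtain ⟨i, hi, j, hj, e1, hne⟩ := h4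
  rcases lt_or_gt_of_ne hne with h' | h'
  · exact key i j h' (by omega) e1
  · exact key j i h' (by omega) e1.symm

theorem wt2 {p : ℕ} [hp : Fact p.Prime] {Γ U : Type*} [Group Γ] [Finite Γ] [AddCommGroup U]
    [Module (ZMod p) U] [Finite U] [Nontrivial U] (σ : Γ →* End (ZMod p) U) {D X : Subgroup Γ}
    [IsCyclic D] (fpf : ∀ d ∈ D, ∀ u, u ≠ 0 → σ d u = u → d = 1) (DX : D ≤ X) (XC : X ≤ 𝐂(D))
    (XX : ⁅X, X⁆ ≤ D) (XZ : ∀ x ∈ X, x ∈ 𝐂(X) → x ∈ D) {E : ℕ} (hE : D.relIndex X = E ^ 2) :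
    ∃ s, s * E ≤ finrank (ZMod p) U ∧ Nat.card D < p ^ s := by
  let F := AlgebraicClosure (ZMod p)
  let σ' : Γ →* End F (F ⊗[ZMod p] U) := (End.baseChangeHom (ZMod p) F U).toMonoidHom.comp σ
  have hfr : finrank F (F ⊗[ZMod p] U) = finrank (ZMod p) U := Module.finrank_baseChange
  haveI : Nontrivial (F ⊗[ZMod p] U) := by
    rw [← finrank_pos_iff (R := F), hfr]
    exact finrank_pos
  have fpf' : ∀ d ∈ D, ∀ w, w ≠ 0 → σ' d w = w → d = 1 := by
    intro d hd w hw h
    by_contra hd1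
    have h1 : IsUnit (σ d - 1) := by
      rw [LinearMap.isUnit_iff_ker_eq_bot, eq_bot_iff]
      intro u hu
      by_contra hu0
      exact hd1 (fpf d hd u hu0 (by simpa [sub_eq_zero] using hu))
    have h2 := h1.map (End.baseChangeHom (ZMod p) F U)
    rw [map_sub, map_one, LinearMap.isUnit_iff_ker_eq_bot, eq_bot_iff] at h2
    exact hw (h2 (show End.baseChangeHom (ZMod p) F U (σ d) w - w = 0 from sub_eq_zero.2 h))
  obtain ⟨d, hd⟩ := IsCyclic.exists_generator (α := D)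
  obtain ⟨l, hl⟩ := End.exists_eigenvalue (σ' d)
  let W := End.eigenspace (σ' d) l
  have : Nontrivial W := Submodule.nontrivial_iff_ne_bot.2 hl
  have hW : ∀ x : X, ∀ w ∈ W, σ' x w ∈ W := fun x w hw => by
    rw [End.mem_eigenspace_iff] at hw ⊢
    rw [← rep_mul_apply, mem_cent.1 (XC x.2) d d.2, rep_mul_apply, hw, map_smul]
  let τ : X →* End F W :=
    { toFun := fun g => (σ' g).restrict (hW g)
      map_one' := by ext w; simp
      map_mul' := fun a b => by ext w; exact rep_mul_apply σ' a b w }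
  have hc : (⊤ : Subgroup X) ≤ 𝐂(D.subgroupOf X) := fun x _ y hy =>
    Subtype.ext (mem_cent.1 (XC x.2) y hy)
  have : (D.subgroupOf X).Normal := normal_subgroupOf_of_comm_le XX
  obtain ⟨e, e1, e2, e3, -⟩ := wt τ (D.subgroupOf X) (le_top.trans hc) fun x hx (w : W) w0 e =>
    Subtype.ext (fpf' x hx w.1 (fun h => w0 (Subtype.ext h)) (congrArg Subtype.val e))
  have e4 := e3 ⊤ hc (commutator_le.2 fun a _ b _ => XX (commutator_mem_commutator a.2 b.2))
    fun x _ hx => XZ x x.2 fun y hy => congrArg Subtype.val (mem_cent.1 hx ⟨y, hy⟩ (mem_top _))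
  rw [relIndex_top_right, ← relIndex, hE, Nat.pow_le_pow_iff_left two_ne_zero] at e4
  obtain ⟨s, s1, s2, s3⟩ := galois (σ d) l e1
    ((Nat.le_mul_of_pos_left e (Nat.pos_of_ne_zero index_ne_zero_of_finite)).trans e2)
  refine ⟨s, (Nat.mul_le_mul_left s e4).trans s2, ?_⟩
  obtain ⟨w, hw⟩ := hl.exists_hasEigenvector
  have l0 : l ≠ 0 := fun e => hw.2 (H9.rep_eq_zero σ' d (by rw [hw.apply_eq_smul, e, zero_smul]))
  have p1 : 1 < p ^ s := Nat.one_lt_pow (by omega) hp.out.one_lt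
  have h1 : l ^ (p ^ s - 1) = 1 := mul_right_cancel₀ l0 (by
    rw [← pow_succ, Nat.sub_add_cancel p1.le, s3, one_mul])
  have h2 : d ^ (p ^ s - 1) = 1 := Subtype.ext (fpf' _ (d ^ (p ^ s - 1)).2 w hw.2 (by
    rw [Subgroup.coe_pow, map_pow, hw.pow_apply, h1, one_smul]))
  have h3 := Nat.le_of_dvd (by omega) (orderOf_dvd_of_pow_eq_one h2)
  rw [orderOf_eq_card_of_forall_mem_zpowers hd] at h3
  omega

theorem prime_dvd_card {Γ : Type*} [Group Γ] [Finite Γ] {D X : Subgroup Γ} (XC : X ≤ 𝐂(D))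
    (XX : ⁅X, X⁆ ≤ D) (XZ : ∀ x ∈ X, x ∈ 𝐂(X) → x ∈ D) {q : ℕ} (hq : q.Prime)
    (h : q ∣ D.relIndex X) : ∃ d ∈ D, d ≠ 1 ∧ d ^ q = 1 := by
  have := Fact.mk hq
  have : (D.subgroupOf X).Normal := normal_subgroupOf_of_comm_le XX
  obtain ⟨x, hx⟩ := exists_prime_orderOf_dvd_card' (G := X ⧸ D.subgroupOf X) q h
  obtain ⟨x, rfl⟩ := QuotientGroup.mk_surjective x
  have h1 : (x : Γ) ^ q ∈ D := by
    have := pow_orderOf_eq_one (x : X ⧸ D.subgroupOf X)
    rwa [hx, ← QuotientGroup.mk_pow, QuotientGroup.eq_one_iff] at this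
  have h2 : (x : Γ) ∉ 𝐂(X) := fun e => by
    rw [(QuotientGroup.eq_one_iff x).2 (XZ x x.2 e), orderOf_one] at hx
    exact hq.ne_one hx.symm
  rw [mem_cent] at h2
  push Not at h2
  obtain ⟨y, hy, h3⟩ := h2
  have h4 := XX (commutator_mem_commutator x.2 hy)
  refine ⟨_, h4, fun e => h3 (commutatorElement_eq_one_iff_mul_comm.1 e).symm, ?_⟩
  rw [← H1.commutatorElement_pow_left_of_central (mem_cent.1 (XC x.2) _ h4).symm,
    commutatorElement_eq_one_iff_mul_comm]
  exact mem_cent.1 (XC hy) _ h1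

theorem prim_data {p : ℕ} [hp : Fact p.Prime] {Γ U : Type*} [Group Γ] [Finite Γ]
    [Group.IsSolvable Γ] [AddCommGroup U] [Module (ZMod p) U] [Finite U] [Nontrivial U]
    {σ : Γ →* End (ZMod p) U} (h : Fpf σ) : ∃ t E s, t * E ≤ finrank (ZMod p) U ∧
      s * E ≤ finrank (ZMod p) U ∧ 1 ≤ E ∧ Nat.card Γ ≤ t * el E * (p ^ s - 1) ∧
      ∀ q, q.Prime → q ∣ E → q ≠ p ∧ q < p ^ s := by
  obtain ⟨D, e, hD⟩ := exists_wt σ h
  have := hD.normal
  have := hD.cyc
  obtain ⟨X, E, hX, DX, XC, XX, XZ, iX, iC, -⟩ := recur (fun a b c d e f g => irr4 a b c d e f g)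
    hD.max 𝐂(D) inferInstance hD.comm le_rfl
  obtain ⟨s, s1, s2⟩ := wt2 σ (h D hD.normal hD.comm) DX XC XX XZ iX
  have hE : E ≤ e := (Nat.pow_le_pow_iff_left two_ne_zero).1 (iX ▸ hD.sq X XC XX XZ)
  refine ⟨𝐂(D).index, E, s, (Nat.mul_le_mul_left _ hE).trans hD.dim, s1,
    Nat.pos_of_ne_zero fun e => FiniteIndex.index_ne_zero (iX.trans (by rw [e]; rfl)), ?_,
    fun q hq hqE => ?_⟩
  · rw [← D.card_mul_index, ← relIndex_mul_index hD.comm, mul_comm, mul_comm (D.relIndex _)]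
    exact Nat.mul_le_mul (Nat.mul_le_mul_left _ iC) (by omega)
  · obtain ⟨d, hd, d1, dq⟩ := prime_dvd_card XC XX XZ hq (iX ▸ Dvd.dvd.pow hqE two_ne_zero)
    have := Fact.mk hq
    refine ⟨fun e => d1 (hD.cop d hd (e ▸ dq)), lt_of_le_of_lt (Nat.le_of_dvd Nat.card_pos ?_) s2⟩
    rw [← orderOf_eq_prime dq d1]
    exact orderOf_dvd_card_of_mem hd

end Cfsg.Agent.H5.KRel
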