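import Cfsg.Agent.H5.KR3
import Cfsg.Agent.H1.EAMod

/-! Class numbers of sections of solvable groups acting on a symplectic chief factor. -/

set_option autoImplicit false

namespace Cfsg.Agent.H5.KRel

open Subgroup Cfsg Cfsg.Agent Cfsg.Agent.FT Module Cfsg.Agent.H7.Hk
open Cfsg.Agent.H2.Hk (el)
open scoped commutatorElement

universe u

theorem card_le_blocks {G V : Type u} [Group G] [Finite G] [Group.IsSolvable G] [Group V]
    {φ : G →* MulAut V} (hφ : Function.Injective φ) (hi : IrrAct φ) (hc : IsMulCommutative V)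
    {p n : ℕ} (hp : p.Prime) (he : ∀ v : V, v ^ p = 1) (hV : Nat.card V = p ^ n) (hn : 1 ≤ n) :
    ∃ t m a E s, 1 ≤ t ∧ 1 ≤ m ∧ t * m ≤ n ∧ a * E ≤ m ∧ s * E ≤ m ∧ 1 ≤ E ∧
      (∀ q, q.Prime → q ∣ E → q ≠ p ∧ q < p ^ s) ∧
      Nat.card G ≤ t.factorial * (a * el E * (p ^ s - 1)) ^ t := by
  have := Fact.mk hp
  have h1 : 1 < p ^ n := Nat.one_lt_pow (by omega) hp.one_lt
  have : Finite V := Nat.finite_of_card_ne_zero (by omega)
  letI : CommGroup V := { (inferInstance : Group V) with mul_comm := hc.is_comm.comm }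
  have : Nontrivial (H1.EA V he) := by
    rw [← Finite.one_lt_card_iff_nontrivial, H1.card_EA]; omega
  have hr : finrank (ZMod p) (H1.EA V he) = n := by
    have h2 := Module.natCard_eq_pow_finrank (K := ZMod p) (V := H1.EA V he)
    rw [Nat.card_zmod, H1.card_EA, hV] at h2
    exact (Nat.pow_right_injective hp.two_le h2).symm
  obtain ⟨N, Γ, _, _, π, W, σ, hs, W0, hd, hk, hf⟩ := blocks (H1.autRep he φ) fun W hW => by
    rcases hi (H1.eaSubgroup he W) (fun g u hu => hW g _ hu) with h | h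
    · refine Or.inl (eq_bot_iff.2 fun w hw => ?_)
      obtain ⟨v, rfl⟩ := (H1.eaOf he).surjective w
      exact (H1.eaOf_eq_zero he).2 (mem_bot.1 (h.le hw))
    · refine Or.inr (eq_top_iff.2 fun w _ => ?_)
      obtain ⟨v, rfl⟩ := (H1.eaOf he).surjective w
      exact h.ge (mem_top v)
  have := Group.isSolvable_of_surjective hs
  have : Nontrivial W := Submodule.nontrivial_iff_ne_bot.2 W0
  obtain ⟨a, E, s, a1, a2, a3, a4, a5⟩ := prim_data hf
  refine ⟨N.index, _, a, E, s, Nat.pos_of_ne_zero index_ne_zero_of_finite, finrank_pos, hr ▸ hd,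
    a1, a2, a3, a5, ?_⟩
  have h2 := relIndex_core (K := N.normalCore) (M := N) (B := π.ker.map N.subtype) le_rfl (by
    rw [subgroupOf, comap_map_eq_self_of_injective N.subtype_injective]; infer_instance)
  have h3 : (π.ker.map N.subtype).normalCore = ⊥ := eq_bot_iff.2 fun g hg =>
    hφ (((H1.autRep_eq_one_iff he φ g).1 (hk hg)).trans (map_one φ).symm)
  have h4 : (π.ker.map N.subtype).relIndex N = Nat.card Γ := by
    rw [relIndex, subgroupOf, comap_map_eq_self_of_injective N.subtype_injective, index_ker,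
      MonoidHom.range_eq_top.2 hs, card_top]
  rw [h3, relIndex_bot_left, h4] at h2
  rw [← N.normalCore.card_mul_index, mul_comm]
  exact Nat.mul_le_mul (Nat.le_of_dvd (Nat.factorial_pos _) (index_normalCore_dvd_factorial N))
    ((Nat.le_of_dvd (pow_pos Nat.card_pos _) h2).trans (Nat.pow_le_pow_left a4 _))

/-- Bound for primitive solvable subgroups of `GL_m(2)`. -/
def g2 (m : ℕ) : ℕ := if m < 6 then m * (2 ^ m - 1) else if m < 8 then 1296 else m * (2 ^ m - 1)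

theorem le_g2 {m a E s : ℕ} (hm : m ≤ 10) (h1 : a * E ≤ m) (h2 : s * E ≤ m) (h3 : 1 ≤ E)
    (h : ∀ q, q.Prime → q ∣ E → q ≠ 2 ∧ q < 2 ^ s) : a * el E * (2 ^ s - 1) ≤ g2 m := by
  rcases Nat.eq_zero_or_pos s with rfl | hs
  · simp
  have b1 : E ≤ s * E := Nat.le_mul_of_pos_left _ hs
  have b2 : s ≤ s * E := Nat.le_mul_of_pos_right _ h3
  have b3 : a ≤ a * E := Nat.le_mul_of_pos_right _ h3
  have e2 : ¬ 2 ∣ E := fun e => (h 2 Nat.prime_two e).1 rfl
  have e3 := fun e => (h 3 Nat.prime_three e).2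
  have e5 := fun e => (h 5 Nat.prime_five e).2
  have e7 := fun e => (h 7 (by norm_num) e).2
  have b4 : E ≤ 10 := by omega
  have b5 : s ≤ 10 := by omega
  clear h
  interval_cases E <;> simp at e2 e3 e5 e7 h1 h2
  · have : a * (2 ^ s - 1) ≤ m * (2 ^ m - 1) :=
      Nat.mul_le_mul h1 (Nat.sub_le_sub_right (Nat.pow_le_pow_right (by norm_num) h2) 1)
    refine le_trans (by simp [el]) (this.trans ?_)
    interval_cases m <;> decide
  all_goals interval_cases s <;> interval_cases m <;> simp [el, g2] at * <;> omega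

/-- Bound for primitive solvable subgroups of `GL_m(3)`. -/
def g3 (m : ℕ) : ℕ := if m < 2 then 2 else if m < 3 then 48 else 5000

theorem le_g3 {m a E s : ℕ} (hm : m ≤ 4) (h1 : a * E ≤ m) (h2 : s * E ≤ m) (h3 : 1 ≤ E) :
    a * el E * (3 ^ s - 1) ≤ g3 m := by
  rcases Nat.eq_zero_or_pos s with rfl | hs
  · simp
  have b1 : E ≤ s * E := Nat.le_mul_of_pos_left _ hs
  have b2 : s ≤ s * E := Nat.le_mul_of_pos_right _ h3
  have b4 : E ≤ 4 := by omega
  have b5 : s ≤ 4 := by omega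
  interval_cases E <;> interval_cases s <;> interval_cases m <;> simp [el, g3] at * <;> omega

theorem num2 {n : ℕ} (h3 : 3 ≤ n) (h5 : n ≤ 5) : ∀ t ≤ 10, ∀ m ≤ 10, 1 ≤ m → t * m ≤ 2 * n →
    t.factorial * g2 m ^ t ≤ 3 ^ (2 ^ n - 1) := by
  interval_cases n <;> decide +kernel

theorem num3 : ∀ t ≤ 4, ∀ m ≤ 4, 1 ≤ m → t * m ≤ 4 → t.factorial * g3 m ^ t ≤ 3 ^ 8 := by
  decide +kernel

theorem sq_le_three {q : ℕ} (h : 3 ≤ q) : q ^ 2 + q ≤ 3 ^ (q - 1) + 3 := by
  induction q, h using Nat.le_induction with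
  | base => norm_num
  | succ n hn ih =>
    obtain ⟨k, rfl⟩ : ∃ k, n = k + 1 := ⟨n - 1, by omega⟩
    simp only [Nat.add_sub_cancel] at ih ⊢
    rw [pow_succ 3 k]; nlinarith

theorem num_gen {q n : ℕ} (hq : q.Prime) (hn : 2 ≤ n) (h2 : q = 2 → 6 ≤ n) (h3 : q = 3 → 3 ≤ n) :
    q ^ (2 * n * n + n) ≤ 3 ^ (q ^ n - 1) := by
  by_cases e2 : q = 2
  · subst e2
    rcases (h2 rfl).eq_or_lt with rfl | h7
    · decide +kernel
    have key : ∀ n, 7 ≤ n → 2 * n * n + n + 1 ≤ 2 ^ n := fun n hn => by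
      induction n, hn using Nat.le_induction with
      | base => norm_num
      | succ n hn ih => rw [pow_succ]; nlinarith
    exact (Nat.pow_le_pow_left (by norm_num) _).trans
      (Nat.pow_le_pow_right (by norm_num) (by have := key n h7; omega))
  have h4 : 3 ≤ q := by have := hq.two_le; omega
  have h5 : q ^ 2 ≤ 3 ^ (q - 1) := by have := sq_le_three h4; omega
  obtain ⟨k, rfl⟩ : ∃ k, q = k + 1 := ⟨q - 1, by omega⟩
  rw [Nat.add_sub_cancel] at h5
  rcases hn.eq_or_lt with rfl | h6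
  · have h7 : 3 ≤ k := by
      by_contra h
      have := h3 (by omega)
      omega
    calc _ = ((k + 1) ^ 2) ^ 5 := by ring
      _ ≤ (3 ^ k) ^ 5 := Nat.pow_le_pow_left h5 5
      _ ≤ _ := by
        rw [← pow_mul]
        exact Nat.pow_le_pow_right (by norm_num) (Nat.le_sub_one_of_lt (by nlinarith))
  have key : ∀ n, 3 ≤ n → k * (n * n + n) + 1 ≤ (k + 1) ^ n := fun n hn => by
    induction n, hn using Nat.le_induction with
    | base => nlinarith [Nat.mul_le_mul (show 2 ≤ k by omega) (le_refl (k * k)),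
        Nat.mul_le_mul (show 2 ≤ k by omega) (le_refl k)]
    | succ n hn ih =>
      rw [pow_succ]
      refine le_trans ?_ (Nat.mul_le_mul ih (show 3 ≤ k + 1 by omega))
      have : (n + 1) * (n + 1) + (n + 1) ≤ (n * n + n) * 3 := by nlinarith
      nlinarith [Nat.mul_le_mul_left k this]
  calc _ ≤ ((k + 1) ^ 2) ^ (n * n + n) := by
        rw [← pow_mul]; exact Nat.pow_le_pow_right (by omega) (by nlinarith)
    _ ≤ (3 ^ k) ^ (n * n + n) := Nat.pow_le_pow_left h5 _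
    _ ≤ _ := by
        rw [← pow_mul]
        exact Nat.pow_le_pow_right (by norm_num) (by have := key n h6; omega)

variable {Γ : Type u} [Group Γ] [Finite Γ] [Group.IsSolvable Γ] {D Y : Subgroup Γ}

theorem chief [D.Normal] [Y.Normal] [IsCyclic D] {q : ℕ} (hq : q.Prime) (h : Sy q D Y)
    (hn : ¬ Y ≤ D) (irr : ∀ U : Subgroup Γ, D ≤ U → U ≤ Y → ⊤ ≤ 𝐍(U) → U = D ∨ U = Y) :
    ∃ a, 1 ≤ a ∧ D.relIndex Y = a ^ 2 ∧ KR 𝐂(D) (centMod Y D) (3 ^ (a - 1)) := by
  obtain ⟨n, i1, i2⟩ := h.sy hq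
  have n1 : 1 ≤ n := Nat.pos_of_ne_zero fun e => hn (relIndex_eq_one.1 (by rw [i1, e]; rfl))
  refine ⟨q ^ n, Nat.one_le_pow _ _ hq.pos, by rw [i1, ← pow_mul, mul_comm], ?_⟩
  let φ := sectAct (D := D) (Y := Y) (S := ⊤) lnn lnn
  have : Group.IsSolvable φ.range := Group.isSolvable_of_surjective φ.rangeRestrict_surjective
  have : Finite φ.range := Finite.of_surjective _ φ.rangeRestrict_surjective
  have hi := irrAct_sectAct h.le lnn lnn irr
  have hc := isMulCommutative_sect h.comm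
  have he := pow_sect h.pow
  have sub : ∀ b, (∀ H : Subgroup φ.range, Nat.card (ConjClasses H) ≤ b) →
      KR 𝐂(D) (centMod Y D) b := fun b hb =>
    (((KR.of_sub hb).comap φ.rangeRestrict).map (⊤ : Subgroup Γ).subtype).mono
      (fun x _ => ⟨⟨x, mem_top x⟩, mem_top _, rfl⟩) (by
        rintro _ ⟨-, x, hx, rfl⟩
        exact (ker_sectAct lnn lnn).le (show φ x = 1 from congrArg Subtype.val hx)) le_rfl
  have ord : ∀ b, Nat.card φ.range ≤ b → KR 𝐂(D) (centMod Y D) b := fun b hb =>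
    sub b fun H => (classNum_le_card H).trans ((card_le_card_group H).trans hb)
  rcases n1.eq_or_lt with rfl | n2
  · refine sub _ fun H => ?_
    have := gl2 hq (φ := φ.range.subtype.comp H.subtype)
      ((subtype_injective _).comp (subtype_injective _)) hc he i1
    rw [pow_one]
    rcases hq.two_le.eq_or_lt with rfl | h3
    · omega
    · have := sq_le_three h3
      omega
  obtain ⟨t, m, a, E, s, a1, a2, a3, a4, a5, a6, a7, a8⟩ :=
    card_le_blocks (subtype_injective _) hi hc hq he i1 (by omega)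
  have b1 : t ≤ t * m := Nat.le_mul_of_pos_right _ a2
  have b2 : m ≤ t * m := Nat.le_mul_of_pos_left _ a1
  by_cases e : q = 2 ∧ n < 6
  · obtain ⟨rfl, n6⟩ := e
    rcases (show 2 ≤ n from n2).eq_or_lt with rfl | n3
    · exact sub _ (sixteen (subtype_injective _) hi hc he i1)
    · exact ord _ (a8.trans ((Nat.mul_le_mul_left _ (Nat.pow_le_pow_left
        (le_g2 (by omega) a4 a5 a6 a7) _)).trans (num2 n3 (by omega) t (by omega) m (by omega) a2 a3)))
  by_cases e' : q = 3 ∧ n < 3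
  · obtain ⟨rfl, n3⟩ := e'
    obtain rfl : n = 2 := by omega
    exact ord _ (a8.trans ((Nat.mul_le_mul_left _ (Nat.pow_le_pow_left
      (le_g3 (by omega) a4 a5 a6) _)).trans (num3 t (by omega) m (by omega) a2 a3)))
  exact KR.of_relIndex ((i2 _ le_rfl lnn).trans ((sp_le q n).trans
    (num_gen hq n2 (fun a => by omega) fun a => by omega)))

theorem pow_mul_le {a b : ℕ} (ha : 1 ≤ a) (hb : 1 ≤ b) :
    3 ^ (a - 1) * 3 ^ (b - 1) ≤ 3 ^ (a * b - 1) := by
  obtain ⟨a, rfl⟩ : ∃ k, a = k + 1 := ⟨a - 1, by omega⟩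
  obtain ⟨b, rfl⟩ : ∃ k, b = k + 1 := ⟨b - 1, by omega⟩
  rw [← pow_add]
  exact Nat.pow_le_pow_right (by norm_num) (Nat.le_sub_one_of_lt (by simp; nlinarith))

theorem recur2 [hD : D.Normal] [IsCyclic D]
    (hm : ∀ A : Subgroup Γ, A.Normal → D ≤ A → A ≤ 𝐂(A) → A = D) (C : Subgroup Γ) :
    C.Normal → D ≤ C → C ≤ 𝐂(D) → ∃ (X : Subgroup Γ) (E : ℕ), X.Normal ∧ D ≤ X ∧ X ≤ C ∧
      ⁅X, X⁆ ≤ D ∧ (∀ x ∈ X, x ∈ 𝐂(X) → x ∈ D) ∧ D.relIndex X = E ^ 2 ∧ C ⊓ 𝐂(X) ≤ D ∧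
      KR 𝐂(D) (centMod X D) (3 ^ (E - 1)) := by
  induction C using WellFoundedLT.induction with
  | _ C ih =>
  intro _ DC hC
  by_cases hn : C ≤ D
  · exact ⟨D, 1, hD, le_rfl, DC, commutator_le_left _ _, fun _ h _ => h, relIndex_self _,
      inf_le_left.trans hn, KR.one.mono le_rfl
        (le_centMod_iff.2 ⟨lnn, commutator_le_left _ _⟩) le_rfl⟩
  obtain ⟨Y, ⟨hY, DY, YC, YD⟩, hmin⟩ := exists_minimal_of_wellFoundedLT
    (fun Y : Subgroup Γ => Y.Normal ∧ D ≤ Y ∧ Y ≤ C ∧ ¬ Y ≤ D) ⟨C, inferInstance, DC, le_rfl, hn⟩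
  obtain ⟨q, Y', hq, hY', a1, a2, h⟩ := exists_sy hm DY (YC.trans hC) YD
  obtain rfl : Y' = Y := le_antisymm a1 (hmin ⟨hY', h.le, a1.trans YC, a2⟩ a1)
  obtain ⟨a, b1, i1, b2⟩ := chief hq h YD fun U c1 c2 c3 => by
    by_cases c4 : U ≤ D
    · exact Or.inl (le_antisymm c4 c1)
    · exact Or.inr (le_antisymm c2 (hmin ⟨normalizer_eq_top_iff.1 (top_le_iff.1 c3), c1,
        c2.trans YC, c4⟩ c2))
  let C2 := 𝐂(Y') ⊓ C
  have DC2 : D ≤ C2 := le_inf (cent_comm.1 h.cen) DC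
  obtain ⟨X, E, hX, DX, XC, XX, XZ, iX, iC, hc⟩ := ih C2 (lt_of_le_of_ne inf_le_right fun e =>
    YD fun y hy => h.z y hy (e.ge (YC hy)).1) inferInstance DC2 (inf_le_right.trans hC)
  have XY : X ≤ 𝐂(Y') := XC.trans inf_le_left
  have i3 : X.relIndex (Y' ⊔ X) = a ^ 2 := by
    rw [relIndex_sup_right, ← i1, ← inf_relIndex_right, ← inf_relIndex_right D]
    congr 1
    exact le_antisymm (fun y hy => ⟨h.z y hy.2 (XY hy.1), hy.2⟩) (inf_le_inf_right _ DX)
  have hE : 1 ≤ E := Nat.pos_of_ne_zero fun e =>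
    FiniteIndex.index_ne_zero (iX.trans (by rw [e]; rfl))
  have cYX : ⁅Y', X⁆ ≤ D := (comm_eq_bot_iff.2 (cent_comm.1 XY)).le.trans bot_le
  have cs : ∀ {A B K : Subgroup Γ}, ⁅K, A⁆ ≤ D → ⁅K, B⁆ ≤ D → ⁅K, A ⊔ B⁆ ≤ D := fun a b =>
    (le_centMod_iff.1 (sup_le (le_centMod_iff.2 ⟨lnn, a⟩) (le_centMod_iff.2 ⟨lnn, b⟩))).2
  refine ⟨Y' ⊔ X, a * E, inferInstance, DX.trans le_sup_right,
    sup_le YC (XC.trans inf_le_right), cs ?_ ?_, fun x hx e => ?_, ?_, ?_, ?_⟩
  · rw [commutator_comm]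
    exact cs h.comm cYX
  · rw [commutator_comm]
    exact cs (commutator_comm Y' X ▸ cYX) XX
  · obtain ⟨a, ha, b, hb, rfl⟩ := (mem_sup_of_norm lnn).1 hx
    rw [cent_sup] at e
    exact mul_mem (h.z a ha ((mul_mem_cancel_right (XY hb)).1 e.1))
      (XZ b hb ((mul_mem_cancel_left (cent_comm.1 XY ha)).1 e.2))
  · rw [← relIndex_mul_relIndex D X _ DX le_sup_right, iX, i3]; ring
  · rw [cent_sup]
    exact fun x hx => iC ⟨⟨hx.2.1, hx.1⟩, hx.2.2⟩
  · refine (b2.inf hc (norm_le_norm_centMod lnn lnn)).mono le_rfl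
      (inf_le_right.trans (le_centMod_iff.2 ⟨lnn, ?_⟩)) (pow_mul_le b1 hE)
    rw [commutator_comm]
    exact cs (commutator_comm Y' _ ▸ (le_centMod_iff.1 inf_le_left).2)
      (commutator_comm X _ ▸ (le_centMod_iff.1 inf_le_right).2)

end Cfsg.Agent.H5.KRel
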