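/-
Groups whose subgroups of even order are 2-groups or have order divisible by a Mersenne prime.
-/
import Cfsg.Agent.H5.CycAb
import Cfsg.Agent.H8.Frobenius

set_option autoImplicit false

namespace Cfsg.Agent.H5

open Subgroup Cfsg Cfsg.Agent Cfsg.Agent.FT CycAb
open scoped commutatorElement

universe u

variable {G : Type u} [Group G] [Finite G] {p : ℕ}

omit [Finite G] in
theorem conj_invol {u : G} (hu : u * u = 1) (g : G) : g * u * g⁻¹ * (g * u * g⁻¹) = 1 := by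
  rw [show g * u * g⁻¹ * (g * u * g⁻¹) = g * (u * u) * g⁻¹ by group, hu]; simp

omit [Finite G] in
theorem eq_one_of_inv_of_commute (hp2 : p ≠ 2) {t w : G} (ht : t * t = 1) (hw : IsPiElt {p} w)
    (h : t * w * t = w⁻¹) (hc : Commute t w) : w = 1 := by
  rw [hc.eq, mul_assoc, ht, mul_one] at h
  have h1 : orderOf w ∣ 2 := orderOf_dvd_of_pow_eq_one (by rw [sq]; nth_rw 1 [h]; simp)
  rcases (Nat.dvd_prime Nat.prime_two).1 h1 with e | e
  · exact orderOf_eq_one_iff.1 e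
  · exact (hp2 (hw 2 Nat.prime_two e.symm.dvd).symm).elim

/-- Counting the involutions which do not commute with `t`. -/
theorem invol_count (hp : p.Prime) (hp2 : p ≠ 2)
    (hB : ∀ t x : G, t ≠ 1 → t * t = 1 → IsPiElt {p} x → Commute t x → x = 1)
    (hprod : ∀ u v : G, u * u = 1 → v * v = 1 → ¬ Commute u v → IsPiElt {p} (u * v))
    (hab : ∀ P : Subgroup G, IsPGroup p P → IsMulCommutative P)
    (hN : ∀ P : Subgroup G, IsSyl p P ⊤ → ∀ x ∈ P, x ≠ 1 → ∀ v : G, v * v = 1 → v * x * v = x⁻¹ →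
      𝐍(zpowers x) ≤ 𝐍(P)) {t u₀ : G} (ht1 : t ≠ 1) (ht : t * t = 1) (hu₀ : u₀ * u₀ = 1)
    (hc₀ : u₀ ∉ 𝐂[t]) : ∃ P : Subgroup G, IsSyl p P ⊤ ∧ P ≠ ⊥ ∧ t ∈ 𝐍(P) ∧
      {u : G | u * u = 1 ∧ u ∉ 𝐂[t]}.ncard * 𝐨(𝐂[t] ⊓ 𝐍(P)) = (𝐨(P) - 1) * 𝐨(𝐂[t]) := by
  have hti := L.inv_eq_self_of_mul_self ht
  have hne : ∀ u : G, u ∉ 𝐂[t] → t * u ≠ 1 := fun u hc e => hc (by
    rw [← mul_right_inj t, ← mul_assoc, ht, one_mul, mul_one] at e
    exact e ▸ self_mem_cent1 u)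
  have hsyl : ∀ u : G, u * u = 1 → u ∉ 𝐂[t] → ∃ P, IsSyl p P ⊤ ∧ t * u ∈ P ∧ t ∈ 𝐍(P) :=
    fun u hu hc => by
      obtain ⟨P, hP, h⟩ := exists_isSyl_ge hp ((isPiElt_singleton_iff hp).1
        (hprod t u ht hu fun h => hc (mem_cent1.2 h.eq))) le_top
      have h1 : t * (t * u) * t = (t * u)⁻¹ := by simpa using L.invol_conj_pow ht hu 1
      refine ⟨P, hP, h (mem_zpowers _), hN P hP _ (h (mem_zpowers _)) (hne u hc) t ht h1
        (mem_norm_of_conj_le ?_)⟩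
      rw [← zpowers_conj, hti, h1, zpowers_inv]
  have hinv : ∀ P, IsSyl p P ⊤ → ∀ v : G, v ≠ 1 → v * v = 1 → v ∈ 𝐍(P) →
      ∀ a ∈ P, v * a * v = a⁻¹ := fun P hP v hv1 hv hn => L.inverts_of_fpf hv hn fun a ha hc =>
    hB v a hv1 hv (isPiElt_of_mem ((isPi_singleton_iff hp).2 hP.pgrp) ha) hc
  obtain ⟨P, hP, h0, htP⟩ := hsyl u₀ hu₀ hc₀
  have hP1 : P ≠ ⊥ := fun e => hne u₀ hc₀ (mem_bot.1 (e ▸ h0))
  refine ⟨P, hP, hP1, htP, ?_⟩
  have h3 : (t * ·) '' {u : G | u * u = 1 ∧ u ∉ 𝐂[t]} = classSupp (sharp P) 𝐂[t] := by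
    ext y
    constructor
    · rintro ⟨u, ⟨hu, hc⟩, rfl⟩
      obtain ⟨Q, hQ, h1, htQ⟩ := hsyl u hu hc
      obtain ⟨g, -, rfl⟩ := hQ.exists_conj_eq hp hP
      have h4 : g⁻¹ * t * g ∈ 𝐍(P) := by rwa [norm_conj, mem_conj] at htQ
      have h5 : g⁻¹ * t * g * (g⁻¹ * t * g) = 1 := by simpa using conj_invol ht g⁻¹
      have h6 : g⁻¹ * t * g ≠ 1 := by simpa using (MulAut.conj g⁻¹).map_ne_one_iff.2 ht1
      obtain ⟨n, hn, e⟩ : ∃ n ∈ 𝐍(P), n * t * n = g⁻¹ * t * g ∧ n * n = 1 ∨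
          n = 1 ∧ t = g⁻¹ * t * g := by
        by_cases hc : Commute t (g⁻¹ * t * g)
        · refine ⟨1, one_mem _, Or.inr ⟨rfl, by_contra fun hne => hP1 (eq_bot_iff.2 fun a ha =>
            mem_bot.2 (hB (t * (g⁻¹ * t * g)) a (fun e => hne ?_) ?_
            (isPiElt_of_mem ((isPi_singleton_iff hp).2 hP.pgrp) ha) (mul_mem_cent h5
            (hinv P hP t ht1 ht htP) ht (hinv P hP _ h6 h5 h4) a ha).symm))⟩⟩
          · rw [← mul_right_inj t, e, ht]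
          · rw [hc.symm.mul_mul_mul_comm, ht, h5, one_mul]
        · obtain ⟨k, hk1, hk2⟩ := L.exists_invol_conj_of_odd ht h5 (Nat.not_even_iff_odd.1 fun h =>
            hp2 (hprod _ _ ht h5 hc 2 Nat.prime_two (even_iff_two_dvd.1 h)).symm)
          exact ⟨_, mul_mem htP (pow_mem (mul_mem htP h4) k), Or.inl ⟨hk2, hk1⟩⟩
      have h7 : g * n ∈ 𝐂[t] := mem_cent1_iff_conj.2 (by
        rcases e with ⟨e, e'⟩ | ⟨rfl, e⟩
        · rw [mul_inv_rev, L.inv_eq_self_of_mul_self e', show g * n * t * (n * g⁻¹) =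
            g * (n * t * n) * g⁻¹ by group, e]; group
        · nth_rw 1 [e]; group)
      refine ⟨(g * n)⁻¹ * (t * u) * (g * n), ⟨?_, fun e => hne u hc ?_⟩, g * n, h7, by group⟩
      · rwa [← mem_conj, ← conj_conj, conj_eq_of_mem_norm hn]
      · exact (MulAut.conj (g * n)⁻¹).map_eq_one_iff.1 (by rw [← e, MulAut.conj_apply, inv_inv])
    · rintro ⟨a, ha, k, hk, rfl⟩
      have h4 := hinv P hP t ht1 ht htP a ha.1
      have h5 := mem_cent1_iff_conj.1 hk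
      refine ⟨k * (t * a) * k⁻¹, ⟨?_, fun h => ha.2 (hB t a ht1 ht
        (isPiElt_of_mem ((isPi_singleton_iff hp).2 hP.pgrp) ha.1) ?_)⟩, ?_⟩
      · rw [show k * (t * a) * k⁻¹ * (k * (t * a) * k⁻¹) = k * (t * a * t * a) * k⁻¹ by group, h4]
        simp
      · rw [← conj_eq_of_mem hk, conj_mem_conj_iff] at h
        exact mem_cent1.1 ((mul_mem_cancel_left (self_mem_cent1 t)).1 h)
      · change t * (k * (t * a) * k⁻¹) = _
        nth_rw 1 [← h5]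
        rw [show k * t * k⁻¹ * (k * (t * a) * k⁻¹) = k * (t * t) * a * k⁻¹ by group, ht, mul_one]
  have h4 := ncard_classSupp_mul (A := sharp P) (X := 𝐂[t]) (L := 𝐂[t] ⊓ 𝐍(P)) inf_le_left
    (fun g hg a ha => ⟨conj_le_of_mem_norm le_rfl hg.2 (conj_mem_conj ha.1 g), by simpa using ha.2⟩)
    fun g hg a ha h => ⟨hg, by
      refine mem_norm_of_conj_le ((hP.of_le le_normalizer le_top).le_of_normal hp le_rfl
        (hP.conj g).pgrp (le_trans ?_ (((cent_zpowers _).ge.trans (cent_le_norm _)).trans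
        (hN P hP _ h.1 h.2 t ht (hinv P hP t ht1 ht htP _ h.1)))))
      rw [cent1_conj]
      exact conj_mono ((isMulComm_iff_le_cent.1 (hab P hP.pgrp)).trans (cent_le_cent1 ha.1)) g⟩
  rwa [← h3, Set.ncard_image_of_injective _ (mul_right_injective t), ncard_sharp] at h4

/-- A `p`-element acting nontrivially on a group of order at most `p + 1`. -/
theorem trans_of_card_le (hp : p.Prime) {U : Subgroup G} {y : G} (hy : IsPiElt {p} y)
    (hn : y ∈ 𝐍(U)) (hc : y ∉ 𝐂(U)) (hU : 𝐨(U) ≤ p + 1) :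
    𝐨(U) = p + 1 ∧ ∀ s ∈ U, s ≠ 1 → ∀ s' ∈ U, s' ≠ 1 → ∃ g ∈ zpowers y, g * s * g⁻¹ = s' := by
  obtain ⟨s₀, hs₀, h0⟩ : ∃ s ∈ U, s * y ≠ y * s := by
    by_contra hne
    push Not at hne
    exact hc hne
  have h1 := ncard_classSupp_mul (A := {s₀}) (X := zpowers y) (L := zpowers y ⊓ 𝐂[s₀]) inf_le_left
    (fun g hg a ha => by rw [Set.mem_singleton_iff.1 ha]; exact mem_cent1_iff_conj.1 hg.2)
    fun g hg a ha h => ⟨hg, by rw [Set.mem_singleton_iff.1 ha] at h; exact mem_cent1_iff_conj.2 h⟩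
  rw [Set.ncard_singleton, one_mul] at h1
  obtain ⟨k, hk⟩ := exists_card_eq_pow hp ((isPiElt_singleton_iff hp).1 hy)
  obtain ⟨j, -, hj⟩ := (Nat.dvd_prime_pow hp).1 (hk ▸ Dvd.intro _ h1)
  have hj0 : j ≠ 0 := by
    rintro rfl
    rw [hj, pow_zero, one_mul] at h1
    exact h0 (mem_cent1.1 ((eq_of_le_of_card_ge inf_le_left h1.ge).ge (mem_zpowers y)).2)
  have h2 : classSupp {s₀} (zpowers y) ⊆ sharp U := by
    rintro _ ⟨a, rfl, g, hg, rfl⟩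
    exact ⟨conj_le_of_mem_norm le_rfl (zpowers_le.2 hn hg) (conj_mem_conj hs₀ g), by
      simp only [ne_eq, conj_eq_one_iff]; rintro rfl; simp at h0⟩
  have h3 := Set.ncard_le_ncard h2
  have h4 := Nat.le_self_pow hj0 p
  rw [ncard_sharp] at h3
  have h5 := Set.eq_of_subset_of_ncard_le h2 (by rw [ncard_sharp]; omega)
  refine ⟨by have := hp.pos; omega, fun s hs hs1 s' hs' hs'1 => ?_⟩
  obtain ⟨_, rfl, g, hg, rfl⟩ := h5.ge (⟨hs, hs1⟩ : s ∈ sharp U)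
  obtain ⟨_, rfl, g', hg', rfl⟩ := h5.ge (⟨hs', hs'1⟩ : s' ∈ sharp U)
  exact ⟨g' * g⁻¹, mul_mem hg' (inv_mem hg), by group⟩

theorem exists_act_of_not_hasNPC {q : ℕ} (hq : q.Prime) (h : ¬ HasNPC q (⊤ : Subgroup G)) :
    ∃ (U : Subgroup G) (y : G) (r : ℕ), IsPGroup q U ∧ r.Prime ∧ r ≠ q ∧ IsPiElt {r} y ∧
      y ∈ 𝐍(U) ∧ y ∉ 𝐂(U) := by
  have := Fact.mk hq
  by_contra hne
  push Not at hne
  obtain ⟨P⟩ : Nonempty (Sylow q G) := inferInstance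
  exact h ((hasNPC_iff hq).2 (H8.hasNPC_top_iff.2 (H8.hasNPC_of_primePow_centralizes P
    fun X hX _ g hg r k hr hrq ho => hne X g r (P.isPGroup'.to_le hX) hr hrq
      (fun s hs hd => (Nat.prime_dvd_prime_iff_eq hs hr).1 (hs.dvd_of_dvd_pow (ho ▸ hd))) hg)))

theorem isPi_pair_of_solvable (hp : p.Prime) {q : ℕ} (hq : q.Prime) (hpq : q ≠ p) {M : Subgroup G}
    (hs : Group.IsSolvable M) (hd : q ∣ 𝐨(M))
    (hmix : ∀ H ≤ M, ¬ p ∣ 𝐨(H) → q ∣ 𝐨(H) → IsPGroup q H) :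
    IsPiSubgroup {q, p} M := fun r hr hrd => by
  obtain ⟨H, hH⟩ := exists_hall hs {p}ᶜ
  by_contra hne
  simp only [Set.mem_insert_iff, Set.mem_singleton_iff, not_or] at hne
  exact hne.1 (eq_of_prime_dvd_card_of_isPGroup hq hr (hmix H hH.1
    ((isPi_compl_singleton_iff' hp).1 hH.2.1) ((hall_dvd_card_iff hH hq hpq).2 hd))
    ((hall_dvd_card_iff hH hr hne.2).2 hrd))

theorem mem_cent_of_fix (hp : p.Prime) {U : Subgroup G} {y s : G} (hy : IsPiElt {p} y)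
    (hn : y ∈ 𝐍(U)) (hU : 𝐨(U) ≤ p + 1) (hs : s ∈ U) (hs1 : s ≠ 1) (hc : y ∈ 𝐂[s]) :
    y ∈ 𝐂(U) := by
  by_contra hne
  obtain ⟨h1, h2⟩ := trans_of_card_le hp hy hn hne hU
  have h3 : sharp U ⊆ {s} := fun s' hs' => by
    obtain ⟨g, hg, rfl⟩ := h2 s hs hs1 s' hs'.1 hs'.2
    exact mem_cent1_iff_conj.1 (zpowers_le.2 hc hg)
  have h4 := Set.ncard_le_ncard h3
  rw [ncard_sharp, Set.ncard_singleton] at h4
  have := hp.two_le
  omega

end Cfsg.Agent.H5
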