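/-
The simple case for groups whose subgroups of even order are 2-groups or have order divisible by a
Mersenne prime.
-/
import Cfsg.Agent.H5.Mers

set_option autoImplicit false

namespace Cfsg.Agent.H5.Mers

open Subgroup Cfsg Cfsg.Agent Cfsg.Agent.FT CycAb
open scoped commutatorElement

universe u

structure Hyp (p : ℕ) (G : Type u) [Group G] : Prop where
  mix : ∀ H : Subgroup G, ¬ p ∣ 𝐨(H) → 2 ∣ 𝐨(H) → IsPGroup 2 H
  two : ∀ U : Subgroup G, IsPGroup 2 U → 𝐨(U) ≤ p + 1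
  ab : ∀ P : Subgroup G, IsPGroup p P → IsMulCommutative P

structure Min (p : ℕ) (G : Type u) [Group G] : Prop extends Hyp p G where
  hp : p.Prime
  hp2 : p ≠ 2
  simple : IsSimpleGroup G
  hns : ¬ Group.IsSolvable G
  hpr : ∀ H : Subgroup G, H ≠ ⊤ → Group.IsSolvable H

variable {G : Type u} [Group G] [Finite G] {p : ℕ}

omit [Finite G] in
theorem two_dvd_of_mem {M : Subgroup G} {t : G} (ht1 : t ≠ 1) (ht : t * t = 1) (h : t ∈ M) :
    2 ∣ 𝐨(M) := orderOf_eq_prime (by rw [sq, ht]) ht1 ▸ orderOf_dvd_card_of_mem h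

theorem exists_invol {M : Subgroup G} (h : 2 ∣ 𝐨(M)) : ∃ t ∈ M, t ≠ 1 ∧ t * t = 1 := by
  obtain ⟨t, ht, ho⟩ := exists_mem_orderOf_eq_prime Nat.prime_two h
  exact ⟨t, ht, fun e => by simp [e] at ho, by rw [← sq, ← ho, pow_orderOf_eq_one]⟩

namespace Min

variable (h : Min p G)
include h

theorem pi {M : Subgroup G} (hM : M ≠ ⊤) (h2 : 2 ∣ 𝐨(M)) : IsPiSubgroup {2, p} M :=
  isPi_pair_of_solvable h.hp Nat.prime_two h.hp2.symm (h.hpr M hM) h2 fun H _ => h.mix H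

theorem even : 2 ∣ Nat.card G := by_contra fun hne =>
  h.hns (feit_thompson G (Nat.odd_iff.2 (by omega)))

theorem cent_ne {x : G} (h1 : x ≠ 1) : 𝐂[x] ≠ ⊤ :=
  have := h.simple
  cent1_ne_top h.hns h1

theorem norm_ne {r : ℕ} (hr : r.Prime) {U : Subgroup G} (hU : IsPGroup r U) (h1 : U ≠ ⊥) :
    𝐍(U) ≠ ⊤ :=
  have := h.simple
  norm_ne_top h.hns h1 (isSolvable_of_isNilpotent (isNilpotent_of_isPGroup hr hU))

theorem syl {Q : Subgroup G} (hQ : IsSyl 2 Q ⊤) : 𝐨(Q) = p + 1 ∧ (∀ s ∈ Q, s * s = 1) ∧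
    ∃ x ∈ 𝐍(Q), IsPiElt {p} x ∧ x ∉ 𝐂(Q) := by
  have := h.simple
  obtain ⟨U, y, r, hU, hr, hr2, hy, hn, hc⟩ := exists_act_of_not_hasNPC Nat.prime_two
    (not_hasNPC_top h.hns Nat.prime_two h.even)
  have hU1 : U ≠ ⊥ := by rintro rfl; exact hc (cent_bot.ge (mem_top y))
  have hU2 := prime_dvd_card_of_isPGroup Nat.prime_two hU hU1
  have hy' : IsPiElt {p} y := fun s hs hd => (isPiElt_of_mem (h.pi (h.norm_ne Nat.prime_two hU hU1)
    (hU2.trans (FT.card_dvd_of_le le_normalizer))) hn s hs hd).resolve_left fun e =>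
      hr2 ((hy s hs hd).symm.trans e)
  obtain ⟨h1, h2⟩ := trans_of_card_le h.hp hy' hn hc (h.two U hU)
  obtain ⟨g, -, rfl⟩ := hQ.exists_conj_eq Nat.prime_two (hQ.of_card_le Nat.prime_two hU le_top
    (h1 ▸ h.two Q hQ.pgrp))
  obtain ⟨t, ht, ht1, ht2⟩ := exists_invol hU2
  refine ⟨by rw [card_conj, h1], ?_, g * y * g⁻¹, norm_conj U g ▸ conj_mem_conj hn g,
    isPiElt_conj.2 hy', by rwa [cent_conj, conj_mem_conj_iff]⟩
  rintro _ ⟨s, hs, rfl⟩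
  by_cases hs1 : s = 1
  · simp [hs1]
  obtain ⟨k, -, rfl⟩ := h2 t ht ht1 s hs hs1
  exact conj_invol (conj_invol ht2 k) g

theorem syl_ab {Q : Subgroup G} (hQ : IsSyl 2 Q ⊤) : Q ≤ 𝐂(Q) := fun _ ha _ hb =>
  L.commute_of_sq_eq_one (h.syl hQ).2.1 hb ha

omit h in
theorem exists_syl {t : G} (ht : t * t = 1) : ∃ Q, IsSyl 2 Q ⊤ ∧ t ∈ Q := by
  obtain ⟨Q, hQ, h⟩ := exists_isSyl_ge Nat.prime_two (isPGroup_two_zpowers ht) le_top
  exact ⟨Q, hQ, h (mem_zpowers t)⟩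

theorem fix {U : Subgroup G} (hU : IsPGroup 2 U) {y s : G} (hy : IsPiElt {p} y) (hn : y ∈ 𝐍(U))
    (hs : s ∈ U) (hs1 : s ≠ 1) (hc : y ∈ 𝐂[s]) : y ∈ 𝐂(U) :=
  mem_cent_of_fix h.hp hy hn (h.two U hU) hs hs1 hc

/-- `p`-elements centralizing an involution commute. -/
theorem comm {t x y : G} (ht1 : t ≠ 1) (ht : t * t = 1) (hx : IsPiElt {p} x) (hy : IsPiElt {p} y)
    (hxt : x ∈ 𝐂[t]) (hyt : y ∈ 𝐂[t]) : x ∈ 𝐂[y] := by
  obtain ⟨Q, hQ, htQ⟩ := exists_syl ht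
  have hQt : Q ≤ 𝐂[t] := (h.syl_ab hQ).trans (cent_le_cent1 htQ)
  have hπ := h.pi (h.cent_ne ht1) (two_dvd_of_mem ht1 ht (self_mem_cent1 t))
  have h1 : HasNPC 2 𝐂[t] := burnside_npc Nat.prime_two (hQ.of_le hQt le_top)
    (le_of_forall_exists_isSyl_le fun r hr hd => by
      obtain ⟨R, hR⟩ := exists_isSyl hr (𝐂[t] ⊓ 𝐍(Q))
      refine ⟨R, hR, ?_⟩
      rcases hπ r hr (hd.trans (FT.card_dvd_of_le inf_le_left)) with rfl | rfl
      · exact (hQ.le_of_norm hr hR.pgrp le_top (hR.le.trans inf_le_right)).trans (h.syl_ab hQ)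
      · exact fun z hz => h.fix hQ.pgrp (isPiElt_of_mem ((isPi_singleton_iff hr).2 hR.pgrp) hz)
          (hR.le hz).2 htQ ht1 (hR.le hz).1)
  have h2 : ∀ z, IsPiElt {p} z → z ∈ 𝐂[t] → z ∈ H2.pPrimeCoreOf 2 𝐂[t] := fun z hz hzt =>
    h1.le_pPrimeCoreOf Nat.prime_two (zpowers_le.2 hzt) (fun hd => h.hp2
      (isPi_zpowers.2 hz 2 Nat.prime_two hd).symm) (mem_zpowers z)
  have h3 : IsPGroup p (H2.pPrimeCoreOf 2 𝐂[t]) := (isPi_singleton_iff h.hp).1 fun r hr hd =>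
    (hπ r hr (hd.trans (FT.card_dvd_of_le (pPrimeCoreOf_normal 2 _).1))).resolve_left fun e =>
      not_dvd_card_pPrimeCoreOf Nat.prime_two _ (e ▸ hd)
  exact cent_le_cent1 (h2 y hy hyt) (isMulComm_iff_le_cent.1 (h.ab _ h3) (h2 x hx hxt))

theorem dich {M P : Subgroup G} (hM : M ≠ ⊤) (h2 : 2 ∣ 𝐨(M)) (hP : IsSyl p P M) :
    M ≤ 𝐍(P) ∨ ∃ Q, IsSyl 2 Q ⊤ ∧ Q ⊲ M := by
  have hπ := h.pi hM h2
  have hU := pCoreOf_normal 2 M
  have hU2 : IsPGroup 2 (pCoreOf 2 M) := H2.isPGroup_pCoreOf 2 M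
  have hPe : ∀ x ∈ P, IsPiElt {p} x := fun x hx =>
    isPiElt_of_mem ((isPi_singleton_iff h.hp).2 hP.pgrp) hx
  by_cases h1 : pCoreOf 2 M = ⊥
  · have h3 : H2.pPrimeCoreOf p M = ⊥ := eq_bot_iff.2 (h1 ▸ le_pCoreOf (pPrimeCoreOf_normal p M)
      ((isPi_singleton_iff Nat.prime_two).1 fun r hr hd => (hπ r hr (hd.trans (FT.card_dvd_of_le
        (pPrimeCoreOf_normal p _).1))).resolve_right fun e =>
          not_dvd_card_pPrimeCoreOf h.hp _ (e ▸ hd)))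
    have h4 := le_antisymm (hP.pCoreOf_le h.hp) ((le_inf hP.le ((isMulComm_iff_le_cent.1
      (h.ab P hP.pgrp)).trans (cent_anti (hP.pCoreOf_le h.hp)))).trans
      (cent_pCoreOf_le h.hp (h.hpr M hM) h3))
    exact Or.inl (h4 ▸ (pCoreOf_normal p M).2)
  by_cases h3 : ∀ y ∈ M, IsPiElt {p} y → y ∈ 𝐂(pCoreOf 2 M)
  · obtain ⟨t, ht, ht1, ht2⟩ := exists_invol (prime_dvd_card_of_isPGroup Nat.prime_two hU2 h1)
    refine Or.inl fun g hg => mem_norm_of_conj_le (hP.le_of_norm h.hp (hP.conj g).pgrp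
      (conj_le_of_mem hP.le hg) (le_trans ?_ (cent_le_norm P)))
    rintro _ ⟨x, hx, rfl⟩ y hy
    have hx' : IsPiElt {p} (g * x * g⁻¹) := isPiElt_conj.2 (hPe x hx)
    exact mem_cent1.1 (h.comm ht1 ht2 hx' (hPe y hy) (cent_le_cent1 ht (h3 _ (conj_le_of_mem hP.le hg
      (conj_mem_conj hx g)) hx')) (cent_le_cent1 ht (h3 y (hP.le hy) (hPe y hy))))
  push Not at h3
  obtain ⟨y, hy, hy1, hy2⟩ := h3
  obtain ⟨Q, hQ⟩ := exists_isSyl Nat.prime_two (⊤ : Subgroup G)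
  exact Or.inr ⟨_, hQ.of_card_le Nat.prime_two hU2 le_top ((trans_of_card_le h.hp hy1 (hU.2 hy) hy2
    (h.two _ hU2)).1 ▸ h.two Q hQ.pgrp), hU⟩

theorem real {P : Subgroup G} (hP : IsSyl p P ⊤) {x v : G} (hx : x ∈ P) (hx1 : x ≠ 1)
    (hv : v * v = 1) (hr : v * x * v = x⁻¹) : 𝐍(zpowers x) ≤ 𝐍(P) := by
  have hxe : IsPiElt {p} x := isPiElt_of_mem ((isPi_singleton_iff h.hp).2 hP.pgrp) hx
  have hxp := (isPiElt_singleton_iff h.hp).1 hxe
  have hv1 : v ≠ 1 := by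
    rintro rfl
    exact hx1 (eq_one_of_inv_of_commute h.hp2 hv hxe hr (Commute.one_left x))
  have hvn : v ∈ 𝐍(zpowers x) := mem_norm_of_conj_le (by
    rw [← zpowers_conj, L.inv_eq_self_of_mul_self hv, hr, zpowers_inv])
  refine (h.dich (h.norm_ne h.hp hxp (by simpa)) (two_dvd_of_mem hv1 hv hvn) (hP.of_le
    ((isMulComm_iff_le_cent.1 (h.ab P hP.pgrp)).trans ((cent_anti (zpowers_le.2 hx)).trans
    (cent_le_norm _))) le_top)).resolve_right ?_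
  rintro ⟨Q, hQ, hn⟩
  have h1 : v ∈ Q := hQ.le_of_norm Nat.prime_two (isPGroup_two_zpowers hv) le_top
    (zpowers_le.2 (hn.2 hvn)) (mem_zpowers v)
  exact hx1 (eq_one_of_inv_of_commute h.hp2 hv hxe hr (le_cent_of_norm_of_coprime
    (le_normalizer.trans hn.2) hn.1 (coprime_card_of_isPGroup Nat.prime_two h.hp h.hp2.symm hQ.pgrp
    hxp) (mem_zpowers x) v h1))

theorem card_ne_two : Nat.card G ≠ 2 := fun e => h.hns (by
  have := Fact.mk Nat.prime_two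
  have := isCyclic_of_prime_card e
  exact isSolvable_of_comm fun a b => mul_comm' a b)

theorem sq_isPiElt {u v : G} (hu : u * u = 1) (hv : v * v = 1) : IsPiElt {p} ((u * v) ^ 2) := by
  by_cases h1 : u * v = 1
  · rw [h1, one_pow]; exact isPiElt_one _
  have hu1 : u ≠ 1 ∨ v ≠ 1 := by
    by_contra! hne
    simp [hne.1, hne.2] at h1
  have h2 : u ∈ 𝐍(zpowers (u * v)) := mem_norm_of_conj_le (by
    rw [← zpowers_conj, L.inv_eq_self_of_mul_self hu, show u * (u * v) * u = (u * v)⁻¹ by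
      simpa using L.invol_conj_pow hu hv 1, zpowers_inv])
  have h3 : v ∈ 𝐍(zpowers (u * v)) := (mul_mem_cancel_left h2).1 (le_normalizer (mem_zpowers _))
  have := h.simple
  have h4 := isPiElt_of_mem (h.pi (norm_ne_top h.hns (H := zpowers (u * v)) (by simpa)
    (isSolvable_of_comm fun a b => mul_comm' a b)) (hu1.elim (fun e => two_dvd_of_mem e hu h2)
    fun e => two_dvd_of_mem e hv h3)) (le_normalizer (mem_zpowers (u * v)))
  obtain ⟨Q, hQ, h5⟩ := exists_isSyl_ge Nat.prime_two ((isPiElt_singleton_iff Nat.prime_two).1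
    (isPiElt_piPt {2} (u * v))) le_top
  rw [← piPt_mul_piPt_compl {2} (u * v), (commute_piPt _ _ _).mul_pow, sq,
    (h.syl hQ).2.1 _ (h5 (mem_zpowers _)), one_mul]
  exact IsPiElt.pow (fun r hr hd => (h4.of_mem_zpowers (piPt_mem_zpowers _ _) r hr hd).resolve_left
    (isPiElt_piPt {2}ᶜ (u * v) r hr hd)) 2

theorem exists_real : ∃ u w : G, u * u = 1 ∧ w ≠ 1 ∧ IsPiElt {p} w ∧ u * w * u = w⁻¹ := by
  have := h.simple
  obtain ⟨t, -, ht1, ht⟩ := exists_invol (M := (⊤ : Subgroup G)) (by simpa using h.even)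
  have h1 := not_commute_all_invol h.card_ne_two ht1 ht
  push Not at h1
  obtain ⟨u, hu, hc⟩ := h1
  refine ⟨t, (t * u) ^ 2, ht, fun e => hc ?_, h.sq_isPiElt ht hu, L.invol_conj_pow ht hu 2⟩
  rw [sq, ← eq_inv_iff_mul_eq_one, mul_inv_rev, L.inv_eq_self_of_mul_self ht,
    L.inv_eq_self_of_mul_self hu] at e
  exact e

theorem cent_le_norm_syl {Q : Subgroup G} (hQ : IsSyl 2 Q ⊤) {y : G} (hy : IsPiElt {p} y)
    (h1 : y ≠ 1) (hc : y ∈ 𝐂(Q)) : 𝐂[y] ≤ 𝐍(Q) := by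
  have hQy : Q ≤ 𝐂[y] := mem_cent_iff_cent1.1 hc
  have hQ1 := hQ.ne_bot Nat.prime_two (by simpa using h.even)
  have hQ2 := prime_dvd_card_of_isPGroup Nat.prime_two hQ.pgrp hQ1
  obtain ⟨x, hx, hx1, hx2⟩ := (h.syl hQ).2.2
  obtain ⟨R, hR, hyR⟩ := exists_isSyl_ge h.hp ((isPiElt_singleton_iff h.hp).1 hy)
    (zpowers_le.2 (cent_le_norm Q hc))
  obtain ⟨g, hg, hx3⟩ := hR.exists_conj_le h.hp ((isPiElt_singleton_iff h.hp).1 hx1)
    (zpowers_le.2 hx)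
  obtain ⟨P, hP, hRP⟩ := exists_isSyl_ge h.hp hR.pgrp ((isMulComm_iff_le_cent.1
    (h.ab R hR.pgrp)).trans (cent_le_cent1 (hyR (mem_zpowers y))))
  rcases h.dich (h.cent_ne h1) (hQ2.trans (FT.card_dvd_of_le hQy)) hP with h3 | ⟨Q', hQ', hn⟩
  · refine (hx2 ?_).elim
    have h4 := le_cent_of_norm_of_coprime (A := Q) (B := P ⊓ 𝐍(Q)) inf_le_right
      (H1.le_normalizer_inf (hQy.trans h3) (le_normalizer.trans le_normalizer))
      (coprime_card_of_isPGroup Nat.prime_two h.hp h.hp2.symm hQ.pgrp (hP.pgrp.to_le inf_le_left))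
      (le_inf hRP hR.le (hx3 (conj_mem_conj (mem_zpowers x) g)))
    rwa [← conj_eq_of_mem_norm hg, cent_conj, conj_mem_conj_iff] at h4
  · exact hQ.eq_of_le Nat.prime_two (hQ'.le_of_norm Nat.prime_two hQ.pgrp le_top
      (hQy.trans hn.2)) le_top hQ'.pgrp ▸ hn.2

/-- No nontrivial `p`-element centralizes a Sylow `2`-subgroup. -/
theorem ex {Q : Subgroup G} (hQ : IsSyl 2 Q ⊤) {y : G} (hy : IsPiElt {p} y) (hc : y ∈ 𝐂(Q)) :
    y = 1 := by
  by_contra h1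
  have hcj : ∀ g : G, IsSyl 2 (Q ^ᵍ g) ⊤ ∧ IsPiElt {p} (g * y * g⁻¹) ∧ g * y * g⁻¹ ≠ 1 ∧
      g * y * g⁻¹ ∈ 𝐂(Q ^ᵍ g) := fun g => ⟨hQ.conj_of_mem_norm (norm_top.ge (mem_top g)),
    isPiElt_conj.2 hy, by simpa, cent_conj Q g ▸ conj_mem_conj hc g⟩
  obtain ⟨u, w, hu, hw1, hw, hr⟩ := h.exists_real
  obtain ⟨P, hP, hwP⟩ := exists_isSyl_ge h.hp ((isPiElt_singleton_iff h.hp).1 hw) le_top
  have huP : u ∈ 𝐍(P) := h.real hP (hwP (mem_zpowers w)) hw1 hu hr (mem_norm_of_conj_le (by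
    rw [← zpowers_conj, L.inv_eq_self_of_mul_self hu, hr, zpowers_inv]))
  have hPe : ∀ x ∈ P, IsPiElt {p} x := fun x hx =>
    isPiElt_of_mem ((isPi_singleton_iff h.hp).2 hP.pgrp) hx
  by_cases hf : ∀ a ∈ P, Commute u a → a = 1
  · obtain ⟨g, -, hg⟩ := hP.exists_conj_le h.hp ((isPiElt_singleton_iff h.hp).1 hy) le_top
    obtain ⟨a1, a2, a3, a4⟩ := hcj g
    have h2 := L.inverts_of_fpf hu huP hf _ (hg (conj_mem_conj (mem_zpowers y) g))
    have h3 : u ∈ 𝐍(Q ^ᵍ g) := mem_norm_of_conj_le (a1.le_of_norm Nat.prime_two (a1.conj u).pgrp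
      le_top (le_trans ?_ (h.cent_le_norm_syl a1 a2 a3 a4)))
    · exact a3 (eq_one_of_inv_of_commute h.hp2 hu a2 h2 (a4 u (a1.le_of_norm Nat.prime_two
        (isPGroup_two_zpowers hu) le_top (zpowers_le.2 h3) (mem_zpowers u))))
    rw [← cent1_inv, ← h2]
    nth_rw 3 [← L.inv_eq_self_of_mul_self hu]
    rw [cent1_conj _ u]
    exact conj_mono (mem_cent_iff_cent1.1 a4) u
  push Not at hf
  obtain ⟨z, hz, hc', hz1⟩ := hf
  have hu1 : u ≠ 1 := by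
    rintro rfl
    exact hw1 (eq_one_of_inv_of_commute h.hp2 hu hw hr (Commute.one_left w))
  obtain ⟨g, -, hg⟩ := hQ.exists_le_conj Nat.prime_two (isPGroup_two_zpowers hu) le_top
  obtain ⟨a1, a2, a3, a4⟩ := hcj g
  have huQ := hg (mem_zpowers u)
  have h2 := h.cent_le_norm_syl a1 (hPe z hz) hz1 (h.fix a1.pgrp (hPe z hz)
    (h.cent_le_norm_syl a1 a2 a3 a4 (h.comm hu1 hu (hPe z hz) a2 (mem_cent1.2 hc'.eq)
    (cent_le_cent1 huQ a4))) huQ hu1 (mem_cent1.2 hc'.eq))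
  have h3 : P ≤ 𝐍(Q ^ᵍ g) := ((isMulComm_iff_le_cent.1 (h.ab P hP.pgrp)).trans
    (cent_le_cent1 hz)).trans h2
  exact hw1 (eq_one_of_inv_of_commute h.hp2 hu hw hr (le_cent_of_norm_of_coprime
    (A := P) (B := Q ^ᵍ g ⊓ 𝐍(P)) inf_le_right (H1.le_normalizer_inf h3
    (le_normalizer.trans le_normalizer)) (coprime_card_of_isPGroup h.hp Nat.prime_two h.hp2 hP.pgrp
    (a1.pgrp.to_le inf_le_left)) (mem_inf.2 ⟨huQ, huP⟩) w (hwP (mem_zpowers w))).symm)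

theorem caseA (hB : ∀ t x : G, t ≠ 1 → t * t = 1 → IsPiElt {p} x → Commute t x → x = 1) :
    False := by
  have := h.simple
  obtain ⟨t, -, ht1, ht⟩ := exists_invol (M := (⊤ : Subgroup G)) (by simpa using h.even)
  have h1 := not_commute_all_invol h.card_ne_two ht1 ht
  push Not at h1
  obtain ⟨u₀, hu₀, hc₀⟩ := h1
  have hprod : ∀ u v : G, u * u = 1 → v * v = 1 → ¬ Commute u v → IsPiElt {p} (u * v) :=
    fun u v hu hv hc r hr hd => by
      have h2 := h.sq_isPiElt hu hv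
      by_cases h3 : Even (orderOf (u * v))
      · obtain ⟨k, a1, a2, -⟩ := L.exists_invol_commute_of_even hu hv h3
        have e := hB _ _ a1 a2 h2 (Commute.pow_pow_self _ _ _)
        rw [sq, ← eq_inv_iff_mul_eq_one, mul_inv_rev, L.inv_eq_self_of_mul_self hu,
          L.inv_eq_self_of_mul_self hv] at e
        exact (hc e).elim
      · refine h2 r hr ?_
        rwa [(Nat.coprime_two_right.2 (Nat.not_even_iff_odd.1 h3)).orderOf_pow]
  obtain ⟨P, hP, hP1, htP, e⟩ := invol_count h.hp h.hp2 hB hprod h.ab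
    (fun P hP x hx hx1 v hv hr => h.real hP hx hx1 hv hr) ht1 ht hu₀ fun hc => hc₀ (mem_cent1.1 hc)
  obtain ⟨Q, hQ, htQ⟩ := exists_syl ht
  have hQt : 𝐂[t] = Q := hQ.eq_of_le Nat.prime_two ((h.syl_ab hQ).trans (cent_le_cent1 htQ)) le_top
    ((isPi_singleton_iff Nat.prime_two).1 fun r hr hd => (h.pi (h.cent_ne ht1) (two_dvd_of_mem ht1 ht
      (self_mem_cent1 t)) r hr hd).resolve_right fun e => by
        obtain ⟨x, hx, ho⟩ := exists_mem_orderOf_eq_prime hr hd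
        have := hB t x ht1 ht (fun s hs hsd => ((Nat.prime_dvd_prime_iff_eq hs hr).1
          (ho ▸ hsd)).trans e) (mem_cent1.1 hx)
        exact hr.one_lt.ne (by rw [← ho, this, orderOf_one]))
  obtain ⟨hq, hsq, x, hx, hx1, hx2⟩ := h.syl hQ
  have h2 : {g | IsConj t g} = {u : G | u * u = 1 ∧ u ∉ 𝐂[t]} ∪ sharp Q := by
    ext g
    constructor
    · intro hg
      obtain ⟨c, rfl⟩ := isConj_iff.1 hg
      by_cases h3 : c * t * c⁻¹ ∈ Q
      · exact Or.inr ⟨h3, by simpa⟩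
      · exact Or.inl ⟨conj_invol ht c, by rwa [hQt]⟩
    · intro hg
      have a1 : g * g = 1 := hg.elim (·.1) fun a => hsq g a.1
      have a2 : g ≠ 1 := hg.elim (fun a e => a.2 (e ▸ one_mem _)) (·.2)
      obtain ⟨c, -, hc⟩ := hQ.exists_conj_le Nat.prime_two (isPGroup_two_zpowers a1) le_top
      obtain ⟨k, -, hk⟩ := (trans_of_card_le h.hp hx1 hx hx2 hq.le).2 t htQ ht1 _
        (hc (conj_mem_conj (mem_zpowers g) c)) (by simpa)
      exact isConj_iff.2 ⟨c⁻¹ * k, by rw [mul_inv_rev, show c⁻¹ * k * t * (k⁻¹ * c⁻¹⁻¹) =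
        c⁻¹ * (k * t * k⁻¹) * c by group, hk]; group⟩
  have h3 := L.ncard_isConj_mul_card_centralizer t
  rw [h2, Set.ncard_union_eq (Set.disjoint_left.2 fun g a b => a.2 (hQt ▸ b.1)), ncard_sharp] at h3
  obtain ⟨c, hc⟩ := FT.card_dvd_of_le (inf_le_left : 𝐂[t] ⊓ 𝐍(P) ≤ 𝐂[t])
  have h4 := Nat.le_of_dvd Nat.card_pos (two_dvd_of_mem ht1 ht (mem_inf.2 ⟨self_mem_cent1 t, htP⟩))
  have h5 := Nat.le_of_dvd Nat.card_pos (prime_dvd_card_of_isPGroup h.hp hP.pgrp hP1)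
  have h6 : 𝐨(P) ∣ {u : G | u * u = 1 ∧ u ∉ 𝐂[t]}.ncard + (𝐨(Q) - 1) := by
    refine (coprime_card_of_isPGroup h.hp Nat.prime_two h.hp2 hP.pgrp hQ.pgrp).dvd_of_dvd_mul_right ?_
    nth_rw 2 [← hQt]
    rw [h3]
    exact card_subgroup_dvd_card P
  rw [hc, mul_comm _ c, ← mul_assoc] at e
  rw [Nat.eq_of_mul_eq_mul_right Nat.card_pos e, hq] at h6
  rw [hQt, hq] at hc
  have h7 := h.hp.two_le
  have h8 := h.hp2
  have h9 : 2 * c ≤ p + 1 := hc ▸ Nat.mul_le_mul_right c (hQt ▸ h4)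
  have h10 : 0 < c := Nat.pos_of_ne_zero (by rintro rfl; simp at hc)
  obtain ⟨n, hn⟩ : ∃ n, 𝐨(P) = n + 1 := ⟨𝐨(P) - 1, by omega⟩
  rw [hn] at h6 h5
  have h11 := Nat.le_of_dvd (by omega) ((Nat.dvd_add_right (Dvd.intro c rfl)).1
    (show n + 1 ∣ (n + 1) * c + (p - c) by convert h6 using 1; simp only [add_tsub_cancel_right]; rw [add_mul]; omega))
  omega

theorem uq {P : Subgroup G} (hP : IsSyl p P ⊤) {z s : G} (hz : z ∈ P) (hz1 : z ≠ 1) (hs1 : s ≠ 1)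
    (hs : s * s = 1) (hc : z ∈ 𝐂[s]) : 𝐂[z] ≤ 𝐍(P) := by
  refine (h.dich (h.cent_ne hz1) (two_dvd_of_mem hs1 hs (mem_cent1_comm.1 hc)) (hP.of_le
    ((isMulComm_iff_le_cent.1 (h.ab P hP.pgrp)).trans (cent_le_cent1 hz)) le_top)).resolve_right ?_
  rintro ⟨Q, hQ, hn⟩
  exact hz1 (h.ex hQ (isPiElt_of_mem ((isPi_singleton_iff h.hp).2 hP.pgrp) hz)
    (mem_cent_iff_cent1.2 hn.1))

theorem uniq {P P' : Subgroup G} (hP : IsSyl p P ⊤) (hP' : IsSyl p P' ⊤) {z z' s : G} (hz : z ∈ P)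
    (hz1 : z ≠ 1) (hz' : z' ∈ P') (hz'1 : z' ≠ 1) (hs1 : s ≠ 1) (hs : s * s = 1) (hc : z ∈ 𝐂[s])
    (hc' : z' ∈ 𝐂[s]) : P' = P := by
  have a1 := isPiElt_of_mem ((isPi_singleton_iff h.hp).2 hP'.pgrp) hz'
  have h1 := hP.le_of_norm h.hp ((isPiElt_singleton_iff h.hp).1 a1) le_top (zpowers_le.2
    (h.uq hP hz hz1 hs1 hs hc (h.comm hs1 hs a1 (isPiElt_of_mem ((isPi_singleton_iff h.hp).2
    hP.pgrp) hz) hc' hc))) (mem_zpowers z')
  exact hP.eq_of_le h.hp (hP'.le_of_norm h.hp hP.pgrp le_top (((isMulComm_iff_le_cent.1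
    (h.ab P hP.pgrp)).trans (cent_le_cent1 h1)).trans (h.uq hP' hz' hz'1 hs1 hs hc'))) le_top hP'.pgrp

theorem caseB {t x₀ : G} (ht1 : t ≠ 1) (ht : t * t = 1) (hx₀ : IsPiElt {p} x₀)
    (hc₀ : Commute t x₀) (hx₀1 : x₀ ≠ 1) : False := by
  have := h.simple
  obtain ⟨P, hP, hxP⟩ := exists_isSyl_ge h.hp ((isPiElt_singleton_iff h.hp).1 hx₀) le_top
  have hxP := hxP (mem_zpowers x₀)
  have hPe : ∀ x ∈ P, IsPiElt {p} x := fun x hx =>
    isPiElt_of_mem ((isPi_singleton_iff h.hp).2 hP.pgrp) hx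
  obtain ⟨Q, hQ, htQ⟩ := exists_syl ht
  obtain ⟨hq, hsq, x, hx, hx1, hx2⟩ := h.syl hQ
  have hQt : Q ≤ 𝐂[t] := (h.syl_ab hQ).trans (cent_le_cent1 htQ)
  have hcj : ∀ g z : G, z ∈ P → z ≠ 1 → z ∈ 𝐂[g * t * g⁻¹] → g ∈ 𝐍(P) := fun g z hz hz1 hc =>
    conj_eq_self_iff.1 (h.uniq hP (hP.conj_of_mem_norm (norm_top.ge (mem_top g))) hz hz1
      (conj_mem_conj hxP g) (by simpa) (by simpa) (conj_invol ht g) hc
      (cent1_conj t g ▸ conj_mem_conj (mem_cent1.2 hc₀.eq) g))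
  have hQP : Q ≤ 𝐍(P) := fun g hg => hcj g x₀ hxP hx₀1 (by
    rw [mem_cent1_iff_conj.1 (hQt hg)]; exact mem_cent1.2 hc₀.eq)
  have h1 : ∀ s ∈ Q, s ≠ 1 → ∀ z ∈ P, z ≠ 1 → z ∈ 𝐂[s] → s = t := fun s hs hs1 z hz hz1 hc => by
    obtain ⟨g, hg, rfl⟩ := (trans_of_card_le h.hp hx1 hx hx2 hq.le).2 t htQ ht1 s hs hs1
    have a1 := hP.le_of_norm h.hp ((isPiElt_singleton_iff h.hp).1 (hx1.of_mem_zpowers hg)) le_top
      (zpowers_le.2 (hcj g z hz hz1 hc)) (mem_zpowers g)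
    exact mem_cent1_iff_conj.1 (cent_le_cent1 htQ (le_cent_of_norm_of_coprime (A := Q)
      (B := P ⊓ 𝐍(Q)) inf_le_right (H1.le_normalizer_inf hQP (le_normalizer.trans le_normalizer))
      (coprime_card_of_isPGroup Nat.prime_two h.hp h.hp2.symm hQ.pgrp (hP.pgrp.to_le inf_le_left))
      (mem_inf.2 ⟨a1, zpowers_le.2 hx hg⟩)))
  have h2 : ∀ s ∈ Q, s ≠ 1 → s ≠ t → ∀ a ∈ P, s * a * s = a⁻¹ := fun s hs hs1 hst =>
    L.inverts_of_fpf (hsq s hs) (hQP hs) fun a ha hc => by_contra fun ha1 =>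
      hst (h1 s hs hs1 a ha ha1 (mem_cent1.2 hc.eq))
  have h7 := h.hp.two_le
  have h8 := h.hp2
  obtain ⟨s, hs, hs1, hst⟩ : ∃ s ∈ Q, s ≠ 1 ∧ s ≠ t := by
    by_contra! hne
    have a1 := Set.ncard_le_ncard (show sharp Q ⊆ {t} from fun s hs => hne s hs.1 hs.2)
    rw [ncard_sharp, Set.ncard_singleton] at a1
    omega
  have h3 : ∀ s' ∈ Q, s' ≠ 1 → s' ≠ t → s * s' ∈ 𝐂(P) := fun s' a1 a2 a3 =>
    mul_mem_cent (hsq s' a1) (h2 s hs hs1 hst) (hsq s hs) (h2 s' a1 a2 a3)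
  have htP : t ∈ 𝐂(P) := by
    have := h3 (s * t) (mul_mem hs htQ) (fun e => hst (by
      rw [← mul_left_inj t, e, ht])) (by simpa)
    rwa [← mul_assoc, hsq s hs, one_mul] at this
  have h4 : sharp Q ⊆ {t, s, s * t} := fun s' hs' => by
    by_cases a1 : s' = t
    · simp [a1]
    by_cases a2 : s * s' = 1
    · simp [(mul_right_inj s).1 (a2.trans (hsq s hs).symm)]
    have := h1 _ (mul_mem hs hs'.1) a2 x₀ hxP hx₀1 (mem_cent1_comm.1
      (cent_le_cent1 hxP (h3 s' hs'.1 hs'.2 a1)))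
    simp [← this, ← mul_assoc, hsq s hs]
  have h5 : ¬ 8 ∣ Nat.card G := fun hd => by
    have a1 := (Set.ncard_le_ncard h4).trans (Set.ncard_insert_le _ _ |>.trans
      (Nat.succ_le_succ (Set.ncard_insert_le _ _)))
    rw [ncard_sharp, Set.ncard_singleton, hQ.card_eq_pow_factorization Nat.prime_two, card_top] at a1
    have a2 := Nat.pow_le_pow_right two_pos ((Nat.prime_two.pow_dvd_iff_le_factorization
      (k := 3) Nat.card_pos.ne').1 hd)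
    omega
  have h6 : 𝐍(P) ≤ 𝐂[t] := le_of_forall_exists_isSyl_le fun r hr hd => by
    rcases h.pi (h.norm_ne h.hp hP.pgrp fun e => hx₀1 (mem_bot.1 (e ▸ hxP)))
      (two_dvd_of_mem ht1 ht (hQP htQ)) r hr hd with rfl | rfl
    · exact ⟨Q, hQ.of_le hQP le_top, hQt⟩
    · exact ⟨P, hP.of_le le_normalizer le_top, mem_cent_iff_cent1.1 htP⟩
  have h9 : ∀ z ∈ P, z ≠ 1 → ∀ v : G, v ≠ 1 → v * v = 1 → Commute z v → v = t :=
    fun z hz hz1 v hv1 hv hc => by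
      obtain ⟨g, hg, a1⟩ := (hQ.of_le hQP le_top).exists_conj_le Nat.prime_two
        (isPGroup_two_zpowers hv) (zpowers_le.2 (h.uq hP hz hz1 hv1 hv (mem_cent1.2 hc.symm.eq)
        (mem_cent1.2 hc.eq)))
      have a2 := h1 _ (a1 (conj_mem_conj (mem_zpowers v) g)) (by simpa) _
        (conj_le_of_mem_norm le_rfl hg (conj_mem_conj hz g)) (by simpa)
        (cent1_conj v g ▸ conj_mem_conj (mem_cent1.2 hc.symm.eq) g)
      rw [← mem_cent1_iff_conj.1 (h6 hg)] at a2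
      simpa using a2
  obtain ⟨v, hv1, hv, hc⟩ := exists_invol_commute_of_unique h5 h.hp2 ht1 ht (fun u w _ hu hr r hr' hd => by
    have a1 := h.sq_isPiElt hu (show u * w * (u * w) = 1 by rw [← mul_assoc, hr, inv_mul_cancel])
    rw [← mul_assoc, hu, one_mul] at a1
    refine ((Nat.Prime.dvd_mul hr').1 (hd.trans (orderOf_dvd_of_pow_eq_one (n := 2 * orderOf (w ^ 2))
      (by rw [pow_mul, pow_orderOf_eq_one])))).imp
      (Nat.prime_dvd_prime_iff_eq hr' Nat.prime_two).1 (a1 r hr')) fun z hz1 hz => by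
    obtain ⟨g, -, a1⟩ := hP.exists_conj_le h.hp ((isPiElt_singleton_iff h.hp).1 hz) le_top
    have a2 := a1 (conj_mem_conj (mem_zpowers z) g)
    refine ⟨g⁻¹ * t * g, ⟨by simpa using (MulAut.conj g⁻¹).map_ne_one_iff.2 ht1,
      by simpa using conj_invol ht g⁻¹, ?_⟩, fun v ⟨b1, b2, b3⟩ => ?_⟩
    · simpa [mul_assoc] using (show Commute _ _ from htP _ a2).map (MulAut.conj g⁻¹)
    · rw [← h9 _ a2 (by simpa) (g * v * g⁻¹) (by simpa) (conj_invol b2 g)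
        (b3.map (MulAut.conj g))]
      group
  exact not_commute_all_invol h.card_ne_two hv1 hv hc

theorem false : False := by
  by_cases hB : ∀ t x : G, t ≠ 1 → t * t = 1 → IsPiElt {p} x → Commute t x → x = 1
  · exact h.caseA hB
  push Not at hB
  obtain ⟨t, x, a1, a2, a3, a4, a5⟩ := hB
  exact h.caseB a1 a2 a3 a4 a5

end Min

theorem isSolvable (hp : p.Prime) (hp2 : p ≠ 2) (G : Type u) [Group G] [Finite G] :
    Hyp p G → Group.IsSolvable G := by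
  refine isSolvable_of_minSimple (P := fun G _ _ => Hyp p G) (fun G _ _ H h => ⟨fun K a1 a2 => ?_,
    fun U hU => ?_, fun P hP => ?_⟩) (fun G _ _ N _ _ h => ⟨fun K a1 a2 => ?_,
    fun U hU => ?_, fun P hP => ?_⟩)
    (fun G _ _ hs h a1 a2 => Min.false ⟨h, hp, hp2, hs, a1, a2⟩) G
  · rw [← card_map_inj H.subtype_injective] at a1 a2
    exact (isPGroup_map_iff H.subtype_injective).1 (h.mix _ a1 a2)
  · rw [← card_map_inj H.subtype_injective]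
    exact h.two _ (hU.map _)
  · exact (isMulComm_map_iff H.subtype_injective).1 (h.ab _ (hP.map _))
  · obtain ⟨L, rfl, hL⟩ := exists_map_eq_of_primes _ (QuotientGroup.mk'_surjective N) K
    exact (h.mix L (fun hd => a1 (hL p hp hd)) (a2.trans (card_map_dvd _ _))).map _
  · obtain ⟨L, rfl, hL⟩ := exists_map_eq_of_primes _ (QuotientGroup.mk'_surjective N) U
    exact (Nat.le_of_dvd Nat.card_pos (card_map_dvd _ _)).trans (h.two L ((isPi_singleton_iff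
      Nat.prime_two).1 fun r hr hd => eq_of_prime_dvd_card_of_isPGroup Nat.prime_two hr hU (hL r hr hd)))
  · obtain ⟨L, rfl, hL⟩ := exists_map_eq_of_primes _ (QuotientGroup.mk'_surjective N) P
    have := h.ab L ((isPi_singleton_iff hp).1 fun r hr hd =>
      eq_of_prime_dvd_card_of_isPGroup hp hr hP (hL r hr hd))
    infer_instance

end Cfsg.Agent.H5.Mers
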