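import Mathlib
import Cfsg.Prelude.Def_Transfer
import Cfsg.Agent.H1.PAction
import Cfsg.Agent.H3.PBasic
import Cfsg.Agent.H7.Frattini
import Cfsg.Agent.L.MinNormal

/-! Odd `p`-groups: `Ω₁(C_P(A)) = A` for a maximal normal elementary abelian subgroup `A`;
groups whose elements of order `p` are central. -/

set_option autoImplicit false

namespace Cfsg.Agent.H5

open Subgroup
open scoped commutatorElement

universe u

variable {G : Type u} [Group G]

theorem odd_choose_two {p : ℕ} (hp : Odd p) : p ∣ p.choose 2 := by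
  obtain ⟨k, rfl⟩ := hp
  have : (2 * k + 1).choose 2 = (2 * k + 1) * k := by
    rw [Nat.choose_two_right, Nat.add_sub_cancel, mul_comm 2 k, ← mul_assoc,
      Nat.mul_div_cancel _ two_pos]
  rw [this]; exact dvd_mul_right _ _

theorem mul_pow_of_comm_central {p : ℕ} (hp : Odd p) {x y : G} (hx : Commute x ⁅y, x⁆)
    (hy : Commute y ⁅y, x⁆) (he : ⁅y, x⁆ ^ p = 1) : (x * y) ^ p = x ^ p * y ^ p := by
  rw [H1.mul_pow_of_central hx hy]
  obtain ⟨k, hk⟩ := odd_choose_two hp
  rw [hk, pow_mul, he, one_pow, mul_one]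

/-- An element of order `p` centralizing `Ω₁(B)` centralizes `B / Ω₁(B)` (`p` odd). -/
theorem commutator_pow_eq_one_of_cent_omega {p : ℕ} (hp : Odd p) {B : Subgroup G}
    (hB : IsMulCommutative B) {x : G} (hxB : ∀ b ∈ B, x * b * x⁻¹ ∈ B) (hx : x ^ p = 1)
    (hc : ∀ b ∈ B, b ^ p = 1 → x * b * x⁻¹ = b) (e : ℕ) :
    ∀ b ∈ B, b ^ p ^ e = 1 → (x * b * x⁻¹ * b⁻¹) ^ p = 1 := by
  have hcomm : ∀ a ∈ B, ∀ b ∈ B, Commute a b := fun a ha b hb =>
    congrArg Subtype.val (hB.is_comm.comm ⟨a, ha⟩ ⟨b, hb⟩)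
  have hδ : ∀ b ∈ B, ∀ n : ℕ, (x * b * x⁻¹ * b⁻¹) ^ n = x * b ^ n * x⁻¹ * (b ^ n)⁻¹ := by
    intro b hb n
    rw [(hcomm _ (hxB b hb) _ (B.inv_mem hb)).mul_pow, conj_pow, inv_pow]
  induction e with
  | zero =>
    intro b _ h
    rw [pow_zero, pow_one] at h
    subst h; simp
  | succ e ih =>
    intro b hb h
    set c := x * b * x⁻¹ * b⁻¹ with hcdef
    have hcB : c ∈ B := B.mul_mem (hxB b hb) (B.inv_mem hb)
    have hce : c ^ p ^ e = 1 := by
      rw [hcdef, hδ b hb, hc _ (B.pow_mem hb _) (by rw [← pow_mul, ← pow_succ, h]),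
        mul_inv_cancel]
    set d := x * c * x⁻¹ * c⁻¹ with hddef
    have hdB : d ∈ B := B.mul_mem (hxB c hcB) (B.inv_mem hcB)
    have hdp : d ^ p = 1 := ih c hcB hce
    have hxd : x * d * x⁻¹ = d := hc d hdB hdp
    have hxb : x * b * x⁻¹ = c * b := by rw [hcdef]; group
    have hxc : x * c * x⁻¹ = d * c := by rw [hddef]; group
    have key : ∀ n : ℕ, x ^ n * b * (x ^ n)⁻¹ = d ^ n.choose 2 * c ^ n * b := by
      intro n
      induction n with
      | zero => simp
      | succ n ihn =>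
        have : x ^ (n + 1) * b * (x ^ (n + 1))⁻¹ = x * (x ^ n * b * (x ^ n)⁻¹) * x⁻¹ := by group
        rw [this, ihn]
        have h2 : x * (d ^ n.choose 2 * c ^ n * b) * x⁻¹ =
            (x * d * x⁻¹) ^ n.choose 2 * (x * c * x⁻¹) ^ n * (x * b * x⁻¹) := by
          rw [conj_pow, conj_pow]; group
        rw [h2, hxd, hxc, hxb, (hcomm d hdB c hcB).mul_pow, Nat.choose_succ_succ',
          Nat.choose_one_right, add_comm n, pow_add, pow_succ c]
        group
    have h3 := key p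
    obtain ⟨k, hk⟩ := odd_choose_two hp
    rw [hx, hk, pow_mul, hdp] at h3
    simpa using h3.symm

/-- **Alperin, Feit–Thompson**: for odd `p` and a maximal normal elementary abelian subgroup `A`
of the `p`-group `G`, every element of order `p` centralizing `A` lies in `A`. -/
theorem mem_of_cent_max_normal_elemAb [Finite G] {p : ℕ} [hp : Fact p.Prime] (hp2 : p ≠ 2)
    (hG : IsPGroup p G) {A : Subgroup G} [hAn : A.Normal] (hA : IsElementaryAbelian p A)
    (hmax : ∀ B : Subgroup G, B.Normal → IsElementaryAbelian p B → A ≤ B → B = A)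
    {x : G} (hxc : x ∈ centralizer (A : Set G)) (hx : x ^ p = 1) : x ∈ A := by
  have hodd : Odd p := hp.out.odd_of_ne_two hp2
  have := hG.isNilpotent
  obtain ⟨B, hAB, hBn, hBc, hBC⟩ := H3.exists_selfCentralizing_normal_ge A hA.1
  have hcomm : ∀ a ∈ B, ∀ b ∈ B, Commute a b := fun a ha b hb =>
    congrArg Subtype.val (hBc.is_comm.comm ⟨a, ha⟩ ⟨b, hb⟩)
  -- `Ω₁(B) = A`
  have hΩ : ∀ b ∈ B, b ^ p = 1 → b ∈ A := by
    let W : Subgroup G :=
      { carrier := {b | b ∈ B ∧ b ^ p = 1}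
        mul_mem' := fun {a b} ha hb => ⟨B.mul_mem ha.1 hb.1, by
          rw [(hcomm a ha.1 b hb.1).mul_pow, ha.2, hb.2, mul_one]⟩
        one_mem' := ⟨B.one_mem, one_pow _⟩
        inv_mem' := fun {a} ha => ⟨B.inv_mem ha.1, by rw [inv_pow, ha.2, inv_one]⟩ }
    have hW : W = A := hmax W
      ⟨fun b hb g => ⟨hBn.conj_mem b hb.1 g, by rw [conj_pow, hb.2]; simp⟩⟩
      ⟨⟨⟨fun a b => Subtype.ext (hcomm a a.2.1 b b.2.1)⟩⟩, fun a ha => ha.2⟩
      (fun a ha => ⟨hAB ha, hA.2 a ha⟩)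
    intro b hb h
    rw [← hW]; exact ⟨hb, h⟩
  have hcA : ∀ y ∈ centralizer (A : Set G), ∀ a ∈ A, y * a * y⁻¹ = a := fun y hy a ha => by
    rw [← mem_centralizer_iff.1 hy a ha]; group
  have hstab : ∀ y ∈ centralizer (A : Set G), y ^ p = 1 → ∀ b ∈ B, y * b * y⁻¹ * b⁻¹ ∈ A := by
    intro y hy hyp b hb
    obtain ⟨e, he⟩ := hG b
    exact hΩ _ (B.mul_mem (hBn.conj_mem b hb y) (B.inv_mem hb))
      (commutator_pow_eq_one_of_cent_omega hodd hBc (fun b hb => hBn.conj_mem b hb y) hyp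
        (fun b hb h => hcA y hy b (hΩ b hb h)) e b hb he)
  have hcommB : ∀ y ∈ centralizer (A : Set G), y ^ p = 1 → ∀ z ∈ centralizer (A : Set G),
      z ^ p = 1 → ⁅y, z⁆ ∈ B := by
    intro y hy hyp z hz hzp
    rw [← hBC, mem_centralizer_iff]
    intro b hb
    -- `y z` and `z y` act in the same way on `B`
    have key : ∀ b ∈ B, y * z * b * (y * z)⁻¹ = z * y * b * (z * y)⁻¹ := by
      intro b hb
      have h1 := hstab y hy hyp b hb
      have h2 := hstab z hz hzp b hb
      obtain ⟨a, ha⟩ : ∃ a, a = y * b * y⁻¹ * b⁻¹ := ⟨_, rfl⟩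
      obtain ⟨c, hc⟩ : ∃ c, c = z * b * z⁻¹ * b⁻¹ := ⟨_, rfl⟩
      rw [← ha] at h1
      rw [← hc] at h2
      have e1 : y * b * y⁻¹ = a * b := by simp [ha]
      have e2 : z * b * z⁻¹ = c * b := by simp [hc]
      calc y * z * b * (y * z)⁻¹ = y * (z * b * z⁻¹) * y⁻¹ := by group
        _ = (y * c * y⁻¹) * (y * b * y⁻¹) := by rw [e2]; group
        _ = c * a * b := by rw [hcA y hy c h2, e1, mul_assoc]
        _ = a * c * b := by rw [(hcomm c (hAB h2) a (hAB h1)).eq]
        _ = (z * a * z⁻¹) * (z * b * z⁻¹) := by rw [hcA z hz a h1, e2, mul_assoc]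
        _ = z * (y * b * y⁻¹) * z⁻¹ := by rw [e1]; group
        _ = z * y * b * (z * y)⁻¹ := by group
    have h3 := key ((z * y)⁻¹ * b * (z * y)) (by simpa using hBn.conj_mem b hb (z * y)⁻¹)
    rw [commutatorElement_def]
    calc b * (y * z * y⁻¹ * z⁻¹) = (z * y * ((z * y)⁻¹ * b * (z * y)) * (z * y)⁻¹) *
          (y * z * y⁻¹ * z⁻¹) := by group
      _ = y * z * y⁻¹ * z⁻¹ * b * (z * y * z⁻¹ * y⁻¹ * (y * z * y⁻¹ * z⁻¹)) := by
          rw [← h3]; group
      _ = y * z * y⁻¹ * z⁻¹ * b := by group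
  -- the elements of order `p` in `C(A)` are closed under multiplication
  have hmul : ∀ n : ℕ, ∀ y ∈ centralizer (A : Set G), y ^ p = 1 → ∀ z ∈ centralizer (A : Set G),
      z ^ p = 1 → Nat.card (closure ({y, z} : Set G)) = n → (y * z) ^ p = 1 := by
    intro n
    induction n using Nat.strong_induction_on with
    | _ n ih =>
    intro y hy hyp z hz hzp hn
    by_cases hyz : Commute y z
    · rw [hyz.mul_pow, hyp, hzp, mul_one]
    set H := closure ({y, z} : Set G) with hH
    have hyH : y ∈ H := subset_closure (by simp)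
    have hzH : z ∈ H := subset_closure (by simp)
    have hne : zpowers (⟨y, hyH⟩ : H) ≠ ⊤ := by
      intro h
      have : (⟨z, hzH⟩ : H) ∈ zpowers (⟨y, hyH⟩ : H) := h ▸ mem_top _
      obtain ⟨k, hk⟩ := mem_zpowers_iff.1 this
      have hk' : y ^ k = z := by simpa using congrArg Subtype.val hk
      exact hyz (hk' ▸ (Commute.refl y).zpow_right k)
    obtain ⟨M, hM, hyM⟩ := (eq_top_or_exists_le_coatom _).resolve_left hne
    have : Group.IsNilpotent H := (hG.to_subgroup H).isNilpotent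
    have hMn := H3.normal_of_isCoatom hM
    have h1 : (⟨y, hyH⟩ : H) ∈ M := hyM (mem_zpowers _)
    have h2 := hMn.conj_mem _ h1 ⟨z, hzH⟩
    have hlt : closure ({z * y * z⁻¹, y⁻¹} : Set G) < H := by
      refine lt_of_le_of_lt (b := M.map H.subtype) ?_ ?_
      · rw [closure_le]
        rintro w (rfl | rfl)
        · exact ⟨_, h2, rfl⟩
        · exact ⟨_, M.inv_mem h1, rfl⟩
      · refine lt_of_le_of_ne (map_subtype_le _) fun h => hM.1 ?_
        rw [eq_top_iff]
        intro w _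
        have : (w : G) ∈ M.map H.subtype := by rw [h]; exact w.2
        obtain ⟨v, hv, hvw⟩ := this
        rwa [← Subtype.ext hvw]
    have hzy : (z * y * z⁻¹ * y⁻¹) ^ p = 1 :=
      ih _ (hn ▸ L.card_lt_of_lt hlt) _
        (mul_mem (mul_mem hz hy) (inv_mem hz)) (by rw [conj_pow, hyp]; simp) _ (inv_mem hy)
        (by rw [inv_pow, hyp, inv_one]) rfl
    have hcA' : ⁅z, y⁆ ∈ A := hΩ _ (hcommB z hz hzp y hy hyp) hzy
    rw [mul_pow_of_comm_central hodd (mem_centralizer_iff.1 hy _ hcA').symm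
      (mem_centralizer_iff.1 hz _ hcA').symm hzy, hyp, hzp, mul_one]
  let S : Subgroup G :=
    { carrier := {y | y ∈ centralizer (A : Set G) ∧ y ^ p = 1}
      mul_mem' := fun {a b} ha hb => ⟨mul_mem ha.1 hb.1, hmul _ a ha.1 ha.2 b hb.1 hb.2 rfl⟩
      one_mem' := ⟨one_mem _, one_pow _⟩
      inv_mem' := fun {a} ha => ⟨inv_mem ha.1, by rw [inv_pow, ha.2, inv_one]⟩ }
  have hSn : S.Normal := ⟨fun b hb g =>
    ⟨(Subgroup.normal_centralizer (H := A)).conj_mem b hb.1 g, by rw [conj_pow, hb.2]; simp⟩⟩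
  have hAS : A ≤ S := fun a ha => ⟨mem_centralizer_iff.2 fun b hb =>
    congrArg Subtype.val (hA.1.is_comm.comm ⟨b, hb⟩ ⟨a, ha⟩), hA.2 a ha⟩
  by_contra hxA
  have hlt : A < S := lt_of_le_of_ne hAS fun h => hxA (h ▸ ⟨hxc, hx⟩)
  obtain ⟨K, hKn, hAK, hKS, hKc, -⟩ := H3.exists_normal_card_eq_mul hG hlt
  have hAK' : A ≠ K := fun h => by
    rw [← h] at hKc
    have := Nat.card_pos (α := A)
    have := hp.out.two_le
    nlinarith
  obtain ⟨k, hkK, hkA⟩ := SetLike.exists_of_lt (lt_of_le_of_ne hAK hAK')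
  have hKeq : A ⊔ zpowers k = K := by
    have hle : A ⊔ zpowers k ≤ K := sup_le hAK (zpowers_le.2 hkK)
    have h1 := H3.card_mul_relIndex (le_sup_left : A ≤ A ⊔ zpowers k)
    have h2 := H3.card_mul_relIndex hle
    have h3 : A.relIndex (A ⊔ zpowers k) ≠ 1 := fun h =>
      hkA (relIndex_eq_one.1 h (mem_sup_right (mem_zpowers k)))
    rw [← h1, hKc, mul_assoc, mul_comm p] at h2
    have h4 := Nat.eq_of_mul_eq_mul_left Nat.card_pos h2
    rcases (Nat.dvd_prime hp.out).1 (Dvd.intro _ h4) with h | h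
    · exact absurd h h3
    · rw [h] at h4
      have : (A ⊔ zpowers k).relIndex K = 1 :=
        Nat.eq_of_mul_eq_mul_left hp.out.pos (by rw [h4, mul_one])
      exact le_antisymm hle (relIndex_eq_one.1 this)
  refine hAK' (hmax K hKn ⟨?_, fun a ha => (hKS ha).2⟩ hAK).symm
  rw [← hKeq]
  exact H3.isMulCommutative_sup_zpowers hA.1 (hKS hkK).1

theorem exists_max_normal_elemAb [Finite G] (p : ℕ) (Z : Subgroup G) [hZn : Z.Normal]
    (hZ : IsElementaryAbelian p Z) : ∃ A : Subgroup G, Z ≤ A ∧ A.Normal ∧ IsElementaryAbelian p A ∧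
      ∀ B : Subgroup G, B.Normal → IsElementaryAbelian p B → A ≤ B → B = A := by
  obtain ⟨A, hZA, hA⟩ := exists_maximal_ge_of_wellFoundedGT
    (fun B : Subgroup G => B.Normal ∧ IsElementaryAbelian p B) Z ⟨hZn, hZ⟩
  exact ⟨A, hZA, hA.1.1, hA.1.2, fun B h1 h2 h3 => (hA.eq_of_le ⟨h1, h2⟩ h3).symm⟩

/-- If the elements of order `p` (odd) of the `p`-group `G` are central, `G` needs at most
`rank Ω₁(G)` generators (Thompson). -/
theorem index_frattini_le_of_pCentral {p : ℕ} [hp : Fact p.Prime] (hp2 : p ≠ 2)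
    (G : Type u) [Group G] [Finite G] : IsPGroup p G → (∀ x : G, x ^ p = 1 → x ∈ center G) →
      (frattini G).index ≤ Nat.card {x : G // x ^ p = 1} := by
  refine L.induction_on_card (P := fun G _ _ => IsPGroup p G →
    (∀ x : G, x ^ p = 1 → x ∈ center G) → (frattini G).index ≤ Nat.card {x : G // x ^ p = 1}) G ?_
  intro G _ _ ih hG hc
  have hodd : Odd p := hp.out.odd_of_ne_two hp2
  let W : Subgroup G :=
    { carrier := {b | b ^ p = 1}
      mul_mem' := fun {a b} ha hb => by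
        have : Commute a b := (mem_center_iff.1 (hc b hb) a)
        change (a * b) ^ p = 1
        rw [this.mul_pow, ha, hb, mul_one]
      one_mem' := one_pow _
      inv_mem' := fun {a} ha => by
        change a⁻¹ ^ p = 1
        rw [inv_pow, ha, inv_one] }
  have hW : ∀ x, x ∈ W ↔ x ^ p = 1 := fun x => Iff.rfl
  have hWc : W ≤ center G := fun x hx => hc x hx
  have hWn : W.Normal := H3.normal_of_le_center hWc
  change _ ≤ Nat.card W
  by_cases hWΦ : W ≤ frattini G
  · by_cases hW1 : W = ⊥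
    · have : Subsingleton G := by
        by_contra hn
        rw [not_subsingleton_iff_nontrivial] at hn
        obtain ⟨x, hx⟩ := exists_ne (1 : G)
        obtain ⟨k, hk⟩ := H3.exists_pow_orderOf_eq_prime hG hx
        have h1 : x ^ k ∈ W := by rw [hW, ← hk, pow_orderOf_eq_one]
        rw [hW1, mem_bot] at h1
        rw [h1, orderOf_one] at hk
        exact hp.out.one_lt.ne hk
      rw [Subsingleton.elim (frattini G) ⊤, index_top]
      exact Nat.card_pos
    have hGq : IsPGroup p (G ⧸ W) := hG.to_quotient W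
    obtain ⟨A, -, hAn, hA, hmax⟩ := exists_max_normal_elemAb p (⊥ : Subgroup (G ⧸ W))
      ⟨inferInstance, by simp⟩
    have hAW : ∀ a : G, (a : G ⧸ W) ∈ A → a ^ p ∈ W := fun a ha => by
      rw [← QuotientGroup.eq_one_iff, QuotientGroup.mk_pow]; exact hA.2 _ ha
    have hAc : ∀ a b : G, (a : G ⧸ W) ∈ A → (b : G ⧸ W) ∈ A → (a * b) ^ p = a ^ p * b ^ p := by
      intro a b ha hb
      have h1 : ⁅b, a⁆ ∈ W := by
        rw [← QuotientGroup.eq_one_iff]
        change QuotientGroup.mk' W ⁅b, a⁆ = 1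
        rw [map_commutatorElement, commutatorElement_eq_one_iff_mul_comm]
        exact congrArg Subtype.val (hA.1.is_comm.comm ⟨_, hb⟩ ⟨_, ha⟩)
      exact mul_pow_of_comm_central hodd (mem_center_iff.1 (hWc h1) a)
        (mem_center_iff.1 (hWc h1) b) h1
    have hAZ : A ≤ center (G ⧸ W) := by
      intro a ha
      obtain ⟨a, rfl⟩ := QuotientGroup.mk_surjective a
      rw [mem_center_iff]
      intro g
      obtain ⟨g, rfl⟩ := QuotientGroup.mk_surjective g
      have h1 : ((g * a * g⁻¹ : G) : G ⧸ W) ∈ A := hAn.conj_mem _ ha (g : G ⧸ W)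
      have h2 : g * a * g⁻¹ * a⁻¹ ∈ W := by
        rw [hW, hAc _ _ h1 (A.inv_mem ha), conj_pow, mem_center_iff.1 (hWc (hAW a ha)) g]
        group
      rw [← QuotientGroup.eq_one_iff] at h2
      simp only [QuotientGroup.mk_mul, QuotientGroup.mk_inv] at h2
      rw [mul_inv_eq_one, mul_inv_eq_iff_eq_mul] at h2
      exact h2
    have hΩ : ∀ x : G ⧸ W, x ^ p = 1 → x ∈ A := fun x hx =>
      mem_of_cent_max_normal_elemAb hp2 hGq hA hmax
        (mem_centralizer_iff.2 fun a ha => (mem_center_iff.1 (hAZ ha) x).symm) hx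
    have h1 := ih (G ⧸ W) (L.card_quotient_lt W hW1) hGq fun x hx => hAZ (hΩ x hx)
    rw [← H3.map_frattini_of_surjective hG (QuotientGroup.mk' W) (QuotientGroup.mk'_surjective W),
      index_map_eq _ (QuotientGroup.mk'_surjective W) (by rwa [QuotientGroup.ker_mk'])] at h1
    refine h1.trans (Nat.card_le_card_of_injective
      (fun x => (⟨x.1.out ^ p, hAW _ (by rw [QuotientGroup.out_eq']; exact hΩ _ x.2)⟩ : W)) ?_)
    intro x y hxy
    have h2 : x.1.out ^ p = y.1.out ^ p := congrArg Subtype.val hxy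
    have hx : ((x.1.out : G) : G ⧸ W) ∈ A := by rw [QuotientGroup.out_eq']; exact hΩ _ x.2
    have hy : ((y.1.out : G) : G ⧸ W) ∈ A := by rw [QuotientGroup.out_eq']; exact hΩ _ y.2
    have h3 : x.1.out⁻¹ * y.1.out ∈ W := by
      rw [hW, hAc _ _ (A.inv_mem hx) hy, inv_pow, h2, inv_mul_cancel]
    rw [← QuotientGroup.eq, QuotientGroup.out_eq', QuotientGroup.out_eq'] at h3
    exact Subtype.ext h3
  · obtain ⟨M, hM, hWM⟩ : ∃ M : Subgroup G, IsCoatom M ∧ ¬ W ≤ M := by
      by_contra! h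
      exact hWΦ ((H7.le_frattini_iff W).2 h)
    have hMi := H3.index_eq_of_isCoatom hG hM
    have := hG.isNilpotent
    have hMn := H3.normal_of_isCoatom hM
    have h1 := ih M (L.card_lt_of_ne_top hM.1) (hG.to_subgroup M) fun x hx =>
      mem_center_iff.2 fun y => Subtype.ext
        (mem_center_iff.1 (hc x (by simpa using congrArg Subtype.val hx)) y)
    have h2 : Nat.card {x : M // x ^ p = 1} ≤ Nat.card (M ⊓ W : Subgroup G) :=
      Nat.card_le_card_of_injective (fun x => ⟨x.1, x.1.2, by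
        change (x.1 : G) ^ p = 1
        simpa using congrArg Subtype.val x.2⟩)
        fun x y h => Subtype.ext (Subtype.ext (congrArg (fun z : (M ⊓ W : Subgroup G) => (z : G)) h))
    have h3 := H3.card_inf_mul_relIndex M W
    have h4 : M.relIndex W = p := by
      have := relIndex_dvd_index_of_normal M W
      rw [hMi] at this
      rcases (Nat.dvd_prime hp.out).1 this with h | h
      · exact absurd (relIndex_eq_one.1 h) hWM
      · exact h
    have h5 : (frattini G).index ≤ ((frattini M).map M.subtype).index :=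
      index_antitone (H3.map_frattini_le hG M)
    rw [index_map_subtype, hMi] at h5
    rw [← h3, h4]
    exact h5.trans (Nat.mul_le_mul_right _ (h1.trans h2))

end Cfsg.Agent.H5
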