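import Cfsg.Agent.FT.Final
import Cfsg.Agent.H5.Kegel
import Cfsg.Agent.H1.PStd
import Cfsg.Agent.H9.FrobKernel
import Cfsg.Agent.L.BaerSuzuki
import Cfsg.Agent.L.Invol

/-! Partitions of finite groups: basic facts. -/

set_option autoImplicit false

namespace Cfsg.Agent.H5

open Cfsg Subgroup Cfsg.Agent.L Cfsg.Agent.FT

universe u

variable {G : Type u} [Group G]

/-- A partition in function form: `c x` is the component of `x ≠ 1`. -/
structure Part (c : G → Subgroup G) : Prop where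
  mem : ∀ x, x ∈ c x
  eq : ∀ x y, x ≠ 1 → y ≠ 1 → y ∈ c x → c y = c x

/-- A nontrivial, conjugation invariant partition whose components of exponent 2 have order 2. -/
structure NP (c : G → Subgroup G) : Prop extends Part c where
  ne_top : ∀ x, x ≠ 1 → c x ≠ ⊤
  conj : ∀ g x, c (g * x * g⁻¹) = c x ^ᵍ g
  prim : ∀ x, x ≠ 1 → (∀ y ∈ c x, y * y = 1) → ∀ y ∈ c x, y = 1 ∨ y = x

theorem exists_np {d : G → Subgroup G} (hd : Part d) (hne : ∀ x, x ≠ 1 → d x ≠ ⊤) :
    ∃ c : G → Subgroup G, NP c ∧ ∀ x, c x ≤ d x := by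
  classical
  have hconj : ∀ (e : G → Subgroup G), Part e → ∀ g : G, Part fun x => e (g⁻¹ * x * g) ^ᵍ g := by
    intro e he g
    refine ⟨fun x => mem_conj.2 (he.mem _), fun x y hx hy h => ?_⟩
    have h1 : ∀ z : G, z ≠ 1 → g⁻¹ * z * g ≠ 1 := fun z hz e => hz (by
      calc z = g * (g⁻¹ * z * g) * g⁻¹ := by group
        _ = 1 := by rw [e]; group)
    show e (g⁻¹ * y * g) ^ᵍ g = e (g⁻¹ * x * g) ^ᵍ g
    rw [he.eq _ _ (h1 x hx) (h1 y hy) (mem_conj.1 h)]
  set c : G → Subgroup G := fun x => ⨅ e : {e : G → Subgroup G // Part e}, e.1 x with hc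
  have hmem : ∀ x y, y ∈ c x ↔ ∀ e : G → Subgroup G, Part e → y ∈ e x := fun x y => by
    simp only [hc, mem_iInf, Subtype.forall]
  have hpart : Part c := ⟨fun x => (hmem x x).2 fun e he => he.mem x, fun x y hx hy h => by
    ext z
    rw [hmem, hmem]
    refine forall_congr' fun e => forall_congr' fun he => ?_
    rw [he.eq x y hx hy ((hmem x y).1 h e he)]⟩
  have hle : ∀ e, Part e → ∀ x, c x ≤ e x := fun e he x y hy => (hmem x y).1 hy e he
  refine ⟨c, ⟨hpart, fun x hx e => hne x hx (top_le_iff.1 (e ▸ hle d hd x)), fun g x => ?_,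
    fun x hx h y hy => ?_⟩, hle d hd⟩
  · ext z
    rw [mem_conj, hmem, hmem]
    constructor
    · intro h e he
      have := h _ (hconj e he g)
      simp only [mem_conj] at this
      rwa [show g⁻¹ * (g * x * g⁻¹) * g = x by group] at this
    · intro h e he
      have := h _ (hconj e he g⁻¹)
      simp only [mem_conj, inv_inv] at this
      rwa [show g * (g⁻¹ * z * g) * g⁻¹ = z by group] at this
  · have hz : ∀ a b : G, a * a = 1 → b ∈ zpowers a → b = 1 ∨ b = a := by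
      rintro a b ha ⟨k, rfl⟩
      have h2 : a ^ (2 : ℤ) = 1 := by rw [zpow_two, ha]
      rcases Int.even_or_odd' k with ⟨m, rfl | rfl⟩
      · left; show a ^ (2 * m) = 1; rw [zpow_mul, h2, one_zpow]
      · right; show a ^ (2 * m + 1) = a; rw [zpow_add, zpow_mul, h2, one_zpow, one_mul, zpow_one]
    have he : Part fun w => if w ∈ c x then zpowers w else c w := by
      refine ⟨fun w => ?_, fun a b ha hb hab => ?_⟩
      · by_cases hw : w ∈ c x
        · simp only [hw, if_true]; exact mem_zpowers w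
        · simp only [hw, if_false]; exact hpart.mem w
      · by_cases h1 : a ∈ c x
        · simp only [h1, if_true] at hab ⊢
          rcases hz a b (h a h1) hab with e | e
          · exact absurd e hb
          · rw [e]; simp only [h1, if_true]
        · simp only [h1, if_false] at hab ⊢
          have h2 := hpart.eq a b ha hb hab
          have h3 : b ∉ c x := fun h3 => h1 (by
            rw [← hpart.eq x b hx hb h3, h2]; exact hpart.mem a)
          simp only [h3, if_false, h2]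
    have h4 := hle _ he x hy
    simp only [hpart.mem x, if_true] at h4
    exact hz x y (h x (hpart.mem x)) h4

theorem mul_pow_mul_inv_mem {H : Subgroup G} {g y : G} (hg : g ∈ 𝐍(H)) (hy : y ∈ H) (k : ℕ) :
    (y * g) ^ k * (g ^ k)⁻¹ ∈ H := by
  induction k with
  | zero => simp
  | succ k ih =>
    have h2 : g ^ k * y * (g ^ k)⁻¹ ∈ H := (mem_normalizer_iff.1 (pow_mem hg k) y).1 hy
    have := mul_mem ih h2
    rwa [show (y * g) ^ k * (g ^ k)⁻¹ * (g ^ k * y * (g ^ k)⁻¹) =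
      (y * g) ^ (k + 1) * (g ^ (k + 1))⁻¹ by rw [pow_succ, pow_succ]; group] at this

theorem mem_of_pow_mem_coprime {H : Subgroup G} {y : G} {m n : ℕ} (h : m.Coprime n)
    (h1 : y ^ m ∈ H) (h2 : y ^ n ∈ H) : y ∈ H := by
  have h3 := Nat.gcd_eq_gcd_ab m n
  rw [h.gcd_eq_one] at h3
  have h4 := mul_mem (zpow_mem h1 (m.gcdA n)) (zpow_mem h2 (m.gcdB n))
  rwa [← zpow_natCast, ← zpow_natCast, ← zpow_mul, ← zpow_mul, ← zpow_add, ← h3, Nat.cast_one,
    zpow_one] at h4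

theorem prime_dvd_orderOf_mul {H : Subgroup G} {g y : G} {p : ℕ} (hp : p.Prime) (hg : g ∈ 𝐍(H))
    (hgH : g ∉ H) (hgp : g ^ p ∈ H) (hy : y ∈ H) : p ∣ orderOf (y * g) := by
  by_contra h
  refine hgH (mem_of_pow_mem_coprime (hp.coprime_iff_not_dvd.2 h) hgp ?_)
  simpa using mul_pow_mul_inv_mem hg hy (orderOf (y * g))

namespace Part

variable {c : G → Subgroup G}

theorem mem_of_mem (h : Part c) {x y z : G} (hx : x ≠ 1) (hy : y ≠ 1) (hz : z ≠ 1)
    (h1 : z ∈ c x) (h2 : z ∈ c y) : y ∈ c x := by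
  rw [← h.eq x z hx hz h1, h.eq y z hy hz h2]; exact h.mem y

theorem symm (h : Part c) {x y : G} (hx : x ≠ 1) (hy : y ≠ 1) (h1 : y ∈ c x) : x ∈ c y := by
  rw [h.eq x y hx hy h1]; exact h.mem x

theorem pow_eq_one (h : Part c) {x g : G} (hx : x ≠ 1) (hg : g ∉ c x) {n : ℕ}
    (hn : g ^ n ∈ c x) : g ^ n = 1 := by
  by_contra h1
  exact hg (h.mem_of_mem hx (by rintro rfl; exact hg (one_mem _)) h1 hn (pow_mem (h.mem g) n))

theorem pow_of_commute (h : Part c) {x y : G} (hx : x ≠ 1) (hy : y ∉ c x) (hc : Commute x y)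
    {n : ℕ} (hn : x ^ n = 1) : y ^ n = 1 := by
  have hy1 : y ≠ 1 := by rintro rfl; exact hy (one_mem _)
  have h1 : x * y ∉ c y := fun h1 => hy (h.symm hy1 hx (by
    simpa using mul_mem h1 (inv_mem (h.mem y))))
  have h2 := h.pow_eq_one hy1 h1 (n := n) (by
    rw [hc.mul_pow, hn, one_mul]; exact pow_mem (h.mem y) n)
  rwa [hc.mul_pow, hn, one_mul] at h2

theorem orderOf_eq (h : Part c) {x y : G} (hx : x ≠ 1) (hy : y ∉ c x) (hc : Commute x y) :
    orderOf x = orderOf y := by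
  have hy1 : y ≠ 1 := by rintro rfl; exact hy (one_mem _)
  exact orderOf_eq_orderOf_iff.2 fun n => ⟨h.pow_of_commute hx hy hc,
    h.pow_of_commute hy1 (fun h1 => hy (h.symm hy1 hx h1)) hc.symm⟩

/-- Commuting elements of different components have the same prime order. -/
theorem prime [Finite G] (h : Part c) {x y : G} (hx : x ≠ 1) (hy : y ∉ c x) (hc : Commute x y) :
    (orderOf x).Prime := by
  obtain ⟨p, hp, m, hm⟩ := Nat.exists_prime_and_dvd (mt orderOf_eq_one_iff.1 hx)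
  have h0 := orderOf_pos x
  have hm0 : 0 < m := Nat.pos_of_ne_zero (by rintro rfl; omega)
  have h1 : x ^ m ≠ 1 := pow_ne_one_of_lt_orderOf hm0.ne' (by have := hp.two_le; nlinarith)
  have h2 : y ∉ c (x ^ m) := by rwa [h.eq x _ hx h1 (pow_mem (h.mem x) m)]
  have h3 := h.orderOf_eq h1 h2 (hc.pow_left m)
  rw [← h.orderOf_eq hx hy hc] at h3
  have : Fact p.Prime := ⟨hp⟩
  rw [← h3, orderOf_eq_prime (p := p) (by rw [← pow_mul, mul_comm, ← hm, pow_orderOf_eq_one]) h1]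
  exact hp

theorem mem_of_pow (h : Part c) {x y : G} (hx : x ≠ 1) (hc : Commute x y) {n : ℕ}
    (h1 : x ^ n = 1) (h2 : y ^ n ≠ 1) : y ∈ c x := by
  by_contra hy; exact h2 (h.pow_of_commute hx hy hc h1)

theorem mem_of_pow' (h : Part c) {x y : G} (hx : x ≠ 1) (hc : Commute x y) {n : ℕ}
    (h1 : x ^ n ≠ 1) (h2 : y ^ n = 1) : y ∈ c x := by
  by_contra hy
  exact h1 (by rw [← orderOf_dvd_iff_pow_eq_one, h.orderOf_eq hx hy hc,
    orderOf_dvd_iff_pow_eq_one]; exact h2)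

theorem coset_pow (h : Part c) {x g y : G} (hx : x ≠ 1) (hg : g ∈ 𝐍(c x)) (hgx : g ∉ c x)
    (hy : y ∈ c x) {n : ℕ} (hn : g ^ n ∈ c x) : (y * g) ^ n = 1 := by
  refine h.pow_eq_one hx (fun h1 => hgx (by simpa using mul_mem (inv_mem hy) h1)) ?_
  simpa using mul_mem (mul_pow_mul_inv_mem hg hy n) hn

/-- If `h` normalizes the component `X`, lies outside it and centralizes `d ∈ X#`, then the
centralizer of `h` in `N(X)` has exponent the order of `h`. -/
theorem pow_of_cent (h : Part c) {x a d k : G} (hx : x ≠ 1) (hax : a ∉ c x) (hd : d ∈ c x)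
    (hd1 : d ≠ 1) (had : Commute a d) (hk : k ∈ 𝐍(c x)) (hka : Commute a k) {n : ℕ}
    (hn : a ^ n = 1) : k ^ n = 1 := by
  have ha1 : a ≠ 1 := by rintro rfl; exact hax (one_mem _)
  by_contra h1
  have h2 := h.mem_of_pow ha1 hka hn h1
  have hk1 : k ≠ 1 := by rintro rfl; exact h1 (one_pow n)
  have h3 : k ∉ c x := fun h3 => hax (h.mem_of_mem hx ha1 hk1 h3 h2)
  have h4 : (d * k) ^ n ≠ 1 := fun e => h1 (by
    have := h.coset_pow hx (mul_mem (le_normalizer hd) hk)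
      (fun h5 => h3 (by simpa using mul_mem (inv_mem hd) h5)) (inv_mem hd) (n := n)
      (by rw [e]; exact one_mem _)
    simpa using this)
  have h5 := h.mem_of_pow ha1 (had.mul_right hka) hn h4
  exact hax (h.mem_of_mem hx ha1 hd1 hd (by simpa using mul_mem h5 (inv_mem h2)))

end Part

theorem exists_pow_prime_mem [Finite G] {H : Subgroup G} {g : G} (hg : g ∉ H) :
    ∃ (p k : ℕ), p.Prime ∧ g ^ k ∉ H ∧ (g ^ k) ^ p ∈ H := by
  classical
  have hex : ∃ n, 0 < n ∧ g ^ n ∈ H := ⟨orderOf g, orderOf_pos g, by simp⟩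
  obtain ⟨h0, h1⟩ := Nat.find_spec hex
  have h2 : Nat.find hex ≠ 1 := fun e => hg (by simpa [e] using h1)
  obtain ⟨p, hp, m, hm⟩ := Nat.exists_prime_and_dvd h2
  have hm0 : 0 < m := Nat.pos_of_ne_zero (by rintro rfl; omega)
  refine ⟨p, m, hp, fun h3 => Nat.find_min hex (m := m) ?_ ⟨hm0, h3⟩, ?_⟩
  · have := hp.two_le; nlinarith
  · rwa [← pow_mul, mul_comm, ← hm]

theorem commute_of_coprime_of_isNilpotent [Finite G] {H : Subgroup G} (hH : Group.IsNilpotent H)
    {a b : G} (ha : a ∈ H) (hb : b ∈ H) (hc : (orderOf a).Coprime (orderOf b)) : Commute a b :=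
  (mem_cent.1 (le_cent_of_coprime_of_isNilpotent hH (zpowers_le_of_mem ha) (zpowers_le_of_mem hb)
    (by rwa [Nat.card_zpowers, Nat.card_zpowers]) (mem_zpowers a)) b (mem_zpowers b)).symm

/-- A `p`-element normalizing a nontrivial `p`-group centralizes a nontrivial element. -/
theorem exists_fixed [Finite G] {p : ℕ} (hp : p.Prime) {D : Subgroup G} (hD : IsPGroup p D)
    (h1 : D ≠ ⊥) {g : G} (hg : g ∈ 𝐍(D)) {k : ℕ} (hk : g ^ p ^ k = 1) :
    ∃ d ∈ D, d ≠ 1 ∧ Commute g d := by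
  have := Fact.mk hp
  have h2 : IsPGroup p (zpowers g) := by
    obtain ⟨j, -, hj⟩ := (Nat.dvd_prime_pow hp).1 (orderOf_dvd_of_pow_eq_one hk)
    exact isPGroup_of_card_eq (by rw [Nat.card_zpowers, hj])
  have h3 := isPGroup_sup h2 hD (zpowers_le_of_mem hg)
  have h4 := inf_center_ne_bot (isNilpotent_of_isPGroup hp h3) (N := D)
    ⟨le_sup_right, sup_le (zpowers_le_of_mem hg) le_normalizer⟩ h1
  obtain ⟨⟨d, hd⟩, hd1⟩ := ne_bot_iff_exists_ne_one.1 h4
  exact ⟨d, hd.1, fun e => hd1 (Subtype.ext e),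
    mem_cent.1 hd.2 g (mem_sup_left (mem_zpowers g))⟩

namespace NP

variable {c : G → Subgroup G}

theorem ti (h : NP c) {x y g : G} (hx : x ≠ 1) (hy : y ∈ c x) (hy1 : y ≠ 1)
    (hg : g * y * g⁻¹ ∈ c x) : g ∈ 𝐍(c x) := by
  rw [← conj_eq_self_iff, ← h.eq x y hx hy1 hy, ← h.conj, h.eq x y hx hy1 hy]
  exact h.eq x _ hx (fun e => hy1 (H9.conj_eq_one_iff.1 e)) hg

theorem cent_le (h : NP c) {x y : G} (hx : x ≠ 1) (hy : y ∈ c x) (hy1 : y ≠ 1) :
    𝐂[y] ≤ 𝐍(c x) := fun g hg => h.ti hx hy hy1 (by rwa [mem_cent1_iff_conj.1 hg])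

theorem norm_le (h : NP c) {x : G} (hx : x ≠ 1) {D : Subgroup G} (hD : D ≤ c x) (h1 : D ≠ ⊥) :
    𝐍(D) ≤ 𝐍(c x) := fun g hg => by
  obtain ⟨⟨d, hd⟩, hd1⟩ := ne_bot_iff_exists_ne_one.1 h1
  exact h.ti hx (hD hd) (fun e => hd1 (Subtype.ext e)) (hD ((mem_normalizer_iff.1 hg d).1 hd))

theorem ne_bot (h : NP c) {x : G} (hx : x ≠ 1) : c x ≠ ⊥ := fun e =>
  hx (mem_bot.1 (e ▸ h.mem x))

theorem exists_norm (h : NP c) (hF : ¬ ∃ H : Subgroup G, IsFrobeniusComplement H) {x : G}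
    (hx : x ≠ 1) : ∃ g ∈ 𝐍(c x), g ∉ c x := by
  by_contra! h1
  exact hF ⟨c x, H9.isFrobeniusComplement_iff.2 ⟨h.ne_bot hx, h.ne_top x hx,
    fun g y hy hy1 hg => h1 g (h.ti hx hy hy1 hg)⟩⟩

theorem isNilpotent [Finite G] (h : NP c) (hF : ¬ ∃ H : Subgroup G, IsFrobeniusComplement H)
    {x : G} (hx : x ≠ 1) : Group.IsNilpotent (c x) := by
  obtain ⟨g, hg, hgx⟩ := h.exists_norm hF hx
  obtain ⟨p, k, hp, h1, h2⟩ := exists_pow_prime_mem hgx
  exact isNilpotent_of_coset_pow hp _ (g ^ k) (pow_mem hg k) fun y hy =>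
    h.coset_pow hx (pow_mem hg k) h1 hy h2

end NP

end Cfsg.Agent.H5
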