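import Cfsg.Agent.H5.Part1
import Cfsg.Agent.H9.FrobAction
import Cfsg.Agent.H1.SectS4

/-! Partitions of finite groups with a nontrivial solvable normal subgroup. -/

set_option autoImplicit false

namespace Cfsg.Agent.H5

open Cfsg Subgroup Cfsg.Agent.L Cfsg.Agent.FT

universe u

variable {G : Type u} [Group G] [Finite G] {p : ℕ}

theorem exists_pow_orderOf_eq {g : G} (h : p ∣ orderOf g) : ∃ m : ℕ, orderOf (g ^ m) = p := by
  obtain ⟨m, hm⟩ := h
  have h0 := orderOf_pos g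
  refine ⟨m, ?_⟩
  rw [orderOf_pow_of_dvd (by rintro rfl; omega) (Dvd.intro_left _ hm.symm), hm,
    Nat.mul_div_cancel _ (Nat.pos_of_ne_zero (by rintro rfl; omega))]

omit [Finite G] in
theorem dvd_orderOf_of_pow (hp : p.Prime) {g : G} (h1 : g ≠ 1) {n : ℕ} (h : g ^ p ^ n = 1) :
    p ∣ orderOf g := by
  obtain ⟨j, -, hj⟩ := (Nat.dvd_prime_pow hp).1 (orderOf_dvd_of_pow_eq_one h)
  rcases j with _ | j
  · exact absurd (orderOf_eq_one_iff.1 hj) h1
  · exact hj ▸ dvd_pow_self p j.succ_ne_zero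

omit [Finite G] in
theorem exists_pow_of_isPGroup {P : Subgroup G} (hP : IsPGroup p P) {g : G} (hg : g ∈ P) :
    ∃ n : ℕ, g ^ p ^ n = 1 := by
  obtain ⟨n, hn⟩ := hP ⟨g, hg⟩
  exact ⟨n, congrArg Subtype.val hn⟩

omit [Finite G] in
theorem eq_of_prime_pow {r : ℕ} (hp : p.Prime) (hr : r.Prime) {g : G} (hg : orderOf g = r) {n : ℕ}
    (h : g ^ p ^ n = 1) : r = p :=
  (Nat.prime_dvd_prime_iff_eq hr hp).1
    (hr.dvd_of_dvd_pow (hg ▸ orderOf_dvd_of_pow_eq_one h))

omit [Finite G] in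
theorem pow_of_sing (hp : p.Prime) {P : Subgroup G} (hP : IsPGroup p P)
    (h : ∀ g : G, p ∣ orderOf g → g ∈ P ∨ g ^ p = 1) {k u : G} (hu : u ∈ P) (hu1 : u ≠ 1)
    (hc : Commute k u) : ∃ n : ℕ, k ^ p ^ n = 1 := by
  by_cases hk : p ∣ orderOf k
  · rcases h k hk with h1 | h1
    · exact exists_pow_of_isPGroup hP h1
    · exact ⟨1, by simpa using h1⟩
  obtain ⟨n, hn⟩ := exists_pow_of_isPGroup hP hu
  have h1 : (orderOf k).Coprime (orderOf u) :=
    Nat.Coprime.coprime_dvd_right (orderOf_dvd_of_pow_eq_one hn)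
      (Nat.Coprime.pow_right n (hp.coprime_iff_not_dvd.2 hk).symm)
  rcases h (k * u) (by
    rw [hc.orderOf_mul_eq_mul_orderOf_of_coprime h1]
    exact (dvd_orderOf_of_pow hp hu1 hn).mul_left _) with h2 | h2
  · exact exists_pow_of_isPGroup hP (by simpa using mul_mem h2 (inv_mem hu))
  · rw [hc.mul_pow, mul_eq_one_iff_eq_inv] at h2
    obtain ⟨m, hm⟩ := exists_pow_of_isPGroup hP (h2 ▸ inv_mem (pow_mem hu p) : k ^ p ∈ P)
    exact ⟨m + 1, by rw [pow_succ', pow_mul, hm]⟩

theorem false_of_sing (hp : p.Prime) {P H : Subgroup G} (hP : IsPGroup p P) (hP1 : P ≠ ⊥)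
    (h : ∀ g : G, p ∣ orderOf g → g ∈ P ∨ g ^ p = 1) (hPH : P ≤ H) {y a : G} (hy : y ∈ 𝐍(H))
    (hyH : y ∉ H) (hyp : y ^ p = 1) (ha : a ∈ H) {r : ℕ} (hr : r.Prime) (har : orderOf a = r)
    (hrp : r ≠ p) : False := by
  have hnil := isNilpotent_of_coset_pow hp H y hy fun g hg =>
    (h _ (prime_dvd_orderOf_mul hp hy hyH (by rw [hyp]; exact one_mem _) hg)).resolve_left
      fun h1 => hyH (by simpa using mul_mem (inv_mem hg) (hPH h1))
  obtain ⟨⟨u, hu⟩, hu1⟩ := ne_bot_iff_exists_ne_one.1 hP1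
  obtain ⟨n, hn⟩ := exists_pow_of_isPGroup hP hu
  obtain ⟨m, hm⟩ := pow_of_sing hp hP h hu (fun e => hu1 (Subtype.ext e))
    (commute_of_coprime_of_isNilpotent hnil ha (hPH hu) (by
      rw [har]
      exact Nat.Coprime.coprime_dvd_right (orderOf_dvd_of_pow_eq_one hn)
        (Nat.Coprime.pow_right n ((Nat.coprime_primes hr hp).2 hrp))))
  exact hrp (eq_of_prime_pow hp hr har hm)

theorem mem_pCore_of_sing (hp : p.Prime) (hD : pCore p G ≠ ⊥)
    (h : ∀ g : G, p ∣ orderOf g → g ∈ pCore p G ∨ g ^ p = 1) {y : G} (hyp : y ^ p = 1) :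
    y ∈ pCore p G := by
  have := Fact.mk hp
  by_contra hy
  have := pCore_characteristic (G := G) hp
  set D := pCore p G with hDdef
  have hDp : IsPGroup p D := isPGroup_pCore p
  by_cases hp2 : p = 2
  · subst hp2
    obtain ⟨x, hx, hx2, hinv, -⟩ := exists_inverted_of_not_mem_pCore (by rw [← sq, hyp]) hy
    refine false_of_sing hp hDp hD h (H := D ⊔ zpowers x) le_sup_left ?_ (fun h1 => ?_) hyp
      (mem_sup_right (mem_zpowers x)) hx rfl hx2
    · rw [← conj_eq_self_iff, conj_sup, ← zpowers_conj, hinv, zpowers_inv,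
        conj_eq_of_mem_norm (by rw [normalizer_eq_top]; trivial)]
    · obtain ⟨d, hd, z, hz, rfl⟩ := (mem_sup_of_norm (by rw [normalizer_eq_top]; exact le_top)).1 h1
      have h2 := mul_pow_mul_inv_mem (H := D) (g := z) (by rw [normalizer_eq_top]; trivial) hd 2
      rw [hyp, one_mul, inv_mem_iff] at h2
      refine hy (mul_mem hd (mem_of_pow_mem_coprime ((Nat.coprime_primes hp hx).2 hx2.symm) h2 ?_))
      rw [orderOf_dvd_iff_pow_eq_one.1 (orderOf_dvd_of_mem_zpowers hz)]; exact one_mem _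
  obtain ⟨⟨d, hd⟩, hd1⟩ := ne_bot_iff_exists_ne_one.1 hD
  have hd1 : d ≠ 1 := fun e => hd1 (Subtype.ext e)
  have hL : pPrimeCore p (G ⧸ D) ≠ ⊥ := by
    intro hL
    rcases Nat.even_or_odd (Nat.card G) with h2 | h2
    · have : Fact (Nat.Prime 2) := ⟨Nat.prime_two⟩
      obtain ⟨u, hu⟩ := exists_prime_orderOf_dvd_card' 2 (even_iff_two_dvd.1 h2)
      have huu : u * u = 1 := by rw [← sq, ← hu, pow_orderOf_eq_one]
      have hup : ∀ n : ℕ, u ^ p ^ n ≠ 1 := fun n e =>
        hp2 (eq_of_prime_pow hp Nat.prime_two hu e).symm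
      have hinv := inverts_of_fpf (A := D) huu (by rw [normalizer_eq_top]; trivial)
        fun a ha hc => by
          by_contra h1
          obtain ⟨n, hn⟩ := pow_of_sing hp hDp h ha h1 hc
          exact hup n hn
      have hC : 𝐂(D) ≤ D := le_pCore inferInstance fun c => by
        obtain ⟨n, hn⟩ := pow_of_sing hp hDp h hd hd1 (mem_cent.1 c.2 d hd).symm
        exact ⟨n, Subtype.ext hn⟩
      have hcen : (u : G ⧸ D) ∈ center (G ⧸ D) := by
        rw [mem_center_iff]
        intro m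
        obtain ⟨m, rfl⟩ := QuotientGroup.mk_surjective m
        rw [← QuotientGroup.mk_mul, ← QuotientGroup.mk_mul, QuotientGroup.eq]
        apply hC
        rw [mem_cent]
        intro a ha
        have h1 := hinv _ (Normal.conj_mem inferInstance _ (inv_mem (Normal.conj_mem inferInstance
          a ha u)) m)
        have h2 := hinv a ha
        have hui := inv_eq_self_of_mul_self huu
        rw [hui, h2, inv_inv] at h1
        rw [mul_inv_rev, hui]
        calc a * (u * m⁻¹ * (u * m)) = u * (u * a * u) * m⁻¹ * u * m := by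
              simp only [← mul_assoc, huu, one_mul]
          _ = u * m⁻¹ * (m * a * m⁻¹)⁻¹ * u * m := by rw [h2]; group
          _ = u * m⁻¹ * (u * m) * a * (m⁻¹ * (u * u) * m) := by rw [← h1]; group
          _ = u * m⁻¹ * (u * m) * a := by rw [huu]; group
      have h3 : zpowers (u : G ⧸ D) ≤ pPrimeCore p (G ⧸ D) := le_pPrimeCore
        ⟨fun n hn g => by
          rwa [mem_center_iff.1 (zpowers_le_of_mem hcen hn) g, mul_inv_cancel_right]⟩ (by
          rw [Nat.card_zpowers]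
          refine Nat.Coprime.coprime_dvd_left (orderOf_map_dvd (QuotientGroup.mk' D) u) ?_
          rw [hu]; exact (Nat.coprime_primes Nat.prime_two hp).2 (Ne.symm hp2))
      have h4 := h3 (mem_zpowers _)
      rw [hL, mem_bot, QuotientGroup.eq_one_iff] at h4
      obtain ⟨n, hn⟩ := exists_pow_of_isPGroup hDp h4
      exact hup n hn
    · have := feit_thompson G h2
      have h3 := H1.subsingleton_of_cores hp (isPSolvable_of_isSolvable (G := G ⧸ D) hp)
        (pCore_quotient_pCore hp) hL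
      exact hy ((QuotientGroup.eq_one_iff y).1 (Subsingleton.elim _ _))
  have := pPrimeCore_characteristic (G := G ⧸ D) hp
  obtain ⟨r, hr, hrd⟩ := exists_prime_dvd_card hL
  obtain ⟨a, ha, har⟩ := exists_mem_orderOf_eq_prime hr
    (H := (pPrimeCore p (G ⧸ D)).comap (QuotientGroup.mk' D))
    (by rw [card_comap_mk']; exact hrd.mul_right _)
  refine false_of_sing hp hDp hD h (fun d hd => ?_) (by rw [normalizer_eq_top]; trivial)
    (fun h1 => ?_) hyp ha hr har fun e => not_dvd_card_pPrimeCore (G := G ⧸ D) hp (e ▸ hrd)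
  · rw [mem_comap, QuotientGroup.mk'_apply, (QuotientGroup.eq_one_iff d).2 hd]; exact one_mem _
  · refine not_dvd_card_pPrimeCore (G := G ⧸ D) hp ?_
    exact (orderOf_eq_prime (x := (y : G ⧸ D)) (p := p)
      (by rw [← QuotientGroup.mk_pow, hyp, QuotientGroup.mk_one])
      (by rwa [Ne, QuotientGroup.eq_one_iff])).symm.dvd.trans (orderOf_dvd_natCard _ h1)

theorem pCore_eq_top_of_sing (hp : p.Prime) (hD : pCore p G ≠ ⊥)
    (h : ∀ g : G, p ∣ orderOf g → g ∈ pCore p G ∨ g ^ p = 1)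
    (hF : ¬ ∃ H : Subgroup G, IsFrobeniusComplement H) : pCore p G = ⊤ := by
  by_contra h1
  have := pCore_characteristic (G := G) hp
  obtain ⟨H, hH, -⟩ := H9.exists_frob_of_forall_not_mem hD h1 fun x hx k hk hc => by
    by_contra hk1
    obtain ⟨n, hn⟩ := pow_of_sing hp (isPGroup_pCore p) h hk hk1 hc
    exact hx ((h x (dvd_orderOf_of_pow hp (by rintro rfl; exact hx (one_mem _)) hn)).elim id
      (mem_pCore_of_sing hp hD h))
  exact hF ⟨H, hH⟩

theorem pow_eq_one_of_no_coset (hp : p.Prime) {y : G} (hy : orderOf y = p)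
    (ha : ∀ g : G, p ∣ orderOf g → g ^ p = 1)
    (hb : ∀ H : Subgroup G, H ≠ ⊥ → ∀ r : ℕ, r.Prime → ∀ y ∈ 𝐍(H), y ∉ H →
      ¬ ∀ h ∈ H, (h * y) ^ r = 1) (g : G) : g ^ p = 1 := by
  have := Fact.mk hp
  have key : ∀ w : G, w ^ p = 1 → ∀ H : Subgroup G, H ≠ ⊥ → w ∈ 𝐍(H) → w ∈ H := by
    intro w hw H hH hn
    by_contra h1
    exact hb H hH p hp w hn h1 fun h hh =>
      ha _ (prime_dvd_orderOf_mul hp hn h1 (by rw [hw]; exact one_mem _) hh)
  obtain ⟨S, hS⟩ := exists_isSyl hp (⊤ : Subgroup G)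
  have hS1 : S ≠ ⊥ := hS.ne_bot hp (by rw [card_top, ← hy]; exact _root_.orderOf_dvd_natCard y)
  have hSp : ∀ w ∈ S, w ^ p = 1 := fun w hw => by
    by_cases h1 : w = 1
    · rw [h1, one_pow]
    obtain ⟨n, hn⟩ := exists_pow_of_isPGroup hS.pgrp hw
    exact ha w (dvd_orderOf_of_pow hp h1 hn)
  obtain ⟨⟨z, hz⟩, hz1⟩ := ne_bot_iff_exists_ne_one.1
    (center_ne_bot (isNilpotent_of_isPGroup hp hS.pgrp) hS1)
  have hz1 : z ≠ 1 := fun e => hz1 (Subtype.ext e)
  have hSz : S ≤ zpowers z := fun w hw => key w (hSp w hw) _ (by simpa using hz1)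
    (cent_le_norm _ (by rw [cent_zpowers, mem_cent1]; exact (mem_cent.1 hz.2 w hw).symm))
  have hN : 𝐍(S) ≤ S := fun k hk => by
    by_contra h1
    obtain ⟨r, m, hr, h2, h3⟩ := exists_pow_prime_mem h1
    refine hb S hS1 r hr _ (pow_mem hk m) h2 fun s hs => ?_
    have h4 : (s * k ^ m) ^ r ∈ S := by
      simpa using mul_mem (mul_pow_mul_inv_mem (pow_mem hk m) hs r) h3
    by_contra h5
    have h6 := dvd_orderOf_of_pow hp h5 (n := 1) (by simpa using hSp _ h4)
    have h7 := key _ (ha _ (h6.trans (orderOf_pow_dvd r))) S hS1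
      (mul_mem (le_normalizer hs) (pow_mem hk m))
    exact h2 (by simpa using mul_mem (inv_mem hs) h7)
  have hnpc := burnside_npc hp hS (inf_le_right.trans (hN.trans (isMulComm_iff_le_cent.1
    (isMulComm_of_le hSz inferInstance))))
  have hK : H2.pPrimeCoreOf p (⊤ : Subgroup G) = ⊥ := by
    by_contra h1
    have h2 := key z (hSp z hz.1) _ h1 ((pPrimeCoreOf_normal p ⊤).2 (mem_top z))
    exact not_dvd_card_pPrimeCoreOf hp ⊤
      ((orderOf_eq_prime (hSp z hz.1) hz1).symm.dvd.trans (orderOf_dvd_card_of_mem h2))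
  have h3 := (hnpc.sdProd hp hS).sup
  rw [hK, bot_sup_eq] at h3
  exact hSp g (h3 ▸ mem_top g)

end Cfsg.Agent.H5
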