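import Cfsg.Agent.H5.Part2

/-! Partitions of finite groups with a nontrivial solvable normal subgroup. -/

set_option autoImplicit false

namespace Cfsg.Agent.H5

open Cfsg Subgroup Cfsg.Agent.L Cfsg.Agent.FT

universe u

variable {G : Type u} [Group G] [Finite G] {p : ℕ} {c : G → Subgroup G}

theorem pCoreOf_ne_bot (hp : p.Prime) {X : Subgroup G} (hX : Group.IsNilpotent X)
    (h : p ∣ 𝐨(X)) : pCoreOf p X ≠ ⊥ := (isSyl_pCoreOf_of_isNilpotent hp hX).ne_bot hp h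

theorem norm_le_norm_pCoreOf (hp : p.Prime) (X : Subgroup G) : 𝐍(X) ≤ 𝐍(pCoreOf p X) := by
  rw [pCoreOf_eq hp]; exact norm_le_norm_piCoreOf _ X

theorem Part.pow_of_isNilpotent (h : Part c) {x k : G} (hx : x ≠ 1) {H : Subgroup G}
    (hH : Group.IsNilpotent H) (h1 : c x ≤ H) (h2 : H ≤ 𝐍(c x)) (hk : k ∈ H) (hkx : k ∉ c x)
    (hp : p.Prime) (hd : p ∣ 𝐨(c x)) : ∃ n : ℕ, k ^ p ^ n = 1 := by
  have h3 := inf_center_ne_bot hH (N := pCoreOf p (c x))
    ⟨(pCoreOf_normal p _).1.trans h1, h2.trans (norm_le_norm_pCoreOf hp _)⟩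
    (pCoreOf_ne_bot hp (isNilpotent_of_le h1 hH) hd)
  obtain ⟨⟨z, hz⟩, hz1⟩ := ne_bot_iff_exists_ne_one.1 h3
  have hz1 : z ≠ 1 := fun e => hz1 (Subtype.ext e)
  obtain ⟨n, hn⟩ := exists_pow_of_isPGroup (H2.isPGroup_pCoreOf p (c x)) hz.1
  exact ⟨n, h.pow_of_commute hz1 (by rwa [h.eq x z hx hz1 ((pCoreOf_normal p _).1 hz.1)])
    (mem_cent.1 hz.2 k hk).symm hn⟩

/-- An element outside the nilpotent component it normalizes, of order divisible by a prime
divisor `p` of the order of the component, has order `p`. -/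
theorem Part.pow_of_dvd (h : Part c) {x g : G} (hx : x ≠ 1) (hX : Group.IsNilpotent (c x))
    (hg : g ∈ 𝐍(c x)) (hgx : g ∉ c x) (hp : p.Prime) (hd : p ∣ 𝐨(c x)) (hpg : p ∣ orderOf g) :
    g ^ p = 1 := by
  obtain ⟨m, hm⟩ := exists_pow_orderOf_eq hpg
  have h1 : (g ^ m) ^ p = 1 := hm ▸ pow_orderOf_eq_one _
  have h2 : g ^ m ∉ c x := fun h2 => hp.ne_one (by rw [← hm, h.pow_eq_one hx hgx h2, orderOf_one])
  obtain ⟨d, hd, hd1, hc⟩ := exists_fixed hp (H2.isPGroup_pCoreOf p (c x))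
    (pCoreOf_ne_bot hp hX hd) (norm_le_norm_pCoreOf hp _ (pow_mem hg m)) (k := 1) (by simpa using h1)
  exact h.pow_of_cent hx h2 ((pCoreOf_normal p _).1 hd) hd1 hc hg (Commute.pow_self g m) h1

theorem NP.normal_case (h : NP c) (hF : ¬ ∃ H : Subgroup G, IsFrobeniusComplement H) {x : G}
    (hx : x ≠ 1) (hn : (c x).Normal) : ∃ p : ℕ, p.Prime ∧ closure {g : G | g ^ p ≠ 1} ≠ ⊤ := by
  have hnil := h.isNilpotent hF hx
  have hN : ∀ g : G, g ∈ 𝐍(c x) := fun g => by rw [normalizer_eq_top]; trivial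
  obtain ⟨a, ha, d, hd, had, hd1⟩ : ∃ a, a ∉ c x ∧ ∃ d ∈ c x, a * d = d * a ∧ d ≠ 1 := by
    by_contra! h1
    obtain ⟨H, hH, -⟩ := H9.exists_frob_of_forall_not_mem (h.ne_bot hx) (h.ne_top x hx) h1
    exact hF ⟨H, hH⟩
  have had' : a ∉ c d := by rwa [h.eq x d hx hd1 hd]
  have hp := h.prime hd1 had' had.symm
  have hoa := h.orderOf_eq hd1 had' had.symm
  set p := orderOf d
  have hpd : p ∣ 𝐨(c x) := orderOf_dvd_card_of_mem hd
  have sing : ∀ g, g ∉ c x → p ∣ orderOf g → g ^ p = 1 := fun g hg h1 =>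
    h.pow_of_dvd hx hnil (hN g) hg hp hpd h1
  suffices hs : ∀ g, g ∉ c x → g ^ p = 1 from ⟨p, hp, fun e => h.ne_top x hx (top_le_iff.1
    (e ▸ (closure_le _).2 fun g hg => by_contra fun h1 => hg (hs g h1)))⟩
  by_cases hX : IsPGroup p (c x)
  · have h1 := le_pCore hn hX
    have h2 := pCore_eq_top_of_sing hp (fun e => h.ne_bot hx (le_bot_iff.1 (e ▸ h1)))
      (fun g hg => (em (g ∈ c x)).imp (fun h2 => h1 h2) fun h2 => sing g h2 hg) hF
    intro g hg
    obtain ⟨n, hn⟩ := exists_pow_of_isPGroup (isPGroup_pCore (G := G) p) (g := g) (h2 ▸ mem_top g)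
    exact sing g hg (dvd_orderOf_of_pow hp (by rintro rfl; exact hg (one_mem _)) hn)
  rw [← isPi_singleton_iff hp] at hX
  obtain ⟨r, hr, hrd, hrp⟩ : ∃ r : ℕ, r.Prime ∧ r ∣ 𝐨(c x) ∧ r ≠ p := by
    by_contra! h1; exact hX h1
  have : Fact p.Prime := ⟨hp⟩
  intro g hg
  refine h.pow_eq_one hx hg ?_
  rw [← QuotientGroup.eq_one_iff, QuotientGroup.mk_pow]
  refine pow_eq_one_of_no_coset hp (y := (a : G ⧸ c x)) (orderOf_eq_prime ?_ ?_) ?_ ?_ _
  · rw [← QuotientGroup.mk_pow, hoa, pow_orderOf_eq_one, QuotientGroup.mk_one]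
  · rwa [Ne, QuotientGroup.eq_one_iff]
  · intro k hk
    obtain ⟨k, rfl⟩ := QuotientGroup.mk_surjective k
    by_cases h1 : k ∈ c x
    · rw [(QuotientGroup.eq_one_iff k).2 h1, one_pow]
    rw [← QuotientGroup.mk_pow, sing k h1 (hk.trans (orderOf_map_dvd (QuotientGroup.mk' _) k)),
      QuotientGroup.mk_one]
  · intro H hH q hq y hy hyH hall
    obtain ⟨y, rfl⟩ := QuotientGroup.mk_surjective y
    have hle : c x ≤ H.comap (QuotientGroup.mk' (c x)) := fun d hd => by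
      rw [mem_comap, QuotientGroup.mk'_apply, (QuotientGroup.eq_one_iff d).2 hd]; exact one_mem _
    have hnilH := isNilpotent_of_coset_pow hq (H.comap (QuotientGroup.mk' (c x))) y
      (le_normalizer_comap _ hy) fun k hk => h.pow_eq_one hx
        (fun h1 => hyH (show y ∈ H.comap (QuotientGroup.mk' (c x)) by
          simpa using mul_mem (inv_mem hk) (hle h1))) (by
        rw [← QuotientGroup.eq_one_iff, QuotientGroup.mk_pow, QuotientGroup.mk_mul]
        exact hall _ hk)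
    obtain ⟨⟨k, hk⟩, hk1⟩ := ne_bot_iff_exists_ne_one.1 hH
    obtain ⟨k, rfl⟩ := QuotientGroup.mk_surjective k
    have hkx : k ∉ c x := fun h1 => hk1 (Subtype.ext ((QuotientGroup.eq_one_iff k).2 h1))
    obtain ⟨n, hn⟩ := h.pow_of_isNilpotent hx hnilH hle (fun g _ => hN g) hk hkx hp hpd
    obtain ⟨m, hm⟩ := h.pow_of_isNilpotent hx hnilH hle (fun g _ => hN g) hk hkx hr hrd
    refine hkx (mem_of_pow_mem_coprime (Nat.Coprime.pow n m ((Nat.coprime_primes hp hr).2 hrp.symm))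
      ?_ ?_)
    · rw [hn]; exact one_mem _
    · rw [hm]; exact one_mem _

omit [Finite G] in
theorem norm_mul {V : Subgroup G} [V.Normal] (hV : IsMulCommutative V) (g : G) {v w : G}
    (hv : v ∈ V) (hw : w ∈ V) (n : ℕ) :
    (g ^ n)⁻¹ * (g * (v * w)) ^ n = (g ^ n)⁻¹ * (g * v) ^ n * ((g ^ n)⁻¹ * (g * w) ^ n) := by
  have hm : ∀ v ∈ V, ∀ n : ℕ, g⁻¹ * ((g ^ n)⁻¹ * (g * v) ^ n) * g ∈ V := by
    intro v hv n
    induction n with
    | zero => simp
    | succ n ih =>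
      have := Normal.conj_mem' inferInstance _ (mul_mem ih hv) g
      rwa [show g⁻¹ * ((g ^ n)⁻¹ * (g * v) ^ n) * g * v = (g ^ (n + 1))⁻¹ * (g * v) ^ (n + 1) by
        rw [pow_succ, pow_succ]; group] at this
  induction n with
  | zero => simp
  | succ n ih =>
    have e : ∀ u : G, (g ^ (n + 1))⁻¹ * (g * u) ^ (n + 1) =
        g⁻¹ * ((g ^ n)⁻¹ * (g * u) ^ n) * g * u := fun u => by rw [pow_succ, pow_succ]; group
    have h1 := mem_cent.1 (isMulComm_iff_le_cent.1 hV hv) _ (hm w hw n)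
    rw [e, e, e, ih]
    calc _ = g⁻¹ * ((g ^ n)⁻¹ * (g * v) ^ n) * g *
          (g⁻¹ * ((g ^ n)⁻¹ * (g * w) ^ n) * g * v) * w := by group
      _ = _ := by rw [h1]; group

theorem card_le_24 {V : Subgroup G} [hn : V.Normal] (h4 : 𝐨(V) = 4) (hC : 𝐂(V) ≤ V) :
    Nat.card G ≤ 24 := by
  let X := {v : V // v ≠ 1}
  letI : MulAction G X :=
    { smul := fun g v => ⟨⟨g * v.1 * g⁻¹, hn.conj_mem _ v.1.2 g⟩, fun e =>
        v.2 (Subtype.ext (H9.conj_eq_one_iff.1 (congrArg Subtype.val e)))⟩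
      one_smul := fun v => Subtype.ext (Subtype.ext (show 1 * v.1.1 * 1⁻¹ = v.1.1 by group))
      mul_smul := fun a b v => Subtype.ext (Subtype.ext
        (show a * b * v.1.1 * (a * b)⁻¹ = a * (b * v.1.1 * b⁻¹) * a⁻¹ by group)) }
  have hX : Nat.card X = 3 := by
    classical
    have := Fintype.ofFinite V
    rw [Nat.card_eq_fintype_card, Fintype.card_subtype_compl, ← Nat.card_eq_fintype_card, h4]
    simp
  set f := MulAction.toPermHom G X
  have hk : f.ker ≤ V := fun g hg => hC (mem_cent.2 fun v hv => by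
    by_cases h1 : v = 1
    · simp [h1]
    have h2 : g * v * g⁻¹ = v := congrArg (fun e : Equiv.Perm X =>
      (e ⟨⟨v, hv⟩, fun e => h1 (congrArg Subtype.val e)⟩).1.1) (MonoidHom.mem_ker.1 hg)
    rw [← h2]; nth_rewrite 2 [h2]; group)
  have h1 := f.ker.card_mul_index
  have h2 : f.ker.index ≤ 6 := by
    rw [index_ker]
    have := card_le_card_group f.range
    rwa [Nat.card_perm, hX] at this
  have h3 := card_le_of_le hk
  rw [← h1]
  calc _ ≤ 4 * 6 := Nat.mul_le_mul (h4 ▸ h3) h2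
    _ = 24 := rfl

theorem exists_prime_ne_of_not_isPGroup (hp : p.Prime) {X : Subgroup G} (hX : ¬ IsPGroup p X) :
    ∃ k ∈ X, (orderOf k).Prime ∧ orderOf k ≠ p := by
  rw [← isPi_singleton_iff hp] at hX
  obtain ⟨r, hr, hrd, hrp⟩ : ∃ r : ℕ, r.Prime ∧ r ∣ 𝐨(X) ∧ r ≠ p := by
    by_contra! h1; exact hX h1
  obtain ⟨k, hk, rfl⟩ := exists_mem_orderOf_eq_prime hr hrd
  exact ⟨k, hk, hr, hrp⟩

/-- A component meeting but not containing a normal `p`-subgroup is a `p`-group. -/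
theorem NP.isPGroup (h : NP c) (hF : ¬ ∃ H : Subgroup G, IsFrobeniusComplement H) (hp : p.Prime)
    {P : Subgroup G} [hn : P.Normal] (hP : IsPGroup p P) {x : G} (hx : x ≠ 1)
    (h1 : c x ⊓ P ≠ ⊥) (h2 : ¬ P ≤ c x) : IsPGroup p (c x) := by
  by_contra h3
  obtain ⟨k, hk, hr, hrp⟩ := exists_prime_ne_of_not_isPGroup hp h3
  have hk1 : k ≠ 1 := by rintro rfl; simp at hr; exact Nat.not_prime_one hr
  have hcop : ∀ u ∈ P, (orderOf k).Coprime (orderOf u) := fun u hu => by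
    obtain ⟨n, hn⟩ := exists_pow_of_isPGroup hP hu
    exact Nat.Coprime.coprime_dvd_right (orderOf_dvd_of_pow_eq_one hn)
      (Nat.Coprime.pow_right n ((Nat.coprime_primes hr hp).2 hrp))
  obtain ⟨w, hw, hwD⟩ := SetLike.exists_of_lt (lt_inf_norm_of_isNilpotent
    (isNilpotent_of_isPGroup hp hP) (inf_lt_right.2 h2))
  rw [mem_inf] at hw
  have hwN := h.norm_le hx inf_le_left h1 hw.2
  have hd : w * k * w⁻¹ * k⁻¹ ∈ c x ⊓ P :=
    mem_inf.2 ⟨mul_mem ((mem_normalizer_iff.1 hwN k).1 hk) (inv_mem hk), by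
      have := mul_mem hw.1 (hn.conj_mem _ (inv_mem hw.1) k)
      simpa only [mul_assoc] using this⟩
  have hc := commute_of_coprime_of_isNilpotent (h.isNilpotent hF hx) hk hd.1 (hcop _ hd.2)
  have h4 : (w * k * w⁻¹ * k⁻¹) ^ orderOf k = 1 := by
    have h5 := hc.symm.mul_pow (orderOf k)
    rwa [inv_mul_cancel_right, conj_pow, pow_orderOf_eq_one, mul_one, mul_inv_cancel, mul_one,
      eq_comm] at h5
  have h5 : w * k * w⁻¹ * k⁻¹ = 1 := orderOf_eq_one_iff.1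
    (Nat.eq_one_of_dvd_coprimes (hcop _ hd.2) (orderOf_dvd_of_pow_eq_one h4) dvd_rfl)
  have h6 : Commute k w := by
    rw [mul_inv_eq_one, mul_inv_eq_iff_eq_mul] at h5; exact h5.symm
  refine hwD ⟨?_, hw.1⟩
  rw [← h.eq x k hx hk1 hk]
  by_contra h7
  have h8 := hcop w hw.1
  rw [← h.orderOf_eq hk1 h7 h6, Nat.coprime_self] at h8
  exact hr.ne_one h8

theorem NP.fitting_case (h : NP c) (hF : ¬ ∃ H : Subgroup G, IsFrobeniusComplement H)
    (hn : ∀ x, x ≠ 1 → ¬ (c x).Normal) (N : Subgroup G) [N.Normal] (hN : N ≠ ⊥)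
    [Group.IsSolvable N] : Nonempty (G ≃* Equiv.Perm (Fin 4)) ∨
      ∃ p : ℕ, p.Prime ∧ closure {g : G | g ^ p ≠ 1} ≠ ⊤ := by
  obtain ⟨V, p, hV, -, hp, hVe⟩ := exists_isMinNormal_isElementaryAbelian_le N hN
  have hVn : V.Normal := hV.1
  have hV1 : V ≠ ⊥ := hV.2.1
  have hVp : IsPGroup p V := IsElementaryAbelian.isPGroup hVe
  have hall : ∀ (W : Subgroup G) [W.Normal] (g : G), g ∈ 𝐍(W) := fun W _ g => by
    rw [normalizer_eq_top]; trivial
  have hnle : ∀ (W : Subgroup G) [W.Normal], W ≠ ⊥ → ∀ x, x ≠ 1 → ∃ v ∈ W, v ∉ c x := by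
    intro W _ hW x hx
    by_contra! h1
    exact hn x hx (normal_iff_top_le.2 fun g _ => h.norm_le hx h1 hW (hall W g))
  have hCp : ∀ y ∈ 𝐂(V), y ^ p = 1 := fun y hy => by
    by_cases h1 : y = 1
    · rw [h1, one_pow]
    obtain ⟨v, hv, hvy⟩ := hnle V hV1 y h1
    have hv1 : v ≠ 1 := by rintro rfl; exact hvy (one_mem _)
    exact h.pow_of_commute hv1 (fun h2 => hvy (h.symm hv1 h1 h2)) (mem_cent.1 hy v hv) (hVe.2 v hv)
  have := pCore_characteristic (G := G) hp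
  set P := pCore p G with hPdef
  have hP : IsPGroup p P := isPGroup_pCore p
  have hPC : P ≤ 𝐂(V) := (pCore_le_fittingSubgroup hp).trans hV.fittingSubgroup_le_centralizer
  have hCP : 𝐂(V) ≤ P := le_pCore inferInstance fun y => ⟨1, Subtype.ext (by simpa using hCp y y.2)⟩
  have hVP : V ≤ P := le_pCore hVn hVp
  have hP1 : P ≠ ⊥ := fun e => hV1 (le_bot_iff.1 (e ▸ hVP))
  have hpg : ∀ x, x ≠ 1 → c x ⊓ P ≠ ⊥ → IsPGroup p (c x) := fun x hx h1 =>
    h.isPGroup hF hp hP hx h1 fun h2 => by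
      obtain ⟨v, hv, hvx⟩ := hnle P hP1 x hx
      exact hvx (h2 hv)
  by_cases hs : ∀ g : G, p ∣ orderOf g → g ^ p = 1
  · have h1 := pCore_eq_top_of_sing hp hP1 (fun g hg => Or.inr (hs g hg)) hF
    refine Or.inr ⟨p, hp, fun e => hP1 (le_bot_iff.1 (le_top.trans (e.ge.trans
      ((closure_le _).2 fun g hg => absurd (hCp g (hPC (h1 ▸ mem_top g : g ∈ pCore p G))) hg))))⟩
  push Not at hs
  obtain ⟨g, hg, hgp⟩ := hs
  have hg1 : g ≠ 1 := by rintro rfl; exact hgp (one_pow p)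
  have hD : c g ⊓ V ≠ ⊥ := by
    intro hD
    obtain ⟨m, hm⟩ := exists_pow_orderOf_eq hg
    have h1 : (g ^ m) ^ p = 1 := hm ▸ pow_orderOf_eq_one _
    have h2 : g ^ m ≠ 1 := fun e => hp.ne_one (by rw [← hm, e, orderOf_one])
    have h3 : IsPGroup p ↥(V ⊓ 𝐂[g ^ m]) := hVp.to_le inf_le_left
    obtain ⟨v, hv, hv1, hc⟩ := exists_fixed hp hVp hV1 (hall V (g ^ m)) (k := 1) (by simpa using h1)
    have h4 : (v * g) ^ p ≠ 1 := fun e => hgp (by
      have h5 := mul_pow_mul_inv_mem (hall V g) hv p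
      rw [e, one_mul, inv_mem_iff] at h5
      rw [← mem_bot, ← hD]
      exact ⟨pow_mem (h.mem g) p, h5⟩)
    have h5 := h.mem_of_pow h2 (hc.mul_right (Commute.pow_self g m)) h1 h4
    rw [h.eq g _ hg1 h2 (pow_mem (h.mem g) m)] at h5
    exact hv1 (by
      rw [← mem_bot, ← hD]
      exact ⟨by simpa using mul_mem h5 (inv_mem (h.mem g)), hv⟩)
  have key : ∀ W : Subgroup G, IsMulCommutative W → V ≤ W → (∀ v ∈ W, v ^ p = 1) →
      ∀ v ∈ W, v ∉ c g → ∀ y ∈ c g, (y * v) ^ p = 1 := fun W hW hVW hWp v hv hvg y hy =>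
    h.coset_pow hg1 (h.norm_le hg1 inf_le_left hD (cent_le_norm _ (cent_anti
      (inf_le_right.trans hVW) (isMulComm_iff_le_cent.1 hW hv)))) hvg hy
      (by rw [hWp v hv]; exact one_mem _)
  by_cases hp2 : p ≠ 2
  · exfalso
    obtain ⟨v, hv, hvg⟩ := hnle V hV1 g hg1
    have h1 : v * v ∉ c g := fun h1 => hvg (mem_of_pow_mem_coprime
      ((Nat.coprime_primes Nat.prime_two hp).2 hp2.symm) (by rwa [sq])
      (by rw [hVe.2 v hv]; exact one_mem _))
    have h2 := norm_mul hVe.1 g hv hv p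
    rw [key V hVe.1 le_rfl hVe.2 v hv hvg g (h.mem g),
      key V hVe.1 le_rfl hVe.2 _ (mul_mem hv hv) h1 g (h.mem g)] at h2
    exact hgp (by simpa using h2)
  push Not at hp2
  subst hp2
  left
  have hP2 : ∀ v ∈ P, v * v = 1 := fun v hv => by rw [← sq, hCp v (hPC hv)]
  have hPc : IsMulCommutative P := isMulComm_iff_le_cent.2 fun a ha =>
    mem_cent.2 fun b hb => commute_of_sq_eq_one hP2 hb ha
  have hinv : ∀ v ∈ P, v ∉ c g → ∀ y ∈ c g, v * y * v = y⁻¹ := fun v hv hvg y hy => by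
    have h1 := key P hPc hVP (fun v hv => hCp v (hPC hv)) v hv hvg y hy
    rw [← mul_eq_one_iff_eq_inv', ← h1, sq]; group
  obtain ⟨v, hv, hvg⟩ := hnle P hP1 g hg1
  have hidx : (c g).relIndex P = 2 := relIndex_eq_two_iff_exists_notMem_and.2 ⟨v, hv, hvg,
    fun w hw => or_iff_not_imp_right.2 fun hwg => h.mem_of_pow' hg1 (n := 2) (by
      have h1 := hinv v hv hvg g (h.mem g)
      have h2 := hinv w hw hwg _ (inv_mem (h.mem g))
      rw [← h1, h1, inv_inv, ← h1] at h2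
      show g * (w * v) = w * v * g
      calc g * (w * v) = w * (v * g * v) * (w * w) * v := by
            nth_rewrite 1 [← h2]; group
        _ = w * v * g * (v * v) := by rw [hP2 w hw]; group
        _ = w * v * g := by rw [hP2 v hv, mul_one]) hgp (by rw [sq, hP2 _ (mul_mem hw hv)])⟩
  have ht : g * v * (g * v) = 1 := by
    rw [← sq]; exact key P hPc hVP (fun v hv => hCp v (hPC hv)) v hv hvg g (h.mem g)
  have htP : g * v ∉ P := fun h1 => hgp (hCp g (hPC (by simpa using mul_mem h1 (inv_mem hv))))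
  obtain ⟨x, hx, hx2, hxi, -⟩ := exists_inverted_of_not_mem_pCore ht htP
  have hfpf : ∀ k : G, k ≠ 1 → k ∈ zpowers x → ∀ u ∈ P, k * u = u * k → u = 1 := by
    intro k hk1 hk u hu hc
    by_contra h1
    have h2 : orderOf k = orderOf x :=
      ((Nat.dvd_prime hx).1 (orderOf_dvd_of_mem_zpowers hk)).resolve_left
        (mt orderOf_eq_one_iff.1 hk1)
    have h3 : k ^ 2 ≠ 1 := fun e => hx2 ((Nat.prime_dvd_prime_iff_eq hx hp).1
      (h2 ▸ orderOf_dvd_of_pow_eq_one e))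
    obtain ⟨n, hn⟩ := exists_pow_of_isPGroup (hpg u h1 fun e => h1 (by
      rw [← mem_bot, ← e]; exact ⟨h.mem u, hu⟩)) (h.mem_of_pow h1 hc.symm (hCp u (hPC hu)) h3)
    exact hx2 (eq_of_prime_pow hp hx h2 hn)
  have hcD : ∀ d ∈ c g ⊓ P, Commute (g * v) d := fun d hd =>
    Commute.mul_left (commute_of_inverts (hP2 v hv) (hinv v hv hvg) (h.mem g) hd.1)
      (commute_of_sq_eq_one hP2 hv hd.2)
  have hbot : (c g ⊓ P) ⊓ (c g ⊓ P) ^ᵍ x = ⊥ := eq_bot_iff.2 fun d hd => by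
    have h1 := hcD d hd.1
    have h2 := hcD _ (mem_conj.1 hd.2)
    have h3 : Commute (x * (g * v) * x⁻¹) d := by
      have := h2.conj x
      rwa [show x * (x⁻¹ * d * x) * x⁻¹ = d by group] at this
    have h4 : g * v * (x * (g * v) * x⁻¹) = x⁻¹ * x⁻¹ := by
      nth_rewrite 2 [← hxi]
      rw [inv_eq_self_of_mul_self ht]; group
    have h5 := h1.mul_left h3
    rw [h4] at h5
    refine hfpf _ (fun e => hx2 ((Nat.prime_dvd_prime_iff_eq hx hp).1
      (orderOf_dvd_of_pow_eq_one ?_))) (mul_mem (inv_mem (mem_zpowers x)) (inv_mem (mem_zpowers x)))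
      d hd.1.2 h5
    rw [← mul_inv_rev, inv_eq_one] at e
    rw [sq, e]
  have h4 : 𝐨(P) = 4 := by
    have h1 := relIndex_inf_le (H := c g ⊓ P) (K := (c g ⊓ P) ^ᵍ x) (L := P)
    have h2 := relIndex_conj (c g ⊓ P) P x
    rw [conj_eq_of_mem_norm (hall P x)] at h2
    rw [hbot, h2, inf_relIndex_right, hidx, relIndex_bot_left] at h1
    have h3 := H1.card_mul_relIndex (inf_le_right : c g ⊓ P ≤ P)
    rw [inf_relIndex_right, hidx] at h3
    have h5 : 𝐨((c g ⊓ P : Subgroup G)) ≠ 1 := fun e => hD (le_bot_iff.1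
      ((inf_le_inf_left _ hVP).trans (card_eq_one.1 e).le))
    have h6 := card_ne_zero (c g ⊓ P)
    omega
  have hx3 : orderOf x = 3 := by
    have h1 := (H9.isFrobAction_conjAction (B := zpowers x) (K := P) (fun k _ => hall P k)
      fun b hb hb1 => hfpf b hb1 hb).card_dvd
    rw [Nat.card_zpowers, h4] at h1
    exact (Nat.prime_dvd_prime_iff_eq hx Nat.prime_three).1 h1
  obtain ⟨K, f, hf⟩ := H1.involves_iff.1 (H1.involves_S4 h4 (hall P x) (hall P _) hx3 (k := 1)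
    (by rw [pow_one, sq, ht]) hxi (eq_bot_iff.2 fun u hu => hfpf x
      (by rintro rfl; simp at hx3) (mem_zpowers x) u hu.1 (mem_cent1.1 hu.2)))
  have h24 := card_le_24 h4 ((cent_anti hVP).trans hCP)
  have h5 : Nat.card (Equiv.Perm (Fin 4)) = 24 := by rw [Nat.card_perm, Nat.card_fin]; rfl
  have h6 := Nat.card_le_card_of_surjective f hf
  have h7 := card_le_card_group K
  obtain rfl : K = ⊤ := eq_top_of_le_card _ (by omega)
  exact ⟨topEquiv.symm.trans (MulEquiv.ofBijective f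
    ((Nat.bijective_iff_surjective_and_card f).2 ⟨hf, by omega⟩))⟩

end Cfsg.Agent.H5
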