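import Cfsg.Agent.H5.Part3
import Cfsg.Agent.H9.ZTB

/-! Partitions of finite groups without solvable normal subgroups: centralizers of involutions. -/

set_option autoImplicit false

namespace Cfsg.Agent.H5

open Cfsg Subgroup Cfsg.Agent.L Cfsg.Agent.FT

universe u

variable {G : Type u} [Group G] [Finite G] {p : ℕ} {c : G → Subgroup G}

omit [Finite G] in
theorem prime_dvd_index (hp : p.Prime) {X : Subgroup G} {y : G} (hy : y ∈ 𝐍(X)) (hyX : y ∉ X)
    (hyp : y ^ p ∈ X) : p ∣ X.index := by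
  have := Fact.mk hp
  have h1 : orderOf ((⟨y, hy⟩ : 𝐍(X)) : 𝐍(X) ⧸ X.subgroupOf 𝐍(X)) = p := orderOf_eq_prime
    (by rw [← QuotientGroup.mk_pow, QuotientGroup.eq_one_iff]; exact hyp)
    (by rw [Ne, QuotientGroup.eq_one_iff]; exact hyX)
  exact (h1 ▸ _root_.orderOf_dvd_natCard _).trans (relIndex_dvd_index_of_le le_normalizer)

theorem NP.exists_conj_notMem (h : NP c) {x : G} (hx : x ≠ 1) (hn : ¬ (c x).Normal) :
    ∃ k : G, k * x * k⁻¹ ∉ c x := by
  by_contra! h1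
  exact hn (normal_iff_top_le.2 fun g _ => h.ti hx (h.mem x) hx (h1 g))

theorem NP.cti (h : NP c) (hF : ¬ ∃ H : Subgroup G, IsFrobeniusComplement H) {z : G} (hz1 : z ≠ 1)
    (hz : z * z = 1) (hn : ¬ (c z).Normal) (hodd : ¬ 2 ∣ (c z).index) : H9.CTI (c z) := by
  have h2 : Fact (Nat.Prime 2) := ⟨Nat.prime_two⟩
  have hall : ∀ w : G, w ≠ 1 → w * w = 1 → ¬ 2 ∣ (c w).index := by
    intro w hw1 hw
    obtain ⟨S, hS⟩ := exists_isSyl Nat.prime_two (c z)
    obtain ⟨g, -, hg⟩ := (hS.trans Nat.prime_two le_top (by rwa [relIndex_top_right])).exists_conj_le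
      Nat.prime_two (Q := zpowers w) (isPGroup_of_card_prime (by
        rw [Nat.card_zpowers]; exact orderOf_eq_prime (by rw [sq, hw]) hw1)) le_top
    rwa [← index_conj _ g, ← h.conj, h.eq z _ hz1 (fun e => hw1 (H9.conj_eq_one_iff.1 e))
      (hS.le (hg (conj_mem_conj (mem_zpowers w) g)))]
  have ha : ∀ w : G, w ≠ 1 → w * w = 1 → ∀ y ∈ 𝐍(c w), y * y = 1 → y ∈ c w := by
    intro w hw1 hw y hy hyy
    by_contra h1
    exact hall w hw1 hw (prime_dvd_index Nat.prime_two hy h1 (by rw [sq, hyy]; exact one_mem _))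
  have hb : ∀ w : G, w ≠ 1 → w * w = 1 → ∀ g, Commute w g → g ∈ c w := by
    intro w hw1 hw g hc
    by_contra h1
    exact h1 (ha w hw1 hw g (h.cent_le hw1 (h.mem w) hw1 (mem_cent1.2 hc))
      (by rw [← sq]; exact h.pow_of_commute hw1 h1 hc (by rw [sq, hw])))
  have hb' : ∀ w ∈ c z, w ≠ 1 → w * w = 1 → ∀ g, Commute w g → g ∈ c z :=
    fun w hw hw1 hww g hc => h.eq z w hz1 hw1 hw ▸ hb w hw1 hww g hc
  refine ⟨fun x hx hx1 g hg => ?_, fun x hx hx1 g hg => h.ti hz1 hx hx1 hg, ?_⟩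
  swap
  · rw [even_iff_two_dvd, ← orderOf_eq_prime (p := 2) (by rw [sq, hz]) hz1]
    exact orderOf_dvd_card_of_mem (h.mem z)
  by_contra hgX
  have hc : Commute x g := mem_cent1.1 hg
  have hgx : g ∉ c x := by rwa [h.eq z x hz1 hx1 hx]
  have hp := h.prime hx1 hgx hc
  have hgp : g ^ orderOf x = 1 := h.pow_of_commute hx1 hgx hc (pow_orderOf_eq_one x)
  have hp2 : (2 : ℕ).Coprime (orderOf x) := (Nat.coprime_primes Nat.prime_two hp).2 fun e =>
    hgX (hb' x hx hx1 (by rw [← sq, e, pow_orderOf_eq_one]) g hc)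
  set p := orderOf x
  have hgN := h.cent_le hz1 hx hx1 hg
  obtain ⟨k, hk⟩ := h.exists_conj_notMem hz1 hn
  set u := k * z * k⁻¹ with hu
  have huu : u * u = 1 := by rw [hu, conj_mul, hz]; group
  have hw : ∀ a ∈ c z, a ≠ 1 → a * a = 1 → ∃ w : G, w * w = 1 ∧ w * a * w = u := by
    intro a ha ha1 haa
    rcases Nat.even_or_odd (orderOf (a * u)) with h1 | h1
    · obtain ⟨m, e1, e2, e3, e4⟩ := exists_invol_commute_of_even haa huu h1
      exact absurd (hb' _ (hb' a ha ha1 haa _ e3.symm) e1 e2 u e4) hk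
    · obtain ⟨m, e1, e2⟩ := exists_invol_conj_of_odd haa huu h1
      exact ⟨_, e1, e2⟩
  have hb1 : g * z * g⁻¹ ∈ c z := (mem_normalizer_iff.1 hgN z).1 (h.mem z)
  obtain ⟨w, hww, hwz⟩ := hw z (h.mem z) hz1 hz
  obtain ⟨v, hvv, hvz⟩ := hw _ hb1 (fun e => hz1 (H9.conj_eq_one_iff.1 e))
    (by rw [conj_mul, hz]; group)
  have hvX : v ∉ c z := fun h1 => hk (hvz ▸ mul_mem (mul_mem h1 hb1) h1)
  have hv1 : v ≠ 1 := by rintro rfl; exact hvX (one_mem _)
  have hvi := inv_eq_self_of_mul_self hvv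
  have hwi := inv_eq_self_of_mul_self hww
  have h1 : g⁻¹ * (v * w) ∈ c z := hb z hz1 hz _ (by
    show z * (g⁻¹ * (v * w)) = g⁻¹ * (v * w) * z
    calc z * (g⁻¹ * (v * w)) = g⁻¹ * (v * v) * (g * z * g⁻¹) * v * w := by rw [hvv]; group
      _ = g⁻¹ * v * (v * (g * z * g⁻¹) * v) * w := by group
      _ = g⁻¹ * (v * w) * z * (w * w) := by rw [hvz, ← hwz]; group
      _ = _ := by rw [hww, mul_one])
  set d := v * w with hd
  have h3 : d = g * (g⁻¹ * d) * g⁻¹ * g := by group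
  have hdN : d ∈ 𝐍(c z) := by simpa using mul_mem hgN (le_normalizer h1)
  have hdp : d ^ p = 1 := h3 ▸ h.coset_pow hz1 hgN hgX ((mem_normalizer_iff.1 hgN _).1 h1)
    (by rw [hgp]; exact one_mem _)
  have hd1 : d ≠ 1 := fun e => hgX (by simpa [e] using h1)
  have hvd : v * d * v = d⁻¹ := by
    rw [hd, mul_inv_rev, hvi, hwi, ← mul_assoc, hvv, one_mul]
  obtain ⟨y, hy, hy1, hdy⟩ := exists_fixed hp (H2.isPGroup_pCoreOf p (c z))
    (pCoreOf_ne_bot hp (h.isNilpotent hF hz1) (orderOf_dvd_card_of_mem hx))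
    (norm_le_norm_pCoreOf hp _ hdN) (k := 1) (by simpa using hdp)
  have hinv := inverts_of_fpf (A := 𝐂[d]) hvv (by
    rw [← conj_eq_self_iff, ← cent1_conj, hvi, hvd, cent1_inv]) fun e he hc => by
      by_contra he1
      have h4 := hb v hv1 hvv e hc
      have h5 := h.cent_le hv1 h4 he1 (mem_cent1_comm.1 he)
      have h6 : d ^ 2 ∈ c v := by
        have := mul_mem ((mem_normalizer_iff.1 h5 v).1 (h.mem v)) (h.mem v)
        rwa [← hvd, show d * v * (v * d * v) * v = d * (v * v) * d * (v * v) by group, hvv,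
          mul_one, mul_one, ← sq] at this
      have h7 := mem_of_pow_mem_coprime hp2 h6 (by rw [hdp]; exact one_mem _)
      have h8 := commute_of_coprime_of_isNilpotent (h.isNilpotent hF hv1) (h.mem v) h7
        (Nat.Coprime.coprime_dvd_right (orderOf_dvd_of_pow_eq_one hdp)
          (by rwa [orderOf_eq_prime (p := 2) (by rw [sq, hvv]) hv1]))
      rw [h8.eq, mul_assoc, hvv, mul_one, eq_inv_iff_mul_eq_one, ← sq] at hvd
      exact hd1 (mem_bot.1 (mem_of_pow_mem_coprime hp2 hvd hdp))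
  have h9 := hinv y (mem_cent1.2 hdy)
  have hyX := (pCoreOf_normal p _).1 hy
  exact hvX (ha z hz1 hz v (h.ti hz1 hyX hy1 (by rw [hvi, h9]; exact inv_mem hyX)) hvv)

/-- The centralizer of the involution `t` is generalized dihedral over `K`. -/
structure Dih (K : Subgroup G) (t s : G) : Prop where
  comm : IsMulCommutative K
  tK : t ∈ K
  t1 : t ≠ 1
  tt : t * t = 1
  ne : ∃ x ∈ K, x * x ≠ 1
  sK : s ∉ K
  ss : s * s = 1
  inv : ∀ x ∈ K, s * x * s = x⁻¹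
  centt : ∀ t' ∈ K, t' ≠ 1 → t' * t' = 1 → ∀ g, Commute t' g → g ∈ K ∨ s * g ∈ K
  cent : ∀ x ∈ K, x * x ≠ 1 → ∀ g, Commute x g → g ∈ K

theorem NP.exists_invol_norm (h : NP c) {t : G} (ht1 : t ≠ 1) (ht : t * t = 1)
    (h2 : 2 ∣ (c t).index) : ∃ s ∈ 𝐍(c t), s ∉ c t ∧ s * s = 1 := by
  have : Fact (Nat.Prime 2) := ⟨Nat.prime_two⟩
  obtain ⟨T, hT⟩ := exists_isSyl Nat.prime_two (c t)
  obtain ⟨S, hS, hTS⟩ := exists_isSyl_ge Nat.prime_two hT.pgrp le_top
  have hlt : T < S := lt_of_le_of_ne hTS fun e => hS.ndvd (by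
    rw [relIndex_top_right, ← e]; exact h2.trans (index_dvd_of_le hT.le))
  obtain ⟨g, hg, hgT⟩ := SetLike.exists_of_lt (lt_inf_norm_of_isNilpotent
    (isNilpotent_of_isPGroup Nat.prime_two hS.pgrp) hlt)
  rw [mem_inf] at hg
  have hgN := h.norm_le ht1 hT.le (hT.ne_bot Nat.prime_two (by
    rw [← orderOf_eq_prime (p := 2) (by rw [sq, ht]) ht1]; exact orderOf_dvd_card_of_mem (h.mem t)))
    hg.2
  have hgK : g ∉ c t := fun h1 => hgT (hT.eq_of_le Nat.prime_two (Q := S ⊓ c t) (le_inf hTS hT.le)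
    inf_le_right (hS.pgrp.to_le inf_le_left) ▸ mem_inf.2 ⟨hg.1, h1⟩)
  obtain ⟨r, m, hr, h3, h4⟩ := exists_pow_prime_mem hgK
  obtain ⟨n, hn⟩ := exists_pow_of_isPGroup hS.pgrp (pow_mem hg.1 m)
  obtain rfl : r = 2 := by
    by_contra h5
    exact h3 (mem_of_pow_mem_coprime (Nat.Coprime.pow_right n
      ((Nat.coprime_primes hr Nat.prime_two).2 h5)) h4 (by rw [hn]; exact one_mem _))
  exact ⟨_, pow_mem hgN m, h3, by rw [← sq]; exact h.pow_eq_one ht1 h3 h4⟩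

theorem NP.dih (h : NP c) {t s : G} (ht1 : t ≠ 1) (ht : t * t = 1) (hs : s ∈ 𝐍(c t))
    (hsK : s ∉ c t) (hss : s * s = 1) (hne : ∃ x ∈ c t, x * x ≠ 1) : Dih (c t) t s := by
  have hinv : ∀ s ∈ 𝐍(c t), s ∉ c t → s * s = 1 → ∀ x ∈ c t, s * x * s = x⁻¹ := by
    intro s hs hsK hss x hx
    have h1 := h.coset_pow ht1 hs hsK hx (n := 2) (by rw [sq, hss]; exact one_mem _)
    rw [← mul_eq_one_iff_eq_inv', ← h1, sq]; group
  have hcomm : ∀ a ∈ c t, ∀ b ∈ c t, a * b = b * a := fun a ha b hb =>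
    commute_of_inverts hss (hinv s hs hsK hss) ha hb
  obtain ⟨x₀, hx₀, hx₀2⟩ := hne
  have hC : ∀ g : G, (∀ k ∈ c t, g * k * g⁻¹ = k) → g ∈ c t := fun g hg => by
    by_contra h1
    have hx1 : x₀ ≠ 1 := by rintro rfl; exact hx₀2 (one_mul 1)
    have h2 := h.pow_of_commute ht1 h1 (mem_cent1.1 (mem_cent1_iff_conj.2 (hg t (h.mem t))))
      (n := 2) (by rw [sq, ht])
    have h3 := h.mem_of_pow' hx1 (mem_cent1.1 (mem_cent1_iff_conj.2 (hg x₀ hx₀))) (n := 2)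
      (by rwa [sq]) h2
    exact h1 (h.eq t x₀ ht1 hx1 hx₀ ▸ h3)
  have hsi := inv_eq_self_of_mul_self hss
  refine ⟨isMulComm_iff_le_cent.2 fun a ha => mem_cent.2 fun b hb => hcomm b hb a ha, h.mem t, ht1,
    ht, ⟨x₀, hx₀, hx₀2⟩, hsK, hss, hinv s hs hsK hss, fun t' ht' h1 h2 g hc => ?_,
    fun x hx hx2 g hc => ?_⟩
  · refine or_iff_not_imp_left.2 fun hg => hC _ fun k hk => ?_
    have h3 : g * g = 1 := by
      rw [← sq]; exact h.pow_of_commute h1 (by rwa [h.eq t t' ht1 h1 ht']) hc (by rw [sq, h2])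
    have h4 := hinv g (h.cent_le ht1 ht' h1 (mem_cent1.2 hc)) hg h3 k hk
    have h5 := hinv s hs hsK hss _ (inv_mem hk)
    rw [inv_inv, ← h4] at h5
    rw [mul_inv_rev, hsi, inv_eq_self_of_mul_self h3]
    exact Eq.trans (by group) h5
  · by_contra hg
    have hx1 : x ≠ 1 := by rintro rfl; exact hx2 (one_mul 1)
    have hgx : g ∉ c x := by rwa [h.eq t x ht1 hx1 hx]
    have hp := h.prime hx1 hgx hc
    have hgp : g ^ orderOf x = 1 := h.pow_of_commute hx1 hgx hc (pow_orderOf_eq_one x)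
    have hp2 : (2 : ℕ).Coprime (orderOf x) := (Nat.coprime_primes Nat.prime_two hp).2 fun e =>
      hx2 (by rw [← sq, e, pow_orderOf_eq_one])
    have hgN := h.cent_le ht1 hx hx1 (mem_cent1.2 hc)
    have h1 : s * g * s * g⁻¹ ∈ c t := hC _ fun k hk => by
      have h2 := hinv s hs hsK hss _ ((mem_normalizer_iff''.1 hgN k).1 hk)
      have h3 := hinv s hs hsK hss _ (inv_mem hk)
      calc _ = s * g * (s * (g⁻¹ * k * g) * s⁻¹) * g⁻¹ * s⁻¹ := by group
        _ = s * k⁻¹ * s := by rw [hsi, h2]; group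
        _ = k := by rw [h3, inv_inv]
    have h2 : (s * g) ^ 2 = s * g * s * g⁻¹ * g ^ 2 := by rw [sq, sq]; group
    have h3 : g ^ 2 ∉ c t := fun h3 => hg (mem_of_pow_mem_coprime hp2 h3
      (by rw [hgp]; exact one_mem _))
    have h4 : Commute ((s * g) ^ 2) x :=
      h2 ▸ Commute.mul_left (hcomm _ h1 x hx) (hc.symm.pow_left 2)
    have h5 := h.pow_of_cent ht1 (a := (s * g) ^ 2)
      (fun h5 => h3 ((mul_mem_cancel_left h1).1 (h2 ▸ h5))) hx hx1 h4 (mul_mem hs hgN)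
      (Commute.pow_self _ 2) (n := orderOf x) (h2 ▸ h.coset_pow ht1 (pow_mem hgN 2) h3 h1
        (by rw [← pow_mul, mul_comm, pow_mul, hgp, one_pow]; exact one_mem _))
    have h6 : s * g ∈ 𝐂[x] := mem_of_pow_mem_coprime hp2 (mem_cent1.2 h4.symm)
      (by rw [h5]; exact one_mem _)
    have h7 : s ∈ 𝐂[x] := by simpa using mul_mem h6 (inv_mem (mem_cent1.2 hc))
    have h8 := hinv s hs hsK hss x hx
    rw [← mem_cent1.1 h7, mul_assoc, hss, mul_one, eq_inv_iff_mul_eq_one] at h8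
    exact hx2 h8

/-- Either a component is a CTI-subgroup, or all centralizers of involutions are elementary or
generalized dihedral. -/
theorem NP.cti_or_dih (h : NP c) (hF : ¬ ∃ H : Subgroup G, IsFrobeniusComplement H)
    (hn : ∀ x, x ≠ 1 → ¬ (c x).Normal) :
    (∃ Q : Subgroup G, H9.CTI Q ∧ Group.IsNilpotent Q) ∨ ∀ t : G, t ≠ 1 → t * t = 1 →
      (∀ g, Commute t g → g * g = 1) ∨ ∃ K s, Dih K t s := by
  by_cases h1 : ∃ z : G, z ≠ 1 ∧ z * z = 1 ∧ ¬ 2 ∣ (c z).index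
  · obtain ⟨z, hz1, hz, h2⟩ := h1
    exact Or.inl ⟨_, h.cti hF hz1 hz (hn z hz1) h2, h.isNilpotent hF hz1⟩
  push Not at h1
  refine Or.inr fun t ht1 ht => ?_
  obtain ⟨s, hs, hsK, hss⟩ := h.exists_invol_norm ht1 ht (h1 t ht1 ht)
  by_cases h2 : ∃ x ∈ c t, x * x ≠ 1
  · exact Or.inr ⟨_, s, h.dih ht1 ht hs hsK hss h2⟩
  push Not at h2
  refine Or.inl fun g hg => ?_
  by_cases h3 : g ∈ c t
  · exact h2 g h3
  · rw [← sq]; exact h.pow_of_commute ht1 h3 hg (by rw [sq, ht])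

end Cfsg.Agent.H5
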