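import Cfsg.Agent.H5.Part4
import Cfsg.Agent.P1.ZStar
import Cfsg.Agent.P2.Main
import Cfsg.Agent.P3.Final

/-! Recognition of `PSL₂(q)`, `PGL₂(q)`, `Sz(q)`, part 1. -/

set_option autoImplicit false

namespace Cfsg.Agent.H5

open Cfsg Subgroup Cfsg.Agent.L Cfsg.Agent.FT
open scoped commutatorElement

universe u

/-- No nontrivial solvable normal subgroup. -/
def SemiS (G : Type u) [Group G] : Prop :=
  ∀ N : Subgroup G, N.Normal → Group.IsSolvable N → N = ⊥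

/-- Three elements whose centralizer orders are "visibly" distinct. -/
def Three (G : Type u) [Group G] : Prop :=
  ∃ x y z : G, ¬ orderOf x ∣ 𝐨(𝐂[y]) ∧ ¬ orderOf x ∣ 𝐨(𝐂[z]) ∧ ¬ orderOf y ∣ 𝐨(𝐂[z])

def IsPSL (G : Type u) [Group G] : Prop := ∃ (F : Type) (_ : Field F) (_ : Fintype F),
  4 ≤ Fintype.card F ∧ Nonempty (G ≃* Matrix.ProjectiveSpecialLinearGroup (Fin 2) F)

def IsPGL (G : Type u) [Group G] : Prop := ∃ (F : Type) (_ : Field F) (_ : Fintype F),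
  5 ≤ Fintype.card F ∧ Odd (Fintype.card F) ∧
    Nonempty (G ≃* (GL (Fin 2) F ⧸ Subgroup.center (GL (Fin 2) F)))

variable {G : Type u} [Group G] [Finite G] {p : ℕ}

omit [Finite G] in
theorem SemiS.exists_conj_notMem (hss : SemiS G) {A : Subgroup G} (hA : Group.IsSolvable A) {t : G}
    (ht : t ≠ 1) : ∃ g : G, g * t * g⁻¹ ∉ A := by
  by_contra! h
  exact ht (mem_bot.1 (hss A.normalCore inferInstance
    (solvable_of_solvable_injective (inclusion_injective A.normalCore_le)) ▸ h))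

theorem SemiS.false_of_isolated (hss : SemiS G) {t : G} (ht1 : t ≠ 1) (ht : t * t = 1)
    (h : ∀ g : G, Commute t (g * t * g⁻¹) → g * t * g⁻¹ = t) : False := by
  have : Fact (Nat.Prime 2) := ⟨Nat.prime_two⟩
  have := pPrimeCore_characteristic (G := G) Nat.prime_two
  have h1 : pPrimeCore 2 G = ⊥ := hss _ inferInstance (feit_thompson _
    (Nat.coprime_two_right.1 (coprime_card_pPrimeCore 2)))
  obtain ⟨g, hg⟩ := hss.exists_conj_notMem (A := zpowers t) inferInstance ht1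
  have h2 := P1.zstar (orderOf_eq_prime (by rw [sq, ht]) ht1) h g
  rw [h1, mem_bot, commutatorElement_eq_one_iff_mul_comm] at h2
  exact hg (by rw [← h2, mul_inv_cancel_right]; exact mem_zpowers t)

theorem exists_conj_mem_of_prime (hp : p.Prime) {H : Subgroup G} (hH : ¬ p ∣ H.index) {b : G}
    (hb : orderOf b = p) : ∃ g : G, g * b * g⁻¹ ∈ H := by
  obtain ⟨S, hS⟩ := exists_isSyl hp H
  obtain ⟨g, -, hg⟩ := (hS.trans hp le_top (by rwa [relIndex_top_right])).exists_conj_le hp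
    (Q := zpowers b) (isPGroup_of_card_prime (by rw [Nat.card_zpowers, hb])) le_top
  exact ⟨g, hS.le (hg (conj_mem_conj (mem_zpowers b) g))⟩

theorem dvd_card_of_dvd_cent (hp : p.Prime) {H : Subgroup G} (hH : ¬ p ∣ H.index)
    (hC : ∀ b ∈ H, b ≠ 1 → 𝐂[b] ≤ H) {a : G} (h : p ∣ 𝐨(𝐂[a])) : orderOf a ∣ 𝐨(H) := by
  obtain ⟨b, hb, hbp⟩ := exists_mem_orderOf_eq_prime hp h
  obtain ⟨g, hg⟩ := exists_conj_mem_of_prime hp hH hbp
  have h1 := hC _ hg (fun e => hp.ne_one (by rw [← hbp, H9.conj_eq_one_iff.1 e, orderOf_one]))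
    (show g * a * g⁻¹ ∈ _ by rw [cent1_conj]; exact conj_mem_conj (mem_cent1_comm.1 hb) g)
  exact ((MulAut.conj g).orderOf_eq a).symm.dvd.trans (orderOf_dvd_card_of_mem h1)

theorem SemiS.cti (hss : SemiS G) {Q : Subgroup G} (h : H9.CTI Q) (hQ : Group.IsNilpotent Q) :
    (IsPSL G ∨ Lie.IsoSuzuki G) ∧ Three G := by
  have : Fact (Nat.Prime 2) := ⟨Nat.prime_two⟩
  obtain ⟨a, ha, ha2⟩ := exists_mem_orderOf_eq_prime Nat.prime_two (even_iff_two_dvd.1 h.even)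
  have ha1 : a ≠ 1 := by rintro rfl; simp at ha2
  have haa : a * a = 1 := by rw [← sq, ← ha2, pow_orderOf_eq_one]
  obtain ⟨b, hb, hb1, hbb, hab⟩ : ∃ b ∈ Q, b ≠ 1 ∧ b * b = 1 ∧ a ≠ b := by
    by_contra! h1
    exact hss.false_of_isolated ha1 haa fun g hg => (h1 _ (h.mem_of_commute ha ha1 hg)
      (fun e => ha1 (H9.conj_eq_one_iff.1 e)) (by rw [conj_mul, haa]; group)).symm
  obtain ⟨H, t, hZ, hN⟩ := h.exists_ZT (fun hn => ha1 (mem_bot.1 (hss Q hn inferInstance ▸ ha)))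
    ha ha1 haa hb hb1 hbb hab
  refine ⟨hZ.sl2_or_isoSuzuki.imp_left fun ⟨n, hn, _, h2⟩ => ⟨GaloisField 2 n, inferInstance,
    Fintype.ofFinite _, by
      rw [← @Nat.card_eq_fintype_card _ (Fintype.ofFinite _), GaloisField.card 2 n (by omega)]
      exact Nat.pow_le_pow_right (n := 2) two_pos hn, h2⟩, ?_⟩
  have hQ0 := card_ne_zero Q
  obtain ⟨m, hm⟩ := h.even
  obtain ⟨l, hl, hld⟩ := Nat.exists_prime_and_dvd (n := 𝐨(Q) + 1) (by omega)
  obtain ⟨y, -, hy⟩ := exists_mem_orderOf_eq_prime hl (H := (⊤ : Subgroup G))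
    (by rw [card_top, hZ.card_G]; exact hld.mul_left _)
  obtain ⟨r, hr, hrd⟩ := exists_prime_dvd_card hZ.frob.ne_botR
  obtain ⟨z, hz, hzr⟩ := exists_mem_orderOf_eq_prime hr hrd
  have hidx : ¬ 2 ∣ Q.index := by
    have h1 := Q.card_mul_index
    rw [hZ.card_G, mul_assoc] at h1
    rw [Nat.eq_of_mul_eq_mul_left Nat.card_pos h1, Nat.prime_two.dvd_mul, not_or]
    have := Nat.odd_iff.1 hZ.odd
    omega
  have hlQ : ¬ l ∣ 𝐨(Q) := fun h1 => hl.ne_one (Nat.dvd_one.1 ((Nat.dvd_add_right h1).1 hld))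
  refine ⟨a, y, z, fun h1 => hlQ ?_, fun h1 => ?_, fun h1 => ?_⟩
  · exact hy ▸ dvd_card_of_dvd_cent Nat.prime_two hidx h.cent (ha2 ▸ h1)
  · have h2 := dvd_card_of_dvd_cent Nat.prime_two hidx h.cent (ha2 ▸ h1)
    obtain rfl := eq_of_prime_dvd_card_of_isPGroup Nat.prime_two hr hZ.isPGroup (hzr ▸ h2)
    have := Nat.odd_iff.1 hZ.odd
    omega
  · have h2 : 𝐂[z] ≤ Q ⊔ H := fun g hg => hN ▸ h.centralizer_le ha ha1 haa (hZ.frob.norm hz)
      (fun h3 => hr.ne_one (by rw [← hzr, hZ.eq_one h3 hz, orderOf_one])) (mem_cent1.1 hg).symm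
    have h3 := (hy ▸ h1).trans (FT.card_dvd_of_le h2)
    rw [hZ.card_B, hl.dvd_mul] at h3
    have h4 := (h3.resolve_left hlQ).trans (H9.isFrobAction_conjAction hZ.frob.norm
      (semiReg_iff.1 hZ.frob.reg)).card_dvd
    have h5 := Nat.dvd_sub hld h4
    rw [show 𝐨(Q) + 1 - (𝐨(Q) - 1) = 2 by omega] at h5
    obtain rfl := (Nat.prime_dvd_prime_iff_eq hl Nat.prime_two).1 h5
    omega

theorem three_of_cent {P : Subgroup G} (hC : ∀ u ∈ P, u ≠ 1 → 𝐂[u] = P) (hP1 : P ≠ ⊥)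
    (hcop : 𝐨(P).Coprime P.index) {t : G} (h1 : 𝐨(P).Coprime 𝐨(𝐂[t])) {j : ℕ} (hj : j ≠ 1)
    (hjG : j ∣ Nat.card G) (hjP : 𝐨(P).Coprime j) (hjt : j.Coprime 𝐨(𝐂[t])) : Three G := by
  obtain ⟨p, hp, hpd⟩ := exists_prime_dvd_card hP1
  obtain ⟨x, -, hx⟩ := exists_mem_orderOf_eq_prime hp hpd
  obtain ⟨r, hr, hrd⟩ := Nat.exists_prime_and_dvd hj
  obtain ⟨y, -, hy⟩ := exists_mem_orderOf_eq_prime hr (H := (⊤ : Subgroup G))
    (by rw [card_top]; exact hrd.trans hjG)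
  refine ⟨x, y, t, fun h => hr.ne_one (Nat.eq_one_of_dvd_coprimes hjP ?_ hrd),
    fun h => hp.ne_one (Nat.eq_one_of_dvd_coprimes h1 hpd (hx ▸ h)),
    fun h => hr.ne_one (Nat.eq_one_of_dvd_coprimes hjt hrd (hy ▸ h))⟩
  exact hy ▸ dvd_card_of_dvd_cent hp (fun h2 => hp.ne_one (Nat.eq_one_of_dvd_coprimes hcop hpd h2))
    (fun b hb hb1 => (hC b hb hb1).le) (hx ▸ h)

theorem psl_num {k q n : ℕ} (hk : 2 ∣ k) (hq : q = 2 * k + 1 ∨ q + 1 = 2 * k) (h5 : 5 ≤ q)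
    (hn : 2 * n + q = q ^ 3) : ∃ j, j ≠ 1 ∧ n = q * (2 * k * j) ∧ q.Coprime (4 * k) ∧
      q.Coprime j ∧ j.Coprime (4 * k) := by
  obtain ⟨m, rfl⟩ := hk
  have hc : ∀ a b : ℕ, ∀ u v : ℤ, u * a + v * b = 1 → a.Coprime b := fun a b u v h =>
    Nat.isCoprime_iff_coprime.1 ⟨u, v, h⟩
  rcases hq with rfl | hq
  · refine ⟨2 * m + 1, by omega, by nlinarith, hc _ _ (1 - 4 * m) (2 * m) (by push_cast; ring),
      hc _ _ (-1) 2 (by push_cast; ring), ?_⟩
    rw [show 4 * (2 * m) = 2 ^ 2 * (2 * m) by ring]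
    exact Nat.Coprime.mul_right (Nat.Coprime.pow_right 2 (hc _ _ 1 (-m) (by push_cast; ring)))
      (hc _ _ 1 (-1) (by push_cast; ring))
  · obtain ⟨m, rfl⟩ : ∃ m', m = m' + 1 := ⟨m - 1, by omega⟩
    obtain rfl : q = 4 * m + 3 := by omega
    refine ⟨2 * m + 1, by omega, by nlinarith, hc _ _ (-(4 * m + 5)) (2 * (m + 1))
      (by push_cast; ring), hc _ _ 1 (-2) (by push_cast; ring), ?_⟩
    rw [show 4 * (2 * (m + 1)) = 2 ^ 2 * (2 * (m + 1)) by ring]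
    exact Nat.Coprime.mul_right (Nat.Coprime.pow_right 2 (hc _ _ 1 (-m) (by push_cast; ring)))
      (hc _ _ (-1) 1 (by push_cast; ring))

theorem bsw_data {K : Subgroup G} {t s : G} (h : P3.BSW K t s) : ∃ (q : ℕ) (P : Subgroup G),
    (q = 2 * 𝐨(K) + 1 ∨ q + 1 = 2 * 𝐨(K)) ∧ 𝐨(P) = q ∧ (∀ u ∈ P, u ≠ 1 → 𝐂[u] = P) ∧
      2 * 𝐨(𝐍(P)) + q = q ^ 2 ∧ 2 * Nat.card G + q = q ^ 3 := by
  have hk : 2 ≤ 𝐨(K) := Nat.le_of_dvd Nat.card_pos h.two_dvd
  rcases hk.eq_or_lt with hk | hk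
  · exact h.small hk.symm
  · obtain ⟨q, P₀, hq, hd⟩ := h.exists_P0 hk
    obtain ⟨P, hP, hC, hN⟩ := hd.exists_sylow
    exact ⟨q, P, hq, hP, hC, hN, hd.card⟩

theorem bsw_concl {K : Subgroup G} {t s : G} (h : P3.BSW K t s) (hk : 2 < 𝐨(K)) :
    IsPSL G ∧ Three G := by
  obtain ⟨q, P, hq, hP, hC, hN, hG⟩ := bsw_data h
  obtain ⟨F, _, _, h1, h2⟩ := h.final hq hP hC hN hG
  refine ⟨⟨F, inferInstance, inferInstance, by omega, h2⟩, ?_⟩
  obtain ⟨j, hj, e, c1, c2, c3⟩ := psl_num h.two_dvd hq (by omega) hG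
  have h3 := P.card_mul_index
  rw [e, hP] at h3
  have h4 : 2 * 𝐨(K) ∣ 4 * 𝐨(K) := Nat.mul_dvd_mul_right (by norm_num) _
  refine three_of_cent hC (fun e => ?_) ?_ (t := t) ?_ hj (e ▸ (dvd_mul_left _ _).mul_left _)
    (hP ▸ c2) ?_
  · rw [e, card_bot] at hP; omega
  · rw [hP, Nat.eq_of_mul_eq_mul_left (by omega) h3]
    exact (c1.coprime_dvd_right h4).mul_right c2
  · rw [hP, h.card_N]; exact c1.coprime_dvd_right h4
  · rw [h.card_N]; exact c3.coprime_dvd_right h4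

namespace Dih

variable {K : Subgroup G} {t s : G}

omit [Finite G]

theorem commute (h : Dih K t s) {x y : G} (hx : x ∈ K) (hy : y ∈ K) : Commute x y :=
  mem_cent.1 (isMulComm_iff_le_cent.1 h.comm hy) x hx

theorem s_mul (h : Dih K t s) (g : G) : s * (s * g) = g := by rw [← mul_assoc, h.ss, one_mul]

theorem coset_sq (h : Dih K t s) {g : G} (hg : s * g ∈ K) : g * g = 1 := by
  have h1 := h.inv _ hg
  rw [h.s_mul, mul_inv_rev, inv_eq_self_of_mul_self h.ss, mul_left_inj] at h1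
  exact mul_eq_one_iff_eq_inv.2 h1

theorem coset (h : Dih K t s) {g : G} (hg : s * g ∈ K) : Dih K t g := by
  have hi := h.coset_sq hg
  refine ⟨h.comm, h.tK, h.t1, h.tt, h.ne, fun h1 => h.sK ((mul_mem_cancel_right h1).1 hg), hi,
    fun x hx => ?_, fun t' ht' h1 h2 y hy => (h.centt t' ht' h1 h2 y hy).imp_right fun h3 => ?_,
    h.cent⟩
  · have h1 := h.inv _ hx
    have h2 := (h.commute hg hx).eq
    calc g * x * g = s * (s * g * x) * g := by rw [mul_assoc s g x, h.s_mul]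
      _ = s * x * s * (g * g) := by rw [h2]; group
      _ = x⁻¹ := by rw [hi, h1, mul_one]
  · have := mul_mem (inv_mem hg) h3
    rwa [mul_inv_rev, inv_eq_self_of_mul_self hi, mul_assoc, inv_mul_cancel_left] at this

theorem commute_s (h : Dih K t s) {e : G} (he : e ∈ K) (hee : e * e = 1) : Commute s e := by
  have h1 := h.inv e he
  rw [inv_eq_self_of_mul_self hee] at h1
  calc s * e = s * (s * e * s) := by rw [h1]
    _ = e * s := by rw [mul_assoc s e, h.s_mul]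

theorem mem_of_sq (h : Dih K t s) {e g : G} (he : e ∈ K) (he1 : e ≠ 1) (hee : e * e = 1)
    (hc : Commute e g) (hg : g * g ≠ 1) : g ∈ K :=
  (h.centt e he he1 hee g hc).resolve_right fun h1 => hg (h.coset_sq h1)

theorem isConj_mul_sq (h : Dih K t s) {k : G} (hk : k ∈ K) : IsConj s (s * (k * k)) := by
  refine isConj_iff.2 ⟨k⁻¹, ?_⟩
  rw [← h.inv k hk]
  nth_rewrite 2 [h.inv k hk]
  rw [inv_inv, mul_assoc (s * k), h.ss]; group

end Dih

theorem SemiS.uniq (hss : SemiS G) (hH : ∀ t : G, t ≠ 1 → t * t = 1 →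
      (∀ g, Commute t g → g * g = 1) ∨ ∃ K s, Dih K t s) {K : Subgroup G} {t s : G}
    (h : Dih K t s) : ∀ x ∈ K, x * x = 1 → x = 1 ∨ x = t := by
  by_contra! h0
  obtain ⟨t', ht', htt', ht1', hne⟩ := h0
  have h1 : ∀ u : G, s * u ∈ K → ∀ g, Commute u g → g * g = 1 := by
    intro u hu
    have hu' := h.coset hu
    refine (hH u (fun e => hu'.sK (e ▸ one_mem K)) hu'.ss).resolve_right ?_
    rintro ⟨U, s', hU⟩
    have h2 : ∀ e ∈ K, e ≠ 1 → e * e = 1 → e ∉ U := fun e he he1 hee heU => by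
      obtain ⟨y, hy, hyy⟩ := hU.ne
      exact hu'.sK (h.cent y (h.mem_of_sq he he1 hee (hU.commute heU hy) hyy) hyy u
        (hU.commute hy hU.tK))
    have h3 : ∀ e ∈ K, e ≠ 1 → e * e = 1 → s' * e ∈ U := fun e he he1 hee =>
      (hU.centt u hU.tK hU.t1 hU.tt e (hu'.commute_s he hee)).resolve_left (h2 e he he1 hee)
    refine h2 (t * t') (mul_mem h.tK ht') (fun e => hne ?_) ?_ ?_
    · rw [← inv_eq_self_of_mul_self h.tt, eq_comm]; exact inv_eq_of_mul_eq_one_right e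
    · rw [← sq, (h.commute h.tK ht').mul_pow, sq, sq, h.tt, htt', one_mul]
    · have := mul_mem (inv_mem (h3 t h.tK h.t1 h.tt)) (h3 t' ht' ht1' htt')
      rwa [mul_inv_rev, mul_assoc, inv_mul_cancel_left, inv_eq_self_of_mul_self h.tt] at this
  obtain ⟨k, hk⟩ := hss.exists_conj_notMem (A := K)
    (isSolvable_of_isNilpotent (isNilpotent_of_isMulComm h.comm)) h.t1
  obtain ⟨x, hx, hxx⟩ := h.ne
  have h2 : ∀ g u : G, s * u ∈ K → g * t * g⁻¹ ≠ u := fun g u hu e => hxx (by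
    have := h1 u hu (g * x * g⁻¹) (e ▸ (h.commute h.tK hx).conj g)
    rwa [conj_mul, H9.conj_eq_one_iff] at this)
  have h3 : ∀ e ∈ K, e ≠ 1 → e * e = 1 → ¬ Commute e (k * t * k⁻¹) := fun e he he1 hee hc =>
    (h.centt e he he1 hee _ hc).elim hk fun h3 => h2 k _ h3 rfl
  have h4 : ∀ u : G, s * u ∈ K → ∀ a b, Commute u a → Commute u b → Commute a b :=
    fun u hu a b ha hb => commute_of_sq_eq_one (A := 𝐂[u])
      (fun g hg => h1 u hu g (mem_cent1.1 hg)) (mem_cent1.2 ha) (mem_cent1.2 hb)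
  have hs : s * s ∈ K := by rw [h.ss]; exact one_mem K
  have htk : k * t * k⁻¹ * (k * t * k⁻¹) = 1 := by rw [conj_mul, h.tt]; group
  rcases Nat.even_or_odd (orderOf (k * t * k⁻¹ * s)) with h5 | h5
  · obtain ⟨m, e1, e2, e3, e4⟩ := exists_invol_commute_of_even htk h.ss h5
    rcases h.centt t h.tK h.t1 h.tt _ (h4 s hs _ _ (h.commute_s h.tK h.tt) e4.symm) with h6 | h6
    · exact h3 _ h6 e1 e2 e3
    · exact h3 t h.tK h.t1 h.tt (h4 _ h6 _ _ ((h.coset h6).commute_s h.tK h.tt) e3)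
  · obtain ⟨m, e1, e2⟩ := exists_invol_conj_of_odd htk h.ss h5
    refine h2 (k * t * k⁻¹ * (k * t * k⁻¹ * s) ^ m * k) s hs ?_
    rw [mul_inv_rev, inv_eq_self_of_mul_self e1]
    exact Eq.trans (by group) e2

end Cfsg.Agent.H5
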