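import Cfsg.Agent.H5.Part5
import Cfsg.Agent.H6.Burnside
import Cfsg.Agent.H8.ThompsonTransfer

/-! Recognition of `PGL₂(q)` and the classification of groups with a nontrivial partition. -/

set_option autoImplicit false

namespace Cfsg.Agent.H5

open Cfsg Subgroup Cfsg.Agent.L Cfsg.Agent.FT

universe u

variable {G : Type u} [Group G] [Finite G]

theorem isPGL_of_cent (hH : ∀ t : G, t ≠ 1 → t * t = 1 →
      (∀ g, Commute t g → g * g = 1) ∨ ∃ K s, Dih K t s) {P : Subgroup G} {q : ℕ}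
    (hC : ∀ u ∈ P, u ≠ 1 → 𝐂[u] = P) (hP : 𝐨(P) = q) (hq : Odd q) (h5 : 5 ≤ q)
    (hN : 𝐨(𝐍(P)) + q = q ^ 2) (hG : Nat.card G + q = q ^ 3) : IsPGL G := by
  obtain ⟨n, rfl⟩ : ∃ n, q = n + 1 := ⟨q - 1, by omega⟩
  have hidx : P.relIndex 𝐍(P) = n := by
    have h1 := H1.card_mul_relIndex (le_normalizer (H := P))
    rw [hP] at h1
    exact Nat.eq_of_mul_eq_mul_left n.succ_pos (by nlinarith)
  have hcop : 𝐨(P).Coprime (P.relIndex 𝐍(P)) := by rw [hP, hidx]; simp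
  obtain ⟨E, hE⟩ := exists_sdProd_of_hall (K := P) (M := 𝐍(P)) ⟨le_normalizer, hcop⟩ le_rfl
  have hEn : 𝐨(E) = n := hE.relIndex_left.symm.trans hidx
  have hPE : ∀ x ∈ P, x ∈ E → x = 1 := fun x h1 h2 => mem_bot.1 (hE.disj ▸ mem_inf.2 ⟨h1, h2⟩)
  have hP1 : P ≠ ⊥ := fun e => by rw [e, card_bot] at hP; omega
  have hodd : Odd 𝐨(P) := hP ▸ hq
  obtain ⟨e, he, he2⟩ := exists_mem_orderOf_eq_prime Nat.prime_two (H := E) (by
    have := Nat.odd_iff.1 hq; omega)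
  have he1 : e ≠ 1 := by rintro rfl; simp at he2
  have hee : e * e = 1 := by rw [← sq, ← he2, pow_orderOf_eq_one]
  have hmul : ∀ w ∈ 𝐍(P), w ≠ 1 → w * w = 1 → w * e ∈ P := fun w hw hw1 hww =>
    P3.mul_mem_of_inverts hC hP1 hee hww (P3.inverts_of_mem_norm hC hodd he1 hee (hE.norm he))
      (P3.inverts_of_mem_norm hC hodd hw1 hww hw)
  have huniq : ∀ w ∈ E, w * w = 1 → w = 1 ∨ w = e := fun w hw hww =>
    or_iff_not_imp_left.2 fun hw1 => by
      have := hPE _ (hmul w (hE.norm hw) hw1 hww) (mul_mem hw he)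
      rw [← inv_eq_self_of_mul_self hee]; exact eq_inv_of_mul_eq_one_left this
  have hcen : ∀ y ∈ E, Commute e y := fun y hy => mem_cent1.1 (mem_cent1_iff_conj.2
    ((huniq _ (mul_mem (mul_mem hy he) (inv_mem hy)) (by rw [conj_mul, hee]; group)).resolve_left
      fun h => he1 (H9.conj_eq_one_iff.1 h)))
  rcases hH e he1 hee with h1 | ⟨Y, τ, hY⟩
  · have h2 : E ≤ zpowers e := fun y hy => by
      rcases huniq y hy (h1 y (hcen y hy)) with rfl | rfl
      exacts [one_mem _, mem_zpowers _]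
    have h3 := card_le_of_le h2
    rw [Nat.card_zpowers] at h3
    omega
  have hEY : E ≤ Y := fun y hy => (hY.centt e hY.tK he1 hee y (hcen y hy)).elim id fun h => by
    rcases huniq y hy (hY.coset_sq h) with rfl | rfl
    exacts [one_mem _, hY.tK]
  have hτi := inv_eq_self_of_mul_self hY.ss
  obtain ⟨F, _, _, h1, h2⟩ := P3.recog_PGL2 (E := E) (τ := τ) (P3.comm_of_cent_eq hC) hP1 hE.norm
    (fun x hx hx1 u hu hc => by_contra fun h => hx1 (hPE x (hC u hu h ▸ mem_cent1.2 hc.symm) hx))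
    (by rw [hP, hEn]) hY.ss (fun x hx => hY.inv x (hEY hx)) (fun u hu hu1 h => by
      have h3 := P3.mem_norm_of_conj_mem hC hcop hu hu1 (g := τ) (by
        rwa [hτi, ← hE.sup, sup_comm])
      have h4 := hmul τ h3 (fun e => hY.sK (e ▸ one_mem Y)) hY.ss
      have h5 := eq_one_of_sq_of_odd hodd h4 (hY.coset_sq (by rw [hY.s_mul]; exact hY.tK))
      exact hY.sK (eq_inv_of_mul_eq_one_left h5 ▸ inv_mem hY.tK))
    (by rw [hP, hEn]; nlinarith)
  exact ⟨F, inferInstance, inferInstance, by omega, by rwa [h1], h2⟩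

omit [Finite G] in
theorem relIndex_eq_two {G₀ H : Subgroup G} (h : G₀.index = 2) {a : G} (ha : a ∈ H) (ha' : a ∉ G₀) :
    G₀.relIndex H = 2 := relIndex_eq_two_iff_exists_notMem_and.2 ⟨a, ha, ha', fun b _ =>
  or_iff_not_imp_right.2 fun hb => (mul_mem_iff_of_index_two h).2 (iff_of_false hb ha')⟩

theorem card_eq_two_mul {G₀ H : Subgroup G} (h : G₀.index = 2) {a : G} (ha : a ∈ H) (ha' : a ∉ G₀) :
    𝐨(H) = 2 * 𝐨((H ⊓ G₀ : Subgroup G)) := by
  rw [← H1.card_mul_relIndex (inf_le_left : H ⊓ G₀ ≤ H), inf_relIndex_left,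
    relIndex_eq_two h ha ha', mul_comm]

omit [Finite G] in
theorem card_subgroupOf (H G₀ : Subgroup G) : 𝐨(H.subgroupOf G₀) = 𝐨((H ⊓ G₀ : Subgroup G)) := by
  rw [← subgroupOf_map_subtype, card_map_of_injective G₀.subtype_injective]

theorem SemiS.pgl (hss : SemiS G) (hH : ∀ t : G, t ≠ 1 → t * t = 1 →
      (∀ g, Commute t g → g * g = 1) ∨ ∃ K s, Dih K t s) {G₀ : Subgroup G} [hn : G₀.Normal]
    (hi : G₀.index = 2) {K₀ : Subgroup G₀} {t s : G₀} (h : P3.BSW K₀ t s)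
    (hCt : 𝐨(𝐂[(t : G)]) = 4 * 𝐨(K₀))
    (hw : ∀ w : G, w ∉ G₀ → w * w = 1 → ∃ t' ∈ G₀, t' ≠ 1 ∧ t' * t' = 1 ∧ Commute w t' ∧
      IsConj w (w * t')) : IsPGL G ∧ Three G := by
  obtain ⟨q, P₀, hq, hP, hC₀, hN₀, hG⟩ := bsw_data h
  have hk := h.two_dvd
  have hk0 := card_ne_zero K₀
  have hG2 := G₀.card_mul_index
  rw [hi] at hG2
  have hqo : Odd q := by rw [Nat.odd_iff]; omega
  have ht1 : (t : G) ≠ 1 := fun e => h.t1 (Subtype.ext e)
  have h5 : 5 ≤ q := by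
    by_contra h1
    obtain rfl : q = 3 := by omega
    have : Group.IsSolvable G := H6.isSolvable_of_primes_two 2 3 fun r hr hd => by
      rw [show Nat.card G = 2 ^ 3 * 3 by omega, hr.dvd_mul] at hd
      exact hd.imp (fun h => (Nat.prime_dvd_prime_iff_eq hr Nat.prime_two).1 (hr.dvd_of_dvd_pow h))
        (Nat.prime_dvd_prime_iff_eq hr Nat.prime_three).1
    exact ht1 (mem_bot.1 (hss ⊤ inferInstance inferInstance ▸ mem_top _))
  obtain ⟨j, hj, hGj, c1, c2, c3⟩ := psl_num hk hq h5 hG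
  set P := P₀.map G₀.subtype with hPdef
  have hPG : P ≤ G₀ := map_subtype_le _
  replace hP : 𝐨(P) = q := by rw [hPdef, card_map_of_injective G₀.subtype_injective, hP]
  have hC1 : ∀ x ∈ P, x ≠ 1 → 𝐂[x] ⊓ G₀ = P := by
    rintro _ ⟨x, hx, rfl⟩ hx1
    rw [hPdef, ← hC₀ x hx fun e => hx1 (congrArg Subtype.val e), inf_comm,
      ← top_inf_eq 𝐂[x], map_inf_cent1 G₀.subtype_injective, ← MonoidHom.range_eq_map,
      range_subtype]
  have hN1 : 𝐨((𝐍(P) ⊓ G₀ : Subgroup G)) = 𝐨(𝐍(P₀)) := by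
    rw [← card_map_of_injective (K := 𝐍(P₀)) G₀.subtype_injective, ← top_inf_eq 𝐍(P₀),
      map_inf_norm G₀.subtype_injective, ← MonoidHom.range_eq_map, range_subtype, inf_comm]
  have hP1 : P ≠ ⊥ := fun e => by rw [e, card_bot] at hP; omega
  have hidx : P.relIndex G₀ = 2 * 𝐨(K₀) * j := by
    have h1 := H1.card_mul_relIndex hPG
    rw [hP, hGj] at h1
    exact Nat.eq_of_mul_eq_mul_left (by omega) h1
  have hN : 𝐨(𝐍(P)) + q = q ^ 2 := by
    obtain ⟨p, hp, hpd⟩ := exists_prime_dvd_card hP1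
    obtain ⟨R, hR⟩ := exists_isSyl hp P
    have h1 := (hR.trans hp hPG fun h1 => hp.ne_one (Nat.eq_one_of_dvd_coprimes
      ((c1.coprime_dvd_right (Nat.mul_dvd_mul_right (by norm_num) _)).mul_right c2) (hP ▸ hpd)
      (hidx ▸ h1))).frattini hp (M := ⊤) ⟨le_top, normal_iff_top_le.1 hn⟩
    obtain ⟨n, hnR, hnG⟩ : ∃ n ∈ 𝐍(R), n ∉ G₀ := by
      by_contra! h2
      rw [top_inf_eq, sup_eq_left.2 h2] at h1
      rw [h1, index_top] at hi
      omega
    obtain ⟨⟨x, hx⟩, hx1⟩ := ne_bot_iff_exists_ne_one.1 (hR.ne_bot hp hpd)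
    have hx1 : x ≠ 1 := fun e => hx1 (Subtype.ext e)
    have h2 : n ∈ 𝐍(P) := by
      rw [← conj_eq_self_iff]
      nth_rewrite 1 [← hC1 x (hR.le hx) hx1]
      rw [conj_inf, ← cent1_conj, conj_eq_of_mem_norm (normal_iff_top_le.1 hn (mem_top n))]
      exact hC1 _ (hR.le ((mem_normalizer_iff.1 hnR x).1 hx)) fun e => hx1 (H9.conj_eq_one_iff.1 e)
    rw [card_eq_two_mul hi h2 hnG, hN1, hN₀]
  have hodd : Odd 𝐨(P) := hP ▸ hqo
  have hC : ∀ x ∈ P, x ≠ 1 → 𝐂[x] = P := by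
    intro x hx hx1
    by_contra h1
    obtain ⟨a, ha, haG⟩ : ∃ a ∈ 𝐂[x], a ∉ G₀ := by
      by_contra! h2
      exact h1 ((inf_eq_left.2 h2).symm.trans (hC1 x hx hx1))
    have h2 := card_eq_two_mul hi ha haG
    rw [hC1 x hx hx1, hP] at h2
    obtain ⟨w, hwx, hw2⟩ := exists_mem_orderOf_eq_prime Nat.prime_two (H := 𝐂[x]) ⟨q, h2⟩
    have hw1 : w ≠ 1 := by rintro rfl; simp at hw2
    have hww : w * w = 1 := by rw [← sq, ← hw2, pow_orderOf_eq_one]
    have hwG : w ∉ G₀ := fun h3 =>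
      hw1 (eq_one_of_sq_of_odd hodd (hC1 x hx hx1 ▸ mem_inf.2 ⟨hwx, h3⟩) hww)
    have hsq : ∀ y ∈ P, y ≠ 1 → y * y ≠ 1 := fun y hy hy1 e => hy1 (eq_one_of_sq_of_odd hodd hy e)
    obtain ⟨U, s', hU⟩ := (hH w hw1 hww).resolve_left fun h3 =>
      hsq x hx hx1 (h3 x (mem_cent1.1 hwx).symm)
    have hxU := hU.mem_of_sq hU.tK hw1 hww (mem_cent1.1 hwx).symm (hsq x hx hx1)
    have hCU : ∀ y ∈ U, y * y ≠ 1 → 𝐂[y] = U := fun y hy hyy => le_antisymm
      (fun g hg => hU.cent y hy hyy g (mem_cent1.1 hg)) fun g hg => mem_cent1.2 (hU.commute hy hg)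
    have hPU : P ≤ U := hC1 x hx hx1 ▸ inf_le_left.trans (hCU x hxU (hsq x hx hx1)).le
    have hNC : 𝐍(P) ≤ 𝐂[w] := fun n hn => by
      have h3 := (mem_normalizer_iff.1 hn x).1 hx
      have h4 := hCU _ (hPU h3) (hsq _ h3 fun e => hx1 (H9.conj_eq_one_iff.1 e))
      rw [cent1_conj, hCU x hxU (hsq x hx hx1)] at h4
      exact mem_cent1_iff_conj.2 ((hss.uniq hH hU _ (h4 ▸ conj_mem_conj hU.tK n)
        (by rw [conj_mul, hww]; group)).resolve_left fun e => hw1 (H9.conj_eq_one_iff.1 e))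
    have hCw : 𝐨(𝐂[w]) = 4 * q := by
      have h3 := H1.card_mul_relIndex (H := U) (K := 𝐂[w])
        fun g hg => mem_cent1.2 (hU.commute hU.tK hg)
      rw [relIndex_eq_two_iff_exists_notMem_and'.2 ⟨s', mem_cent1.2 (hU.commute_s hU.tK hww).symm,
        hU.sK, fun b hb => (hU.centt w hU.tK hw1 hww b (mem_cent1.1 hb)).symm⟩,
        ← hCU x hxU (hsq x hx hx1), h2] at h3
      omega
    have h3 := card_le_of_le hNC
    obtain rfl : q = 5 := by nlinarith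
    obtain ⟨t', ht'G, ht'1, ht't', hwt', hconj⟩ := hw w hwG hww
    have ht'U : t' ∉ U := fun h4 => (hss.uniq hH hU t' h4 ht't').elim ht'1 fun e => hwG (e ▸ ht'G)
    have hU' := hU.coset ((hU.centt w hU.tK hw1 hww t' hwt').resolve_left ht'U)
    have h4 := ncard_isConj_mul_card_centralizer w
    rw [hCw] at h4
    have hsub : insert w ((fun y => w * t' * y) '' (P : Set G)) ⊆ {x | IsConj w x} ∩ 𝐂[w] := by
      rintro _ (rfl | ⟨y, hy, rfl⟩)
      · exact ⟨IsConj.refl _, self_mem_cent1 _⟩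
      refine ⟨?_, mem_cent1.2 (((Commute.refl w).mul_right hwt').mul_right
        (hU.commute hU.tK (hPU hy)))⟩
      obtain ⟨z, hz, rfl⟩ := exists_sq_eq_of_odd hodd hy
      refine hconj.trans (Dih.isConj_mul_sq (K := U) (t := w) (hU'.coset ?_) (hPU hz))
      rw [hwt'.eq, hU'.s_mul]; exact hU.tK
    have h6 : (insert w ((fun y => w * t' * y) '' (P : Set G))).ncard = 6 := by
      rw [Set.ncard_insert_of_notMem, Set.ncard_image_of_injective _ (mul_right_injective _),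
        ← Nat.card_coe_set_eq, SetLike.coe_sort_coe, hP]
      rintro ⟨y, hy, e⟩
      refine ht'U ((mul_mem_cancel_right (hPU hy)).1 ?_)
      rw [show t' * y = 1 by simpa [mul_assoc] using e]; exact one_mem _
    have h7 := Set.eq_of_subset_of_ncard_le (hsub.trans Set.inter_subset_left) (by omega)
    have h8 : w ∉ pCore 2 G := fun h8 => hw1 (mem_bot.1 (hss (pCore 2 G)
      (by have := pCore_characteristic (G := G) Nat.prime_two; infer_instance)
      (isSolvable_of_isNilpotent (isNilpotent_of_isPGroup Nat.prime_two (isPGroup_pCore 2))) ▸ h8))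
    obtain ⟨y, hy, hy2, -, g, hg⟩ := exists_inverted_of_not_mem_pCore hww h8
    have h9 : Commute w (g * w * g⁻¹) :=
      mem_cent1.1 (hsub (h7 ▸ (isConj_iff.2 ⟨g, rfl⟩ : g * w * g⁻¹ ∈ {x | IsConj w x}))).2
    refine hy2 ((Nat.prime_dvd_prime_iff_eq hy Nat.prime_two).1 ((orderOf_dvd_of_mem_zpowers hg).trans
      (orderOf_dvd_of_pow_eq_one ?_)))
    rw [h9.mul_pow, conj_pow, sq, hww]; group
  refine ⟨isPGL_of_cent hH hC hP hqo h5 hN (by omega), three_of_cent hC hP1 ?_ (t := (t : G))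
    (by rwa [hP, hCt]) hj ?_ (hP ▸ c2) (by rwa [hCt])⟩
  · rw [← relIndex_mul_index hPG, hidx, hi, hP,
      show 2 * 𝐨(K₀) * j * 2 = 4 * 𝐨(K₀) * j by ring]
    exact c1.mul_right c2
  · rw [← hG2, hGj]; exact ((dvd_mul_left _ _).mul_left _).mul_right _

theorem Dih.card_cent {K : Subgroup G} {t s : G} (h : Dih K t s) : 𝐨(𝐂[t]) = 2 * 𝐨(K) := by
  have h3 := H1.card_mul_relIndex (H := K) (K := 𝐂[t])
    fun g hg => mem_cent1.2 (h.commute h.tK hg)
  rw [relIndex_eq_two_iff_exists_notMem_and'.2 ⟨s, mem_cent1.2 (h.commute_s h.tK h.tt).symm,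
    h.sK, fun b hb => (h.centt t h.tK h.t1 h.tt b (mem_cent1.1 hb)).symm⟩] at h3
  omega

theorem Dih.exists_sq {K : Subgroup G} {t s : G} (h : Dih K t s)
    (hu : ∀ x ∈ K, x * x = 1 → x = 1 ∨ x = t) :
    ∃ K₂ : Subgroup G, (∀ y, y ∈ K₂ ↔ ∃ k ∈ K, k * k = y) ∧ K₂.relIndex K = 2 := by
  let f : K →* K := ⟨⟨fun k => k * k, mul_one 1⟩, fun a b => Subtype.ext (by
    show a * b * (a * b) = (a * a * (b * b) : G)
    rw [← sq, (h.commute a.2 b.2).mul_pow, sq, sq])⟩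
  refine ⟨f.range.map K.subtype, fun y => ⟨?_, ?_⟩, ?_⟩
  · rintro ⟨_, ⟨k, rfl⟩, rfl⟩; exact ⟨k, k.2, rfl⟩
  · rintro ⟨k, hk, rfl⟩; exact ⟨_, ⟨⟨k, hk⟩, rfl⟩, rfl⟩
  · have : Fact (Nat.Prime 2) := ⟨Nat.prime_two⟩
    have h1 : f.ker = zpowers ⟨t, h.tK⟩ := le_antisymm (fun x hx => by
      rcases hu x x.2 (congrArg Subtype.val hx) with e | e
      · rw [show x = 1 from Subtype.ext e]; exact one_mem _
      · rw [show x = ⟨t, h.tK⟩ from Subtype.ext e]; exact mem_zpowers _)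
      (zpowers_le_of_mem (Subtype.ext h.tt))
    have h2 := f.ker.card_mul_index
    have h3 := f.range.card_mul_index
    rw [index_ker, h1, Nat.card_zpowers, orderOf_mk,
      orderOf_eq_prime (p := 2) (by rw [sq, h.tt]) h.t1, mul_comm, ← h3] at h2
    rw [relIndex, subgroupOf, comap_map_eq_self_of_injective K.subtype_injective]
    exact (Nat.eq_of_mul_eq_mul_left Nat.card_pos h2).symm

theorem SemiS.dih_central (hss : SemiS G) (hH : ∀ t : G, t ≠ 1 → t * t = 1 →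
      (∀ g, Commute t g → g * g = 1) ∨ ∃ K s, Dih K t s) {K : Subgroup G} {t s : G}
    (h : Dih K t s) (hodd : ¬ 2 ∣ (𝐂[t] : Subgroup G).index) : (IsPSL G ∨ IsPGL G) ∧ Three G := by
  have : Fact (Nat.Prime 2) := ⟨Nat.prime_two⟩
  have hu := hss.uniq hH h
  have hD1 : ∀ w : G, w ≠ 1 → w * w = 1 → ∃ g : G, g * w * g⁻¹ = t ∨ s * (g * w * g⁻¹) ∈ K := by
    intro w hw1 hw
    obtain ⟨g, hg⟩ := exists_conj_mem_of_prime Nat.prime_two hodd
      (orderOf_eq_prime (by rw [sq, hw]) hw1)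
    exact ⟨g, (h.centt t h.tK h.t1 h.tt _ (mem_cent1.1 hg)).imp_left fun h1 =>
      (hu _ h1 (by rw [conj_mul, hw]; group)).resolve_left fun e => hw1 (H9.conj_eq_one_iff.1 e)⟩
  have hic : ∀ g w : G, IsConj (g * w * g⁻¹) w := fun g w => (isConj_iff.2 ⟨g, rfl⟩).symm
  by_cases h1 : ∀ u, s * u ∈ K → IsConj t u
  · refine (bsw_concl (K := K) (t := t) (s := s) ⟨h.comm, h.tK, h.t1, h.tt, hu, h.sK, h.ss, h.inv,
      h.centt t h.tK h.t1 h.tt, h.cent, fun w hw1 hw => ?_⟩ ?_).imp_left Or.inl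
    · obtain ⟨g, hg | hg⟩ := hD1 w hw1 hw
      exacts [hg ▸ hic g w, (h1 _ hg).trans (hic g w)]
    · obtain ⟨x, hx, hxx⟩ := h.ne
      have h2 := card_lt_of_lt (lt_of_le_of_ne (zpowers_le_of_mem h.tK) fun e => hxx (by
        rw [← sq, ← orderOf_dvd_iff_pow_eq_one, ← orderOf_eq_prime (p := 2) (by rw [sq, h.tt]) h.t1]
        exact orderOf_dvd_of_mem_zpowers (e ▸ hx)))
      rwa [Nat.card_zpowers, orderOf_eq_prime (p := 2) (by rw [sq, h.tt]) h.t1] at h2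
  obtain ⟨s₁, hs₁, hts⟩ : ∃ s₁, s * s₁ ∈ K ∧ IsConj t s₁ := by
    by_contra! h2
    exact hss.false_of_isolated h.t1 h.tt fun g hg => ((h.centt t h.tK h.t1 h.tt _ hg).elim
      (fun h3 => hu _ h3 (by rw [conj_mul, h.tt]; group))
      fun h3 => absurd (hic g t).symm (h2 _ h3)).resolve_left
        fun e => h.t1 (H9.conj_eq_one_iff.1 e)
  push Not at h1
  obtain ⟨u, hsu, htu⟩ := h1
  have hco : ∀ g, s * g ∈ K → s₁ * g ∈ K := fun g hg => by
    have := mul_mem (inv_mem hs₁) hg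
    rwa [mul_inv_rev, inv_eq_self_of_mul_self (h.coset_sq hs₁), mul_assoc,
      inv_mul_cancel_left] at this
  replace hsu := hco u hsu
  replace hD1 : ∀ w : G, w ≠ 1 → w * w = 1 → ∃ g : G, g * w * g⁻¹ = t ∨ s₁ * (g * w * g⁻¹) ∈ K :=
    fun w h1 h2 => (hD1 w h1 h2).imp fun g hg => hg.imp_right (hco _)
  replace h := h.coset hs₁
  clear hco hs₁ s
  obtain ⟨K₂, hK₂, hi₂⟩ := h.exists_sq hu
  have hdi : ∀ a ∈ K, ∀ b ∈ K, a ∉ K₂ → b ∉ K₂ → a * b ∈ K₂ := fun a ha b hb h1 h2 =>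
    (mul_mem_iff_of_index_two (H := K₂.subgroupOf K) hi₂ (a := ⟨a, ha⟩) (b := ⟨b, hb⟩)).2
      (iff_of_false h1 h2)
  have hK₂K : K₂ ≤ K := fun y hy => by
    obtain ⟨k, hk, rfl⟩ := (hK₂ y).1 hy; exact mul_mem hk hk
  have hcj : ∀ g, s₁ * g ∈ K₂ → IsConj t g := fun g hg => by
    obtain ⟨k, hk, e⟩ := (hK₂ _).1 hg
    have := h.isConj_mul_sq hk
    rw [e, h.s_mul] at this
    exact hts.trans this
  have hu2 : s₁ * u ∉ K₂ := fun h1 => htu (hcj u h1)
  have huu := h.coset_sq hsu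
  have hu1 : u ≠ 1 := fun e => (h.coset hsu).sK (e ▸ one_mem K)
  have hsi := inv_eq_self_of_mul_self h.ss
  let M : Subgroup G :=
    { carrier := {g | g ∈ K₂ ∨ s₁ * g ∈ K₂}
      one_mem' := Or.inl (one_mem _)
      mul_mem' := by
        have hc : ∀ a ∈ K₂, s₁ * a * s₁ ∈ K₂ := fun a ha => h.inv a (hK₂K ha) ▸ inv_mem ha
        rintro a b (ha | ha) (hb | hb)
        · exact Or.inl (mul_mem ha hb)
        · refine Or.inr ?_
          have := mul_mem (hc a ha) hb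
          rwa [mul_assoc (s₁ * a), h.s_mul, mul_assoc] at this
        · exact Or.inr (by rw [← mul_assoc]; exact mul_mem ha hb)
        · refine Or.inl ?_
          have := mul_mem (hc _ ha) hb
          rwa [h.s_mul, mul_assoc, h.s_mul] at this
      inv_mem' := by
        rintro a (ha | ha)
        · exact Or.inl (inv_mem ha)
        · rw [inv_eq_self_of_mul_self (h.coset_sq (hK₂K ha))]; exact Or.inr ha }
  have hM : ∀ g : G, g * u * g⁻¹ ∉ M := by
    rintro g (h1 | h1)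
    · rcases hu _ (hK₂K h1) (by rw [conj_mul, huu]; group) with e | e
      exacts [hu1 (H9.conj_eq_one_iff.1 e), htu (e ▸ hic g u)]
    · exact htu ((hcj _ h1).trans (hic g u))
  have hMC : M ≤ 𝐂[t] := by
    rintro g (h1 | h1)
    · exact mem_cent1.2 (h.commute h.tK (hK₂K h1))
    · exact mem_cent1.2 ((h.coset (hK₂K h1)).commute_s h.tK h.tt).symm
  have hMi : M.relIndex 𝐂[t] = 2 := by
    refine relIndex_eq_two_iff_exists_notMem_and.2 ⟨s₁ * u, mem_cent1.2 (h.commute h.tK hsu), ?_,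
      fun b hb => ?_⟩
    · rintro (h1 | h1)
      · exact hu2 h1
      · rw [h.s_mul] at h1; exact (h.coset hsu).sK (hK₂K h1)
    rcases h.centt t h.tK h.t1 h.tt b (mem_cent1.1 hb) with h1 | h1
    · by_cases h2 : b ∈ K₂
      exacts [Or.inr (Or.inl h2), Or.inl (Or.inl (hdi _ h1 _ hsu h2 hu2))]
    · by_cases h2 : s₁ * b ∈ K₂
      exacts [Or.inr (Or.inr h2), Or.inl (Or.inr (by
        rw [← mul_assoc]; exact hdi _ h1 _ hsu h2 hu2))]
  obtain ⟨G₀, hn, hi, huG⟩ := H8.exists_normal_index_two_of_not_conj M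
    (Nat.odd_iff.2 (Nat.two_dvd_ne_zero.1 hodd)) (by rw [← relIndex_mul_index hMC, hMi])
    (by rw [sq, huu]) hM
  have hK₂G : K₂ ≤ G₀ := fun y hy => by
    obtain ⟨k, -, rfl⟩ := (hK₂ y).1 hy; exact mul_self_mem_of_index_two hi k
  obtain ⟨g₀, hg₀⟩ := isConj_iff.1 hts
  have hsG : s₁ ∈ G₀ := by
    by_contra h1
    have h2 : t ∉ G₀ := fun h2 => h1 (hg₀ ▸ hn.conj_mem t h2 g₀)
    exact h2 ((mul_mem_cancel_right ((mul_mem_iff_of_index_two hi).2 (iff_of_false h1 huG))).1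
      (hK₂G (hdi t h.tK _ hsu (fun h3 => h2 (hK₂G h3)) hu2)))
  have hkG : s₁ * u ∉ G₀ := fun h1 => huG ((mul_mem_cancel_left hsG).1 h1)
  have hKG : ∀ k ∈ K, k ∈ G₀ → k ∈ K₂ := fun k hk hkG' => by
    by_contra h1
    exact hkG ((mul_mem_cancel_left hkG').1 (hK₂G (hdi k hk _ hsu h1 hu2)))
  have htG : t ∈ G₀ := by simpa [← hg₀, mul_assoc] using hn.conj_mem' _ hsG g₀
  refine (hss.pgl hH hi (K₀ := K.subgroupOf G₀) (t := ⟨t, htG⟩) (s := ⟨s₁, hsG⟩)
    ⟨isMulComm_iff_le_cent.2 fun a ha => mem_cent.2 fun b hb => Subtype.ext (h.commute hb ha),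
      h.tK, fun e => h.t1 (congrArg Subtype.val e), Subtype.ext h.tt,
      fun x hx hxx => (hu x hx (congrArg Subtype.val hxx)).imp Subtype.ext Subtype.ext, h.sK,
      Subtype.ext h.ss, fun x hx => Subtype.ext (h.inv x hx),
      fun g hg => h.centt t h.tK h.t1 h.tt g (congrArg Subtype.val hg),
      fun x hx hxx g hg => h.cent x hx (fun e => hxx (Subtype.ext e)) g (congrArg Subtype.val hg),
      fun w hw1 hw => ?_⟩ ?_ fun w hwG hw => ?_).imp_left Or.inr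
  · have h1 : IsConj t w := by
      obtain ⟨g, hg | hg⟩ := hD1 w (fun e => hw1 (Subtype.ext e)) (congrArg Subtype.val hw)
      · exact hg ▸ hic g w
      · exact (hcj _ (hKG _ hg (mul_mem hsG (hn.conj_mem _ w.2 g)))).trans (hic g w)
    obtain ⟨g, hg⟩ := isConj_iff.1 h1
    by_cases h2 : g ∈ G₀
    · exact isConj_iff.2 ⟨⟨g, h2⟩, Subtype.ext hg⟩
    · refine isConj_iff.2 ⟨⟨g * (s₁ * u), (mul_mem_iff_of_index_two hi).2 (iff_of_false h2 hkG)⟩,
        Subtype.ext ?_⟩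
      show g * (s₁ * u) * t * (g * (s₁ * u))⁻¹ = w
      rw [mul_assoc g, (h.commute hsu h.tK).eq, ← hg]; group
  · rw [h.card_cent, card_subgroupOf, card_eq_two_mul hi hsu hkG]; ring
  · obtain ⟨g, hg | hg⟩ := hD1 w (by rintro rfl; exact hwG (one_mem _)) hw
    · exact absurd (by simpa [← hg, mul_assoc] using hn.conj_mem' _ htG g) hwG
    obtain ⟨k, hk, hkt⟩ := (hK₂ t).1 (hKG t h.tK htG)
    have h1 := (h.coset hg).isConj_mul_sq hk
    have h2 := ((h.coset hg).commute_s h.tK h.tt).conj g⁻¹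
    rw [hkt] at h1
    refine ⟨g⁻¹ * t * g, hn.conj_mem' _ htG g, fun e => h.t1 (H9.conj_eq_one_iff.1
      (by rw [inv_inv]; exact e)), ?_, by simpa [mul_assoc] using h2,
      ((hic g w).symm.trans h1).trans ?_⟩
    · rw [show g⁻¹ * t * g * (g⁻¹ * t * g) = g⁻¹ * (t * t) * g by group, h.tt]; group
    · exact isConj_iff.2 ⟨g⁻¹, by group⟩

theorem SemiS.dih (hss : SemiS G) (hH : ∀ t : G, t ≠ 1 → t * t = 1 →
      (∀ g, Commute t g → g * g = 1) ∨ ∃ K s, Dih K t s) (h2 : 2 ∣ Nat.card G) :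
    (IsPSL G ∨ IsPGL G ∨ Lie.IsoSuzuki G) ∧ Three G := by
  have : Fact (Nat.Prime 2) := ⟨Nat.prime_two⟩
  have hab : ∀ t : G, (∀ g, Commute t g → g * g = 1) → IsMulCommutative 𝐂[t] := fun t h =>
    isMulComm_iff_le_cent.2 fun a ha => mem_cent.2 fun b hb =>
      commute_of_sq_eq_one (fun g hg => h g (mem_cent1.1 hg)) hb ha
  by_cases h1 : ∀ t : G, t ≠ 1 → t * t = 1 → ∀ g, Commute t g → g * g = 1
  · obtain ⟨t, ht⟩ := exists_prime_orderOf_dvd_card' 2 h2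
    have ht1 : t ≠ 1 := by rintro rfl; simp at ht
    have htt : t * t = 1 := by rw [← sq, ← ht, pow_orderOf_eq_one]
    have h3 : ∀ a b : G, a ≠ 1 → a * a = 1 → b ∈ 𝐂[a] → 𝐂[a] ≤ 𝐂[b] := fun a b ha haa hb g hg =>
      mem_cent1.2 (mem_cent.1 (isMulComm_iff_le_cent.1 (hab a (h1 a ha haa)) hg) b hb)
    have h4 : ∀ x ∈ 𝐂[t], x ≠ 1 → 𝐂[x] = 𝐂[t] := fun x hx hx1 => le_antisymm
      (h3 x t hx1 (h1 t ht1 htt x (mem_cent1.1 hx)) (mem_cent1_comm.1 hx)) (h3 t x ht1 htt hx)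
    refine (hss.cti (Q := 𝐂[t]) ⟨fun x hx hx1 => (h4 x hx hx1).le, fun x hx hx1 g hg => ?_, ?_⟩
      (isNilpotent_of_isMulComm (hab t (h1 t ht1 htt)))).imp_left fun h => h.imp_right Or.inr
    · rw [← conj_eq_self_iff, ← h4 x hx hx1, ← cent1_conj,
        h4 _ hg fun e => hx1 (H9.conj_eq_one_iff.1 e), h4 x hx hx1]
    · exact even_iff_two_dvd.2 (ht ▸ orderOf_dvd_card_of_mem (self_mem_cent1 t))
  push Not at h1
  obtain ⟨t, ht1, htt, g, hg, hgg⟩ := h1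
  obtain ⟨S, hS, htS⟩ := exists_isSyl_ge Nat.prime_two (Q := zpowers t) (isPGroup_of_card_prime
    (by rw [Nat.card_zpowers]; exact orderOf_eq_prime (by rw [sq, htt]) ht1)) le_top
  obtain ⟨z, hz, hz2⟩ := exists_mem_orderOf_eq_prime Nat.prime_two
    (prime_dvd_card_of_isPGroup Nat.prime_two (hS.pgrp.to_le inf_le_left) (center_ne_bot
      (isNilpotent_of_isPGroup Nat.prime_two hS.pgrp) (hS.ne_bot Nat.prime_two (by rwa [card_top]))))
  have hz1 : z ≠ 1 := by rintro rfl; simp at hz2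
  have hSz : S ≤ 𝐂[z] := mem_cent_iff_cent1.1 hz.2
  have hodd : ∀ w : G, S ≤ 𝐂[w] → ¬ 2 ∣ (𝐂[w] : Subgroup G).index := fun w hw h =>
    hS.ndvd (by rw [relIndex_top_right]; exact h.trans (index_dvd_of_le hw))
  rcases hH z hz1 (by rw [← sq, ← hz2, pow_orderOf_eq_one]) with h3 | ⟨K, s, h3⟩
  · obtain ⟨K, s, h4⟩ := (hH t ht1 htt).resolve_left fun h => hgg (h g hg)
    exact (hss.dih_central hH h4 (hodd t fun a ha => mem_cent1.2 (mem_cent.1
      (isMulComm_iff_le_cent.1 (hab z h3) (hSz ha)) t (hSz (htS (mem_zpowers t)))))).imp_left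
      fun h => h.imp_right Or.inl
  · exact (hss.dih_central hH h3 (hodd z hSz)).imp_left fun h => h.imp_right Or.inl

/-- The classification of finite groups with a nontrivial partition. -/
theorem partition_classification [Nontrivial G] {d : G → Subgroup G} (hd : Part d)
    (hne : ∀ x, x ≠ 1 → d x ≠ ⊤) : Nonempty (G ≃* Equiv.Perm (Fin 4)) ∨
    (∃ p : ℕ, p.Prime ∧ closure {g : G | g ^ p ≠ 1} ≠ ⊤) ∨
    (∃ H : Subgroup G, IsFrobeniusComplement H) ∨
    ((IsPSL G ∨ IsPGL G ∨ Lie.IsoSuzuki G) ∧ Three G) := by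
  obtain ⟨c, h, -⟩ := exists_np hd hne
  by_cases hF : ∃ H : Subgroup G, IsFrobeniusComplement H
  · exact Or.inr (Or.inr (Or.inl hF))
  by_cases hn : ∀ x, x ≠ 1 → ¬ (c x).Normal
  swap
  · push Not at hn
    obtain ⟨x, hx, hn⟩ := hn
    exact Or.inr (Or.inl (h.normal_case hF hx hn))
  by_cases hss : SemiS G
  swap
  · simp only [SemiS, not_forall] at hss
    obtain ⟨N, _, _, hN⟩ := hss
    exact (h.fitting_case hF hn N hN).imp_right Or.inl
  refine Or.inr (Or.inr (Or.inr ?_))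
  rcases h.cti_or_dih hF hn with ⟨Q, hQ, hQn⟩ | hH
  · exact (hss.cti hQ hQn).imp_left fun h => h.imp_right Or.inr
  refine hss.dih hH ?_
  by_contra h2
  have := feit_thompson G (Nat.odd_iff.2 (Nat.two_dvd_ne_zero.1 h2))
  exact top_ne_bot (hss ⊤ inferInstance inferInstance)

end Cfsg.Agent.H5
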